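import Mathlib
import Cfsg.Agent.Base
import Cfsg.Agent.Lib.M12C.LemE

/-!
# A model of the centraliser of an involution, more tools (helper70)
-/

set_option autoImplicit false

namespace H70.TM

open Subgroup H69 Cfsg

variable {E G : Type*} [Group E] [Group G] {φ : E →* G} {z : E}

theorem Act.conj {m : G} {u w : E} (k : E) (h : Act φ m u w) :
    Act φ (φ k * m * (φ k)⁻¹) (k * u * k⁻¹) (k * w * k⁻¹) := by
  have := ((Act.self φ k u).symm.trans h).trans (Act.self φ k w)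
  rwa [← mul_assoc] at this

theorem Tri.conj {v q : E} {m : G} (T : Tri φ z v q m) {k : E}
    (h : k * z * k⁻¹ = z ∧ k * v * k⁻¹ = v ∧ k * q * k⁻¹ = q) : Tri φ z v q (φ k * m * (φ k)⁻¹) :=
  ⟨by rw [conj_mul, conj_mul, T.m3]; simp, by
    rw [← show _ = φ q from Act.of_cj φ h.2.2, conj_mul, conj_mul, T.qm, conj_inv],
    (T.mz.conj k).of_eq ⟨h.1, h.2.1⟩, (T.mv.conj k).of_eq ⟨h.2.1, by rw [← conj_mul, h.1, h.2.1]⟩⟩

theorem comm_eq {m n U Q B : G} (hQ : Q * m * Q = m⁻¹) (Q2 : Q * Q = 1) (hB : n * Q * n⁻¹ = B)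
    (hU : n * m * n⁻¹ = U * m) : m * (Q * U⁻¹ * B) * m⁻¹ = Q * B * U := by
  have a : m * Q * m = Q := by
    calc _ = Q * Q * m * Q * m := by rw [Q2, one_mul]
      _ = Q * (Q * m * Q) * m := by group
      _ = _ := by rw [hQ]; group
  have b : m⁻¹ * Q = Q * m := by rw [← hQ, mul_assoc, Q2, mul_one]
  obtain rfl : U = n * m * n⁻¹ * m⁻¹ := by rw [hU]; group
  subst hB
  calc _ = m * Q * m * n * (m⁻¹ * Q) * n⁻¹ * m⁻¹ := by group
    _ = _ := by rw [a, b]; group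

/-- an involution whose centraliser has an element of order 3 centralising a four-group -/
theorem Mod.not_cj_of_three (M : Mod φ z)
    (hE : ∀ y : E, y * y * y = 1 → y = 1 ∨ ∀ w, w * y = y * w → w * w = 1 → w = 1 ∨ w = z)
    {e f : E} (h : f * e = e * f ∧ f * f = 1 ∧ f ≠ 1 ∧ f ≠ e) {p : G} (p3 : p * p * p = 1)
    (p1 : p ≠ 1) (pe : Act φ p e e) (pf : Act φ p f f) : ¬ Cj (φ z) (φ e) := fun ⟨g, h1⟩ => by
  have k : ∀ y, y * φ e = φ e * y → ∃ u, φ u = g⁻¹ * y * g⁻¹⁻¹ := fun y hy => M.ran _ (by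
    have := cj_comm g⁻¹ hy
    rwa [cj_symm h1] at this)
  obtain ⟨y, hy⟩ := k p (cj_eq_iff'.1 pe)
  obtain ⟨w, hw⟩ := k _ (M.comm_iff.2 h.1)
  have a : Act φ g⁻¹ f w := hw.symm
  rcases hE y (M.inj (by rw [map_mul, map_mul, hy, conj_mul, conj_mul, p3]; simp)) with rfl | c
  · exact p1 (conj_eq_one_iff.1 (hy.symm.trans (map_one φ)))
  rcases c w (M.comm_iff.1 (by rw [hy, hw]; exact cj_comm _ (cj_eq_iff'.1 pf).symm))
    (M.act_eq (a.mul a) ((Act.one φ _).of_eq ⟨h.2.1.symm, rfl⟩)) with rfl | rfl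
  · exact h.2.2.1 (M.act_eq' a (Act.one φ _))
  · exact h.2.2.2 (M.act_eq' a (Act.symm h1))

/-- the product of two involutions normalising a subgroup of order 8 -/
theorem Mod.cube (M : Mod φ z) {v q g : E} {m : G} (T : Tri φ z v q m) {N : Subgroup E}
    (hE : EData z N) {f : E → E} (hf : ∀ e ∈ N, f e ∈ N ∧ Act φ m e (f e))
    (h2 : q * q = 1 ∧ g * g = 1) (h3 : ∀ e ∈ N, g * f (q * (g * f (q * (g * f (q * e * q⁻¹) * g⁻¹) *
      q⁻¹) * g⁻¹) * q⁻¹) * g⁻¹ = e)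
    (hn : ∀ e ∈ N, e ≠ 1 → g * e = e * g → f (q * e * q⁻¹) = e → ¬ Cj (φ g) (φ (f e * q))) :
    φ g * (m * φ q) * (φ g * (m * φ q)) * (φ g * (m * φ q)) = 1 := by
  have k : ∀ e ∈ N, g * f (q * e * q⁻¹) * g⁻¹ ∈ N ∧
      Act φ (φ g * (m * φ q)) e (g * f (q * e * q⁻¹) * g⁻¹) := fun e he =>
    ⟨hE.nrm _ _ (hf _ (hE.nrm q e he)).1,
      ((Act.self φ q e).trans (hf _ (hE.nrm q e he)).2).trans (Act.self φ g _)⟩
  have q2 : φ q * φ q = 1 := by rw [← map_mul, h2.1, map_one]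
  have g2 : φ g * φ g = 1 := by rw [← map_mul, h2.2, map_one]
  have iq := inv_eq_of_mul_eq_one_right q2
  have mq : m * φ q * (m * φ q) = 1 := by rw [mul_assoc, ← mul_assoc (φ q), T.qm, mul_inv_cancel]
  set w := φ g * (m * φ q) with hw
  have k3 : ∀ e ∈ N, Act φ (w * w * w) e e := fun e he => by
    have := (((k e he).2.trans (k _ (k e he).1).2).trans (k _ (k _ (k e he).1).1).2).of_eq ⟨rfl, h3 e he⟩
    rwa [← mul_assoc] at this
  obtain ⟨e, he⟩ := M.ran _ (cj_eq_iff'.1 (k3 z hE.mem))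
  have eN : e ∈ N := hE.cen e fun y hy => M.comm_iff.1 (he ▸ (cj_eq_iff'.1 (k3 y hy)).symm)
  have e2 : e⁻¹ = e := inv_eq_of_mul_eq_one_right (hE.ea e eN).1
  have a : Act φ (φ g) e e := by
    rw [Act, he, ← conj_mul, ← conj_mul, show φ g * w * (φ g)⁻¹ = w⁻¹ from H9.left_inverts g2 mq,
      ← mul_inv_rev, ← mul_inv_rev, ← mul_assoc, ← he, ← map_inv, e2]
  have b : Act φ w e e := by rw [Act, he]; group
  have c : g * e = e * g := M.comm_iff.1 (cj_eq_iff'.1 a)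
  have d : f (q * e * q⁻¹) = e := by
    exact mul_left_cancel (mul_right_cancel ((M.act_eq (k e eN).2 b).trans (cj_eq_iff'.2 c).symm))
  by_contra h1
  refine hn e eN (fun e1 => h1 (by rw [← he, e1, map_one])) c d ⟨m * w, ?_⟩
  have m2 : m * m * m * φ q = m * (m * φ q) * m⁻¹ := by
    rw [← T.qm]
    calc _ = m * m * (φ q * φ q) * m * φ q := by rw [q2]; group
      _ = _ := by group
  rw [map_mul, ← show _ = _ from (hf e eN).2, he, ← one_mul (φ q), ← T.m3, m2, conj_mul,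
    cj_trans (a := φ g) (g := w) (k := m) rfl rfl]
  congr 2
  rw [show w⁻¹ = m * φ q * φ g by
    rw [hw, mul_inv_rev, inv_eq_of_mul_eq_one_right mq, inv_eq_of_mul_eq_one_right g2]]
  calc _ = w * w * φ g := by rw [hw]; group
    _ = w * w * (φ g * (m * φ q * (m * φ q))) := by rw [mq, mul_one]
    _ = _ := by rw [hw]; group

end H70.TM
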