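import Mathlib
import Cfsg.Agent.Base
import Cfsg.Agent.Lib.M12C.Mod2
import Cfsg.Agent.Lib.M12C.TH2

/-!
# The centraliser of type `A₈`: the normalisers of four-groups (helper70)
-/

set_option autoImplicit false
set_option maxRecDepth 100000

namespace H70.H2

open Subgroup H69 Cfsg H70.TM

noncomputable def z : E := a * a
noncomputable def v1 : E := a * c
noncomputable def q1 : E := d * a
noncomputable def v2 : E := d * c * b
noncomputable def q2 : E := d * b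
noncomputable def v3 : E := d * b * a

variable {G : Type*} [Group G] {φ : E →* G} {m n : G}

theorem ker : ∀ u : E, u = 1 ∨ u = z ∨ ∃ k ∈ [a, b, c, d, x], ∃ l ∈ [a, b, c, d, x],
    u * k * u⁻¹ * k⁻¹ * l * (u * k * u⁻¹ * k⁻¹)⁻¹ * l⁻¹ = z := by decide +kernel

theorem mod_of_rel [Finite G] {a' b' c' d' x' t' : G} (h : Rel a' b' c' d' x' t') (h1 : a' * a' ≠ 1)
    (hc : Nat.card 𝐂₀(a' * a') ≤ 192) : ∃ φ : E →* G, Mod φ z ∧ φ z = a' * a' := by
  obtain ⟨φ, e, -⟩ := model h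
  have e' : φ z = a' * a' := by rw [z, map_mul, e]
  exact ⟨φ, mod_of (inj_of ker (e' ▸ h1)) (by decide +kernel) (by rwa [e', card]), e'⟩

theorem reframe (M : Mod φ z) {a' b' c' d' x' t' : E} (h : Rel a' b' c' d' x' t' ∧ a' * a' = z) :
    ∃ ψ : E →* G, Mod ψ z ∧ ψ z = φ z ∧ ψ v1 = φ (a' * c') ∧ ψ v2 = φ (d' * c' * b') := by
  obtain ⟨τ, ta, tb, tc, td, -⟩ := model h.1
  have tz : τ z = z := by rw [z, map_mul, ta, h.2, z]
  exact ⟨φ.comp τ, M.reframe (inj_of ker (f := τ) (tz.symm ▸ M.ne)) tz, congrArg φ tz,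
    congrArg φ (by rw [v1, map_mul, ta, tc]), congrArg φ (by rw [v2, map_mul, map_mul, tb, tc, td])⟩

/-- the Sylow subgroup -/
noncomputable def S0 : Subgroup E :=
  El.sub (fun u => u * v1 = v1 * u ∨ u * v1 = z * v1 * u) (by decide +kernel)

noncomputable instance (u : E) : Decidable (u ∈ S0) :=
  inferInstanceAs (Decidable (u * v1 = v1 * u ∨ u * v1 = z * v1 * u))

theorem syl : Syl z S0 :=
  ⟨by decide +kernel, by decide +kernel, by decide +kernel, by decide +kernel⟩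

theorem cls : ∀ w : E, w * w = 1 → w ≠ 1 →
    w = z ∨ Cj v1 w ∨ Cj v2 w ∨ Cj v3 w ∨ Cj t w ∨ Cj (t * z) w := by decide +kernel

theorem hE : ∀ w : E, w * w = 1 → w ≠ 1 → w ≠ z → (∃ p, p * p = 1 ∧ p * w * p = z * w) ∨
    ∀ u, u * w = w * u → ∀ u', u' * w = w * u' → u * u' = u' * u := by decide +kernel

/-- words for the elements of the centraliser of `v1` -/
def D1 : ℕ := nat_lit 0xf740003c0000000038000000000000d030000140048000001c0000000000000000001f000000000000000001a000000603600640900000b0000000140000b018008806005c0500000000070000040015002001100098020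

/-- words for the elements of the centraliser of `v2` -/
def D2 : ℕ := nat_lit 0x700005800000000000000000000000000000000da80000000003a000000000000001e6800001c1f0000000280000000024004018582a0700007800c0001a4980000c00000a0000000022004ee000000065001100000400

theorem wv1 : ∀ u : E, u * v1 = v1 * u → wv D1 a t (d * b) v1 u = u := by decide +kernel
theorem wv2 : ∀ u : E, u * v2 = v2 * u → wv D2 b t (a * c) v2 u = u := by decide +kernel

theorem alpha : ∀ s1 : E, s1 * v1 = v1 * s1 → s1 * s1 = v1 → ∀ s2 : E, s2 * v1 = v1 * s2 →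
    s2 * s2 = 1 → s2 * s1 * s2 = z * v1 * s1 → ∀ s3 : E, s3 * v1 = v1 * s3 → s3 * s3 = 1 →
    (∀ u ∈ [a, t, d * b], wv D1 s1 s2 s3 (z * v1) (wv D1 s1 s2 s3 (z * v1) u) =
      q1 * wv D1 s1 s2 s3 (z * v1) (q1 * u * q1) * q1) →
    ∃ t' ∈ [t, t * z], ∃ k ∈ [1, a], wv D1 s1 s2 s3 (z * v1) a = k * (t' * d * b) * k⁻¹ ∧
      wv D1 s1 s2 s3 (z * v1) (k * t' * k⁻¹) = k * (b⁻¹ * t' * b) * k⁻¹ ∧
      wv D1 s1 s2 s3 (z * v1) (k * (d * b) * k⁻¹) = k * (d⁻¹ * b) * k⁻¹ := by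
  decide +kernel

theorem beta : ∀ s1 : E, s1 * v2 = v2 * s1 → s1 * s1 = v2 → ∀ s2 : E, s2 * v2 = v2 * s2 →
    s2 * s2 = 1 → s2 * s1 * s2 = v2 * s1 * (z * v2) → ∀ s3 : E, s3 * v2 = v2 * s3 → s3 * s3 = 1 →
    (∀ u ∈ [b, t, a * c], wv D2 s1 s2 s3 (z * v2) (wv D2 s1 s2 s3 (z * v2) u) =
      q2 * wv D2 s1 s2 s3 (z * v2) (q2 * u * q2) * q2) →
    s2 = c * a ∧ s3 = t * c * a ∧ (s1 = t * b ∨ s1 = b * t) ∨
      s2 = d * a * b ∧ s3 = a * t * a ∧ (s1 = d * t * a ∨ s1 = t * c * d) := by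
  decide +kernel

/-- the normaliser of the first four-group -/
structure MT (φ : E →* G) (m : G) : Prop where
  M : Mod φ z
  T : Tri φ z v1 q1 m
  ma : Act φ m a (t * d * b)
  mt : Act φ m t (b⁻¹ * t * b)
  mdb : Act φ m (d * b) (d⁻¹ * b)

/-- the action of `m` -/
noncomputable def al (u : E) : E := wv D1 (t * d * b) (b⁻¹ * t * b) (d⁻¹ * b) (z * v1) u

theorem MT.act (h : MT φ m) {u w : E} (e : u * v1 = v1 * u ∧ al u = w) : Act φ m u w :=
  e.2 ▸ Act.wv h.ma h.mt h.mdb h.T.mv (wv1 u e.1)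

theorem exists_frame (M : Mod φ z) (h : Cj (φ z) (φ v1)) :
    ∃ (ψ : E →* G) (m : G), MT ψ m ∧ ψ z = φ z ∧ Cj (φ v2) (ψ v2) ∧ Cj (φ v3) (ψ v3) := by
  obtain ⟨m, T⟩ := M.exists_tri (q := q1) hE (by decide +kernel) h
  obtain ⟨s1, a1, b1⟩ := M.tri_act T (u := a) (by decide +kernel)
  obtain ⟨s2, a2, b2⟩ := M.tri_act T (u := t) (by decide +kernel)
  obtain ⟨s3, a3, b3⟩ := M.tri_act T (u := d * b) (by decide +kernel)
  have k : ∀ u, u * v1 = v1 * u → Act φ m u (wv D1 s1 s2 s3 (z * v1) u) := fun u hu =>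
    Act.wv b1 b2 b3 T.mv (wv1 u hu)
  have k' : ∀ u, u * v1 = v1 * u → wv D1 s1 s2 s3 (z * v1) u * v1 = v1 * wv D1 s1 s2 s3 (z * v1) u :=
    fun u hu => M.act_comm (k u hu) T.mz (M.cen u)
  obtain ⟨t', ht, k0, hk, c1, c2, c3⟩ := alpha s1 a1 (M.act_eq (b1.mul b1) T.mz) s2 a2
    (M.act_eq (b2.mul b2) ((Act.one φ m).of_eq (by decide +kernel)))
    (M.act_eq ((b2.mul b1).mul b2) ((T.mv.mul b1).of_eq ⟨by decide +kernel, rfl⟩)) s3 a3
    (M.act_eq (b3.mul b3) ((Act.one φ m).of_eq (by decide +kernel))) (fun u hu => by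
      have : u * v1 = v1 * u ∧ q1 * u * q1 * v1 = v1 * (q1 * u * q1) := by revert u; decide +kernel
      exact M.tri_sq T (by decide +kernel) (k u this.1) (k _ (k' u this.1)) (k _ this.2))
  have f : Rel a b c d x t' ∧ k0 * a * k0⁻¹ = a ∧ k0 * z * k0⁻¹ = z ∧ k0 * v1 * k0⁻¹ = v1 ∧
      k0 * q1 * k0⁻¹ = q1 ∧ k0 * t' * k0⁻¹ * v1 = v1 * (k0 * t' * k0⁻¹) ∧
      k0 * (d * b) * k0⁻¹ * v1 = v1 * (k0 * (d * b) * k0⁻¹) := by
    clear c1 c2 c3; revert t' k0; decide +kernel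
  obtain ⟨f0, f1, f2, f3, f4, f5, f6⟩ := f
  obtain ⟨τ, ta, tb, tc, td, -, tt⟩ := model f0
  have tz : τ z = z := by rw [z, map_mul, ta]
  have tv : τ v1 = v1 := by rw [v1, map_mul, ta, tc]
  have tq : τ q1 = q1 := by rw [q1, map_mul, ta, td]
  have t2 : τ v2 = v2 := by rw [v2, map_mul, map_mul, tb, tc, td]
  have t3 : τ v3 = v3 := by rw [v3, map_mul, map_mul, tb, ta, td]
  let σ : E →* E := (MulAut.conj k0).toMonoidHom.comp τ
  have hσ : ∀ u, σ u = k0 * τ u * k0⁻¹ := fun _ => rfl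
  have sz : σ z = z := by rw [hσ, tz, f2]
  have sv : σ v1 = v1 := by rw [hσ, tv, f3]
  have sq : σ q1 = q1 := by rw [hσ, tq, f4]
  have M' := M.reframe (inj_of ker (f := σ) (sz.symm ▸ M.ne)) sz
  have A : ∀ {u w}, Act φ m (σ u) (σ w) → Act (φ.comp σ) m u w := id
  have T' : Tri (φ.comp σ) z v1 q1 m := ⟨T.m3, by rw [MonoidHom.comp_apply, sq, T.qm],
    A (by rw [sz, sv]; exact T.mz), A (by rw [map_mul, sz, sv]; exact T.mv)⟩
  refine ⟨φ.comp σ, m, ⟨M', T', A ((k a (by decide +kernel)).of_eq ⟨by rw [hσ, ta, f1], ?_⟩),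
    A ((k _ f5).of_eq ?_), A ((k _ f6).of_eq ?_)⟩, congrArg φ sz,
    Cj.map φ ⟨k0, by rw [hσ, t2]⟩, Cj.map φ ⟨k0, by rw [hσ, t3]⟩⟩ <;>
  simp only [hσ, map_mul τ, map_inv τ, tt, td, tb, c1, c2, c3, and_self]

/-- the first normal subgroup of order 8 -/
noncomputable def N1 : Subgroup E :=
  El.sub (· ∈ [1, z, v1, z * v1, q2, z * q2, v1 * q2, z * v1 * q2]) (by decide +kernel)

/-- the second normal subgroup of order 8 -/
noncomputable def N2 : Subgroup E :=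
  El.sub (· ∈ [1, z, v2, z * v2, q1, z * q1, v2 * q1, z * v2 * q1]) (by decide +kernel)

noncomputable instance (u : E) : Decidable (u ∈ N1) := inferInstanceAs
  (Decidable (u ∈ [1, z, v1, z * v1, q2, z * q2, v1 * q2, z * v1 * q2]))

noncomputable instance (u : E) : Decidable (u ∈ N2) := inferInstanceAs
  (Decidable (u ∈ [1, z, v2, z * v2, q1, z * q1, v2 * q1, z * v2 * q1]))

theorem eData1 : EData z N1 :=
  ⟨(El.card_subtype (· ∈ N1)).trans (by decide +kernel), card, by decide +kernel, by decide +kernel,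
    by decide +kernel, by decide +kernel⟩

theorem eData2 : EData z N2 :=
  ⟨(El.card_subtype (· ∈ N2)).trans (by decide +kernel), card, by decide +kernel, by decide +kernel,
    by decide +kernel, by decide +kernel⟩

theorem MT.al_mem (h : MT φ m) : ∀ e ∈ N1, al e ∈ N1 ∧ Act φ m e (al e) := fun e he =>
  have := (by decide +kernel : ∀ e ∈ N1, e * v1 = v1 * e ∧ al e ∈ N1) e he
  ⟨this.2, h.act ⟨this.1, rfl⟩⟩

theorem MT.kt (h : MT φ m) : Act φ m (z * v2) t := h.act (by decide +kernel)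
theorem MT.ktz (h : MT φ m) : Act φ m (z * v3) (t * z) := h.act (by decide +kernel)

theorem MT.e8 [Finite G] (h : MT φ m) (n2 : ¬ Cj (φ z) (φ v2)) (n3 : ¬ Cj (φ z) (φ v3)) : E8 G := by
  have k1 : ∀ u, φ u ∈ 𝐍(N1.map φ) := fun u =>
    norm_map fun e he => ⟨_, eData1.nrm u e he, Act.self φ u e⟩
  have km : m ∈ 𝐍(N1.map φ) := norm_map fun e he => ⟨_, h.al_mem e he⟩
  have c : ∀ w : E, w * w = 1 → w ∉ N1 → Cj v2 w ∨ Cj v3 w ∨ Cj t w ∨ Cj (t * z) w := by
    decide +kernel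
  refine h.M.e8 syl eData1 (fun u hu => by_contra fun hn => ?_) (fun e he e1 => ?_)
    (fun w w2 hw => ?_) ⟨v3, by decide +kernel⟩
  · rcases c u (h.M.inj (by
      rw [map_mul, hu.sq (mul_self_of_ord2 h.M.ordz), map_one])) hn with e | e | e | e
    · exact n2 (hu.trans (e.map φ).symm)
    · exact n3 (hu.trans (e.map φ).symm)
    · exact n2 (((hu.trans (e.map φ).symm).trans h.kt.cj.symm).trans (Cj.map φ (by decide +kernel)))
    · exact n3 (((hu.trans (e.map φ).symm).trans h.ktz.cj.symm).trans (Cj.map φ (by decide +kernel)))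
  · rcases (by decide +kernel : ∀ e ∈ N1, e ≠ 1 → e = z ∨ Cj v1 e) e he e1 with rfl | ⟨g, e⟩
    · exact ⟨1, one_mem _, by simp [Act]⟩
    · exact ⟨_, mul_mem (k1 g) km, h.T.mz.trans (Act.of_cj φ e)⟩
  · rcases c w w2 hw with ⟨g, e⟩ | ⟨g, e⟩ | ⟨g, e⟩ | ⟨g, e⟩
    · exact ⟨_, k1 g, v2, Act.of_cj φ e, by unfold TM.Tv; decide +kernel⟩
    · exact ⟨_, k1 g, v3, Act.of_cj φ e, by unfold TM.Tv; decide +kernel⟩
    · exact ⟨_, mul_mem (k1 g) km, _, h.kt.trans (Act.of_cj φ e), by unfold TM.Tv; decide +kernel⟩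
    · exact ⟨_, mul_mem (k1 g) km, _, h.ktz.trans (Act.of_cj φ e), by unfold TM.Tv; decide +kernel⟩

/-- the normalisers of both four-groups -/
structure NT0 (φ : E →* G) (m n : G) : Prop extends MT φ m where
  T2 : Tri φ z v2 q2 n
  nb : Act φ n b (t * b)
  nt : Act φ n t (c * a)
  nac : Act φ n (a * c) (t * c * a)

/-- the action of `n` -/
noncomputable def be (u : E) : E := wv D2 (t * b) (c * a) (t * c * a) (z * v2) u

theorem NT0.act2 (h : NT0 φ m n) {u w : E} (e : u * v2 = v2 * u ∧ be u = w) : Act φ n u w :=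
  e.2 ▸ Act.wv h.nb h.nt h.nac h.T2.mv (wv2 u e.1)

theorem MT.exists_nt0 (h : MT φ m) (hc : Cj (φ z) (φ v2)) : ∃ n, NT0 φ m n := by
  have M := h.M
  obtain ⟨n, T⟩ := M.exists_tri (q := q2) hE (by decide +kernel) hc
  obtain ⟨s1, a1, b1⟩ := M.tri_act T (u := b) (by decide +kernel)
  obtain ⟨s2, a2, b2⟩ := M.tri_act T (u := t) (by decide +kernel)
  obtain ⟨s3, a3, b3⟩ := M.tri_act T (u := a * c) (by decide +kernel)
  have k : ∀ u, u * v2 = v2 * u → Act φ n u (wv D2 s1 s2 s3 (z * v2) u) := fun u hu =>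
    Act.wv b1 b2 b3 T.mv (wv2 u hu)
  have k' : ∀ u, u * v2 = v2 * u → wv D2 s1 s2 s3 (z * v2) u * v2 = v2 * wv D2 s1 s2 s3 (z * v2) u :=
    fun u hu => M.act_comm (k u hu) T.mz (M.cen u)
  rcases beta s1 a1 (M.act_eq (b1.mul b1) (T.mz.of_eq ⟨by decide +kernel, rfl⟩)) s2 a2
    (M.act_eq (b2.mul b2) ((Act.one φ n).of_eq (by decide +kernel)))
    (M.act_eq ((b2.mul b1).mul b2) (((T.mz.mul b1).mul T.mv).of_eq ⟨by decide +kernel, rfl⟩)) s3 a3
    (M.act_eq (b3.mul b3) ((Act.one φ n).of_eq (by decide +kernel))) (fun u hu => by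
      have : u * v2 = v2 * u ∧ q2 * u * q2 * v2 = v2 * (q2 * u * q2) := by revert u; decide +kernel
      exact M.tri_sq T (by decide +kernel) (k u this.1) (k _ (k' u this.1)) (k _ this.2)) with
    ⟨rfl, rfl, rfl | rfl⟩ | ⟨rfl, rfl, -⟩
  · exact ⟨n, h, T, b1, b2, b3⟩
  · exact ⟨_, h, T.conj (k := v1) (by decide +kernel), (b1.inv.conj v1).of_eq (by decide +kernel),
      (b2.conj v1).of_eq (by decide +kernel), (b3.conj v1).of_eq (by decide +kernel)⟩
  · have c1 : Act φ n (a * c) (a * t * a) := b3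
    have c2 : Act φ n (b * t * b) (z * v1) :=
      (b2.mul T.mv).of_eq (by decide +kernel)
    have c3 : Act φ n (z * v1) (d * t * d) := (T.mz.mul b3).of_eq (by decide +kernel)
    have c4 : Act φ n (d * a * b) (t * d * a * b) := (T.mv.mul b3).of_eq (by decide +kernel)
    have e1 : Act φ _ z z := (((h.T.mz.trans c1).trans (h.act (u := a * t * a) (w := b * t * b)
      (by decide +kernel))).trans c2).trans (h.M.tri_inv h.T)
    have e2 : Act φ _ v1 v2 := (((h.T.mv.trans c3).trans (h.act (u := d * t * d) (w := d * a * b)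
      (by decide +kernel))).trans c4).trans (h.act (u := t * d * a * b) (w := v2) (by decide +kernel))
    obtain ⟨g, hg⟩ := M.ran _ (cj_eq_iff'.1 e1)
    exact absurd ⟨g, M.act_eq (Act.self φ g v1) (hg ▸ e2)⟩ (by decide +kernel : ¬ Cj v1 v2)

end H70.H2
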