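import Mathlib
import Cfsg.Agent.Base
import Cfsg.Agent.Lib.M12C.TA8
import Cfsg.Agent.Lib.CGT.Check

/-! Generators of `A8` satisfying the presentation (helper70; generated) -/

set_option autoImplicit false
set_option maxRecDepth 100000

namespace H70.A8
open H70.TM H18.TC Subgroup Cfsg H54

noncomputable def cfg : H54.Cfg := ⟨8, 8, 3, 7, 0xfac688,
  0x249249,
  0x6db6db,
  0x924924,
  (.cons 64 585 12
    (.cons 65 36873 6
    (.cons 66 266305 3
    (.cons 88 36873 6
    (.cons 89 585 12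
    .nil)))))⟩
theorem cfg_check : cfg.check = true := by decide +kernel

noncomputable def ch_6 : H54.Chain := .nil
noncomputable def ch_t5 : H54.Tr :=
 (.node 0 (.leaf 0x120040080000000100000004)
 (.node 1 (.leaf 0x20000040001000200000000)
 (.leaf 0x4000000000004)))
noncomputable def ch_5 : H54.Chain := .cons 4 19 ch_t5
  [0xfa86a1]
  [] ch_6
noncomputable def ch_t4 : H54.Tr :=
 (.node 1 (.node 0 (.leaf 0x90001100000000200000001)
 (.leaf 0x10000040001000100000002))
 (.node 2 (.leaf 0x2000000000002)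
 (.node 4 (.leaf 0x10820000400004000201000001)
 (.leaf 0x120040080009000000000000))))
noncomputable def ch_4 : H54.Chain := .cons 2 23 ch_t4
  [0xfac642, 0xfa86a1]
  [[9]] ch_5
noncomputable def ch_t3 : H54.Tr :=
 (.node 2 (.node 0 (.leaf 0x830000400000000201000002)
 (.node 1 (.leaf 0x10810000040001000200000002)
 (.leaf 0x10920040080002000100000006)))
 (.node 6 (.node 4 (.leaf 0x100b0001100004000101000006)
 (.leaf 0x6000000000006))
 (.node 8 (.leaf 0x10920040080008000000000000)
 (.leaf 0x100b0001100009000000000000))))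
noncomputable def ch_3 : H54.Chain := .cons 6 87 ch_t3
  [0xea8666, 0xf29616]
  [[9, 8, 9, 9, 8, 2, 1], [9, 9, 8, 6, 8, 0]] ch_4
noncomputable def ch_t2 : H54.Tr :=
 (.node 3 (.node 1 (.node 0 (.leaf 0x108a0000140000000101000003)
 (.leaf 0x810000140001000400000004))
 (.node 2 (.leaf 0x10830001100002000201000006)
 (.leaf 0x3000000000003)))
 (.node 6 (.node 4 (.leaf 0x94820142440004000301000002)
 (.leaf 0x4101042080006000100000003))
 (.node 8 (.leaf 0x4101042080008000000000000)
 (.leaf 0x108a0000140009000000000000))))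
noncomputable def ch_2 : H54.Chain := .cons 3 95 ch_t2
  [0xee9ca0, 0xeab10e]
  [[6, 1, 8, 8, 2, 6, 6], [4, 9, 2, 0]] ch_3
noncomputable def ch_t1 : H54.Tr :=
 (.node 4 (.node 1 (.node 0 (.leaf 0x84930042440000000100000005)
 (.leaf 0x8100005c0001000301000003))
 (.node 2 (.leaf 0x84031042400002000202000000)
 (.node 3 (.leaf 0x930001580003000201000000)
 (.leaf 0x10000040140004000101000005))))
 (.node 6 (.node 5 (.leaf 0x5000000000005)
 (.leaf 0x9b0001500006000200000004))
 (.node 8 (.leaf 0x84930042440008000000000000)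
 (.node 9 (.leaf 0x10000040140009000000000000)
 (.leaf 0x9000000000a000000000000)))))
noncomputable def ch_1 : H54.Chain := .cons 5 127 ch_t1
  [0xe4689d, 0xf66283, 0xfac21a]
  [[8, 4, 10, 0, 2, 10, 0, 1], [9, 8, 10, 1, 1, 4]] ch_2
noncomputable def ch_t0 : H54.Tr :=
 (.node 6 (.node 2 (.node 0 (.leaf 0x49b0001040000000205000001)
 (.node 1 (.leaf 0x949b1040000001000100000007)
 (.leaf 0x4920041000002000101000007)))
 (.node 4 (.node 3 (.leaf 0x4920040040003000203000001)
 (.leaf 0x90001041040004000105000007))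
 (.node 5 (.leaf 0x90091000040005000103000007)
 (.leaf 0x1041040006000200000001))))
 (.node 11 (.node 8 (.node 7 (.leaf 0x7000000000007)
 (.leaf 0x949b1040000008000000000000))
 (.node 9 (.leaf 0x4920041000009000000000000)
 (.leaf 0x9009100004000b000000000000)))
 (.node 13 (.node 12 (.leaf 0x9000000240000c000000000000)
 (.leaf 0x9000104104000d000000000000))
 (.node 14 (.leaf 0x8008004004000e000000000000)
 (.leaf 0x9001014004000f000000000000)))))
noncomputable def ch_0 : H54.Chain := .cons 7 255 ch_t0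
  [0x21a977, 0x4c8fa5, 0x4c1fac, 0xb3705a, 0xb1af88, 0x9774c1, 0x9bd099, 0x9ee642]
  [[12, 11, 8, 5, 14], [11, 9, 0, 4, 0, 13, 15, 1], [3, 7, 13, 2]] ch_1
noncomputable def ch : H54.Chain := ch_0

theorem ch_low0 : H54.checkLow cfg ch_0 = true := by decide +kernel
theorem ch_low : H54.checkLow cfg ch = true := ch_low0
theorem ch_size : ch.size cfg.n = 20160 := by decide +kernel


/-- the group -/
abbrev P : Type := alternatingGroup (Fin 8)

def ga : P := ⟨⟨![7, 6, 5, 4, 2, 3, 0, 1], ![6, 7, 4, 5, 3, 2, 1, 0], by decide, by decide⟩,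
  Equiv.Perm.mem_alternatingGroup.2 (by decide +kernel)⟩
def gb : P := ⟨⟨![5, 4, 6, 7, 0, 1, 3, 2], ![4, 5, 7, 6, 1, 0, 2, 3], by decide, by decide⟩,
  Equiv.Perm.mem_alternatingGroup.2 (by decide +kernel)⟩
def gc : P := ⟨⟨![4, 5, 6, 7, 1, 0, 3, 2], ![5, 4, 7, 6, 0, 1, 2, 3], by decide, by decide⟩,
  Equiv.Perm.mem_alternatingGroup.2 (by decide +kernel)⟩
def gd : P := ⟨⟨![2, 3, 1, 0, 7, 6, 4, 5], ![3, 2, 0, 1, 6, 7, 5, 4], by decide, by decide⟩,
  Equiv.Perm.mem_alternatingGroup.2 (by decide +kernel)⟩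
def gx : P := ⟨⟨![0, 1, 6, 7, 2, 3, 4, 5], ![0, 1, 4, 5, 6, 7, 2, 3], by decide, by decide⟩,
  Equiv.Perm.mem_alternatingGroup.2 (by decide +kernel)⟩
def gt : P := ⟨⟨![1, 0, 3, 2, 7, 6, 5, 4], ![1, 0, 3, 2, 7, 6, 5, 4], by decide, by decide⟩,
  Equiv.Perm.mem_alternatingGroup.2 (by decide +kernel)⟩
def gm : P := ⟨⟨![1, 3, 2, 0, 5, 7, 6, 4], ![3, 0, 2, 1, 7, 4, 6, 5], by decide, by decide⟩,
  Equiv.Perm.mem_alternatingGroup.2 (by decide +kernel)⟩
def gn : P := ⟨⟨![2, 0, 1, 3, 6, 5, 7, 4], ![1, 2, 0, 3, 7, 5, 4, 6], by decide, by decide⟩,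
  Equiv.Perm.mem_alternatingGroup.2 (by decide +kernel)⟩

theorem card : Nat.card P = 20160 := by rw [nat_card_alternatingGroup]; simp [Nat.factorial]

theorem rel : Rel ga gb gc gd gx gt gm gn := by decide +kernel

theorem rep : List.Forall₂ (Rep cfg (finPt 8)) [ga, gb, gc, gd, gx, gt, gm, gn] ch.gens := by
  rw [show ch.gens = [2206071, 5017509, 4988844, 11759706, 11644808, 9925825, 10211481, 10413634] by decide +kernel]
  refine .cons ?_ (.cons ?_ (.cons ?_ (.cons ?_ (.cons ?_ (.cons ?_ (.cons ?_ (.cons ?_ (.nil)))))))) <;> intro i hi <;> change i < 8 at hi <;>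
    interval_cases i <;> decide +kernel

theorem top : closure {g | g ∈ [ga, gb, gc, gd, gx, gt, gm, gn]} = ⊤ := by
  have hK : Kfix P cfg (finPt 8) = ⊥ := Kfix_eq_bot (finPt_surj rfl)
  have ht := (good_of_card_le (ctx_fin (n := 8) cfg_check rfl) hK (H := ⊤) (ch := ch) (fun s hs => by
    obtain ⟨g, r⟩ := valid_of_forall₂ rep s hs
    exact ⟨g, mem_top _, r⟩) ch_low (by rw [card_top, card, ch_size])).2
  rwa [grp_eq_closure hK rep] at ht

theorem iso {G : Type*} [Group G] [Finite G] [Nontrivial G] {a b c d x t m n : G}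
    (h : Rel a b c d x t m n) (ht : closure {g | g ∈ [a, b, c, d, x, t, m, n]} = ⊤) :
    Nonempty (G ≃* alternatingGroup (Fin 8)) := by
  have : IsSimpleGroup P := alternatingGroup.isSimpleGroup (by simp)
  exact iso_of_card rfl top ht ((bound (rel.prod h)).trans card.ge)

/-- some consequences of the relations -/
def Words {G : Type*} [Group G] (a b c d t m n : G) : Prop :=
  (m * (a * t * a) * n⁻¹) * (m * (a * t * a) * n⁻¹) * (m * (a * t * a) * n⁻¹) = 1 ∧
  (m * (a * t * a) * n⁻¹) * (d * b * a) = d * b * a * (m * (a * t * a) * n⁻¹) ∧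
  (m * (a * t * a) * n⁻¹) * (a * t * a) = a * t * a * (m * (a * t * a) * n⁻¹) ∧
  (m * (a * t * a) * n⁻¹) * (d * a * b) * (m * (a * t * a) * n⁻¹)⁻¹ = d * t * d ∧
  (m * (a * t * a) * n⁻¹) * (d * t * d) * (m * (a * t * a) * n⁻¹)⁻¹ = d * a * b * (d * t * d) ∧
  c * b * (m * (a * t * a) * n⁻¹) * (c * b)⁻¹ = (m * (a * t * a) * n⁻¹)⁻¹

theorem words {G : Type*} [Group G] [Finite G] {a b c d x t m n : G} (h : Rel a b c d x t m n) :
    Words a b c d t m n := by
  obtain ⟨θ, e⟩ := hom_of_card (p := [ga, gb, gc, gd, gx, gt, gm, gn]) (l := [a, b, c, d, x, t, m, n]) rfl top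
    ((bound (rel.prod h)).trans card.ge)
  simp only [List.map_cons, List.map_nil, List.cons.injEq, and_true] at e
  obtain ⟨rfl, rfl, rfl, rfl, -, rfl, rfl, rfl⟩ := e
  have : Words ga gb gc gd gt gm gn := by unfold Words; decide +kernel
  obtain ⟨h0, h1, h2, h3, h4, h5⟩ := this
  exact ⟨by simpa only [map_mul, map_inv, map_one] using congrArg θ h0,
    by simpa only [map_mul, map_inv, map_one] using congrArg θ h1,
    by simpa only [map_mul, map_inv, map_one] using congrArg θ h2,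
    by simpa only [map_mul, map_inv, map_one] using congrArg θ h3,
    by simpa only [map_mul, map_inv, map_one] using congrArg θ h4,
    by simpa only [map_mul, map_inv, map_one] using congrArg θ h5⟩

end H70.A8
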