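import Mathlib
import Cfsg.Agent.Base
import Cfsg.Agent.Lib.M12C.Tab
import Cfsg.Agent.Lib.M12C.TA8

/-! a presentation of `A₉` (helper70; generated) -/

set_option autoImplicit false
set_option maxRecDepth 100000

namespace H70.A9E
open H54 (Tr force band)
open H18.TC
noncomputable def T_0 : Tr := (.node (nat_lit 6) (.node (nat_lit 2) (.node (nat_lit 0) (.leaf (nat_lit 0xd800005151d4447423a10ae146b3c886219db863ee099f425fe089dc1e7e075f42ffc069f42efc06de81c7b00048000050d21424841d6901d72c364ea52113c443f10d3f029f708ff821f70c7f019fd0b7f0177d059ec18fa0016800004fd293e4a4116d105037b512c4d0e3d037f409fe8277a07ff430fc033f80f77041dc0dfe061e41bf8000d800004f52d3c4b44b95096a249787e650ffc83ef20a9ec2afb0c9f0207d057dc0bfe02bf81577073e016f900048000051d1946464ed31035e33158bad8137c056700cfdc34790c1e832fb0bde031790b9e02d790addc2c7e0004800005052540494456104d31bba921ce17dbc5def0a3f826f8083ec1f7a065e41df805fe41af804bf81477004c80000023fc09ff2437c8fe01a7b0686d0dbd435f5095e0287d07be02379031ec0d7a039e80b7b0b3f0137d000000000029f8097e021fc07ff01dfc06ff019fc05ff015fc04ff011fc03ff00dfc02ff009fc01ff005fc00ff))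 (.node (nat_lit 1) (.leaf (nat_lit 0x28a727d451c113f000000000028f70aa5b15bf04d7c129c44b73131d050f2151d45373155d44ff3139c400000031a6c7e00000000000000fee427b74d2d510de4447911fcc4af0149cc517511bd04572121c849f415fbc4ef00031a73fa459c915f248b3800003e34000000f9ec3f7b103c84072141c05c6f117c462ee185b848f110bd441730031a6578000000000447ac00002b368a6640eddc3c7712fc047710000052f114fc05b6f13dc05aef107c83d740031a747b0000000000000100dc1cba400000dde8387a0e7d03974167bc4cf0000004671125c465ee0f7cc3a750031a73790000113730000000002178c00000d5f8367e175bc626e147c464ee0000054f0163bc55f00ebd042720016814fb000000000000000000000000000000000000000000000000000000043dc00000000011f7000000000001680000093dc24774196506d51d3a099610f3cc3bf30a5e4337c085e422f803be81176049d80ffa04ff42bfc)) (.leaf (nat_lit 0x4a6afe000000000429850878263847477277749c5d5490000001f79077e60000000003c54475e71cda49fdc0031a5d7c0000000000000000000000072741bda8706a632c572b81ff94c1d800000716c21f888e612c96473e80004a65fd000000000000010be5000006e7d1c3a46fe95c2dd4ec21db9ceed126f74b65a1e3987be41b5ac83e30031a66fe0000000003f9991273207986c6e1a9b06b6c87c56219422b888be136350cb561eb94bfd824d786dea003aa67790000000000000000001a3b4697e1afac6aeb694ad73b93195cd4551c7a4a55c4d530b9db3cf40dfd3003aa6ff7000000000000010d6319ff800002fd88c3e2688b1484500000abda00000b7673d340e3532a76d37cc002426bf70000000000000000001b3ac8066191e066f8000005fef195d461f318dc80000199d060f20000000000000267fc453bd156f0000000003854c8267179f45efd181b80000173c8597416fcc0000169cc5875000005771))))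 (.node (nat_lit 4) (.node (nat_lit 3) (.leaf (nat_lit 0x4390ee200000000023df8915f000000000000000000000000000000000000000000000000000000000000000001fa6a7900000000042de109e8267dc986800000000000000000022dac8c6300000000023ba4a45c2359c0000001fa6f7800000000043df80000223e00000000000000648c000002198c8a6b2e36c00002837087690000089670004a6677000000000433b400000000085750000119cf0000000002338486e232958da542f960846520da894de000da61730000000003fdc4000029bccad5a35554d5d57468dd9222d7647d680000000001eda896de1f194c0d80004a68fa491580000431a800001fbec93de30b60bcd882461caa528b707f6900000d3552138c7a6b1e5987ce4001fa56ec00000000000000fdeb203b8816b31d5cc7d77d275f71c1dda000004ad35204e25978786a2ef6079e5000da74fb4934125d000001007020bbce4d30000000005d6d9494425f78766a2dfb400001d5a0b459227888de1)) (.leaf (nat_lit 0x3aa687b0000000004394d10fd2e9f000002f194c365708980000309a4bd5c34754c4d7301acbee330590bb66002d26cf70000000003f35505f73a748b1792c168ae5a556f800002bd9800003874cf2d02cf9cefd12cd70b1e9001fa58730000000000000000002b790ac732bb64afd95eed54b432adb4e8522dba8b4de47d392d4d33758dbd400362645c0000000000000103fa2abc0a85c4e930000000001e4a037350cf5600000b8622e5b1194f39b48a96d0004a707d4a13926ce405d000002a36ca37029d78a15e608ce4a122f760a265297b0000029384a06227da0b2d900168f95f000000000000000000000009e71273a09d68000000000000000000269789b6a00000000036550ce5600362697c4cb3131cc40bf134cc2519491fb28770a7dc83c5d5fbc3b74400002d5689add25d9095e62558c92eb003f261ec00000000000000907e0000000003efa0fb680000000000000000003eb7800004bb351fce3e950f9d6)))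 (.node (nat_lit 5) (.leaf (nat_lit 0x16a71fb4999d256743fe916db4e330f8723dd58f5566d6a1dfa100001214e3c96400003db48f46d45f3cf36c0016a60530000000000000107f40000000003c79cef67566f567ba3b9a8ed5e3af48eced3c164f0e8000000000000da6efe0000000000000000003abe4e9593ad8400006f29d643b3a368e7dd39d9cec513954cf6504d930e65b0004a63e5000000000415f50dd800000e0ef3915000007ac79e89f0000130cd381a0e25938bb4e5d237db00000000926d7b0000000003ffc91ece00000de7a00000e3d3680b4000000000dc5b36b8cd86b3775cd75536d68d9dd0009262e300000000000000fc59349c4d6dd35990d4e46b0a9cea4000011b4f34f94d15835f50d056473392fcd000925b650000123e500000fd6732b60ccfc3d740f7d0664be041a33f6c000032facc9e334354c8d733b74cd5a0016a626b000000000409e4000000000000032198c6e600000000000000c5ec31160c56532558dd544a9340000)) (.leaf (nat_lit 0x4ca7178507e542f9000000000000000000000000000000000000000000000000000000000000000000000000004ca767d4fff540fd000000000000000000000000000000000000000000000000000000000000000000000000004ca757a4f7e93efa000000000000000000000000000000000000000000000000000000000000000000000000004ca76fb4efed3cfb000000000000000000000000000000000000000000000000000000000000000000000000004ca5efc4c579325e4d1793afc0000139500000139db6c6a400004cf5938544cd8800000000135ec4ddb536d20031a6e7c000000000000012bef4b3e800004a3380000672b800004c14c0000000012ae64b7692e5f4bd5529d7000026dfd49d7127dc479512372489f4000000001294d550fc0000000011dd34839800000000000004755d1c550000270f80000000000000000000000000004698c000000000000046f5400000000118e90000000004614d1750)))))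 (.node (nat_lit 9) (.node (nat_lit 7) (.leaf (nat_lit 0x31a56730000000000000230380000000005410550c10000151e866cb9533f74a8df51d64ec189b2572f57836001b000000000000008bd062fc100000000054500000053f7c000057af14f42000015d4400002029a00001cd24001b257e40000000008fefe402c00000000062ec40000539a971b7000014cc3594ed4d4589250000072094000000288000000000000000000000000000000055ef9563e52b697ab50000161bc52f11663a00000000000000000000288000000000000000002271400000000056af55b3d5239d79365271563bb577054c4300000000091e496cb800288000000000000090666423200000000000000000051fb4000059ce94a4453709603c78c8000005a8e40000004ca75fc517f146fc000000000000000000000000000000000000000000000000000000000000000000000000004ca6b7950fe144f8000000000000000000000000000000000000000000000000000000000000000000000000)) (.node (nat_lit 8) (.leaf (nat_lit 0x1b255ec0000000008c302313793e5c00005bcdd6e375cda58fb1000016b397309000000000000005b11000000000269ee000000000000000000000000000000021f955d1b1a6ab5aee0000072894000077c85e71f5aaed69c50016800000000000000000000000000000000000000005a14568bd0000166c55970c00000000000005b4e000000016a5ffd0000000008cc9a369e000024d1161ec8000059349bd2758d100000588f0000000001e420000000000001b25bec0000000008a8540000000000000618cd84b357d7800005850d5e415831562bb00002229400001c9250004a52d60000000008b08e27a100000000056f115a445a4e959515f4d400005c0de0e97638c582b3560f95c40001fa58df85a5619158e8d0000000000000055b0d5743000015559552fc000000001d323624c994b05dad958bd001f800000000000008fab23f420000000007fe6e001b0000153ce54b0000006d0a1ee9e660bd9f2d81c657eb5))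 (.leaf (nat_lit 0x31a60ea0000000000000000000000000006431591450000191e267ab400000000219950000194400000192b10031a5e5500000000000000000000000000062b098b42640e18c69000018f3400000000000000000064cc18d3200318000000001c53290b163619000024da661aed873b000000000658bc0000874540000629000000636c58833001fa5dd7000000000000022815000000000614f185bc9264981dc602d1acaa70a9a0c1860cf583b6622c80000000d80000000000000000023abe0000000007e671fa1c00001805700001813300001a7ab5fcd6079965cbda0ad0028a635c70ed5c4358a6a22e1a0000000000000000005e90d7b5a5f0d97dbd68cb1bba76aca97fb45f8fd9bae0031a53540000000008f4bc00000000000005d2e800005e7117567000017cb5000017737610cd8eb15e301763e0031a506b0000000008c6e232400000000005b6e16eb85c909716a6e89da3ac5ded96fbd82861bfa67ce75d5a3)))) (.node (nat_lit 11) (.node (nat_lit 10) (.leaf (nat_lit 0x9259e70000000008b66a293593b14000080e6a051a77685b6507ca75d4236d4b9b3bf9104db2a96e09db6ac0000000000000000008d25c000000000000078680000000001b24c0000218956c4bdafad6cca1ed9e00001aeab0016a72f56fa9dbb2791c48000000000000075e89d6a273691abd500001ae316a2ac000081865aab56a6b5ad2f002425ccc00001c4ab8ae763b2400000000000000000069ce5a4ec82c61c1266a0d1a92a6e49da5ac6bca400000024253e10000000009030a3e3f00000000000000000000001a1ed690de121700001a2b5698ae15966dca1ed1e000900000000000000000000000000000000000000000000000000000019e306c0a4000067efd9d2e684d1aa2a0009000000000000000000000000000000000000000007f66c0000000019ac07c279b4a8676b599af670d40000001fa64f2000000000000023db60000000007708400000000198d6654c195b290e4db0a9668b997bf6b6a996b4))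 (.leaf (nat_lit 0x3180000000000000000000000000000000782a5e1297956c000000000000000000000078eec000079a7de22100318000000000000000000000000000000076cbddbaf78141de2800000000000001dca200001deb978a8000000031a5a6b0000000008d4f80000000000000758a9d72a76791d8230000000007748400007689400000000224140031a50ea000000000000022cbd00000000073e91d02476289d164752a1ec1e74ef9d240000021b95754de1017001225ae90000000008eeae3c1d0000000007428c000073d55ce2a00000000092449cbb800001fe1b7330400000031a5f6500000000000000000000000000071699c6a672d94000000000000000001c9b97ec71daa2722f1c7c2000da51d80000000008e07a32bb938c8000071c95c62500001c1d8702ac0000700c5c3336fcde111785e5400000000254626eaa9be2a0000000000000000000000000006f6ec00008385db9b76f0d4000084e59b8ab7be79b7a8))) (.node (nat_lit 12) (.leaf (nat_lit 0x24252650000000008cec000000000000000000000000000208e58545a0aab82ecc00008345e09b7000021a950009000000000000008d6ca4145000000000000000000000000000000000000000000000820d205aa0000206bf0004800000000000008bad62d280000000000000203288135800008965000000000000008090400008046c0000001b00000000000000000000000000000000802fdff3f7f534000000001fc1c0000000007fa90000000002019a002425c630000000008e2a639170000000007ead1f9347df99f59d7f26c00007e27df6a100001fba5000000000001fa515e0000000008f2922b2b0000000000000000007d871f4667c479f22800000000087854000000001f3370028a59510000000008dcee37a60000000000000000007a67dead37ae8df19d7bcfc00007b8a400007b2b1f027003180000000000000000000000000000000796b400007a54dea1e0000000007a089f81c79ee4000000001e620))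 (.leaf (nat_lit 0x3f00000000000000000024ba5000000000000000000000000000000000000000000000000024c120000000000043800000000000009164e46aa000000000000024b1792b7000000000000000000248a4932440000000024844001200000000000000914aa461200000000000000000000000000000000000000002432f0000244a80000000000028a54ea00000000000000000000000000000002232b885ac00000000000000000226a0888f2254288e8a261c00482554200002163e8a2ce2abc000000000880e620b9000021eeb860a40000868c21cb28708e1d9d86c6217260009000000000000000000000000000000000000000000000000000000214980000000000000213270000214290009257630000000008e6723429000024f38000000000000020fde84ab20da70000000008469a0c988428c0000))))))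
noncomputable def J_0 : Tr := (.node (nat_lit 6) (.node (nat_lit 2) (.node (nat_lit 0) (.leaf (nat_lit 0x80000100000800000000008000010000000000200002400002000000010010000000000200001c000000000000000000000c0000500000c0000100000000000000000000000000000000000000000000000000000010040040000000000000000000000000000000000000000000c000000000000000000000c0000000000001001000000000000000080100b000000000000000000000000000c0000300000000004000000000000000100000000000800004004128000090040040104a000000000000000000000000000000000000000000020000000000000001000000000004000020000000000100002801003000004010010000140000000000000000000000000010000000000400000000003000000000000000000000100000400000000000000000040040000000000001001000004000000000000000000000000000000000000050000040000000000c00000000000000000000000000000000000000000000000000000000103e000000010360000000102e000000010260000000101e000000010160000000100e00000001006)) (.node (nat_lit 1) (.leaf (nat_lit 0xae5f9400000000010000000000000000000000400000000008010010000040000100000000003000010000030000000000400000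2395a500000000000000000000040000000000000400400001000000000000000100000300000000002000008000000000000000052545000000000010000040000000000000000001001000004000000000080000100000c00000000010000000000000000000000699874000000000000000040000000000000002004004000010000000000200000000000000000000030000080000000000000001525694000000000000000000000400000000000010010000040000000000800000000000000000000140000200000c00000000006d948400000000002000000000000000000000000400400001000008000010000000000200000000000000000000000000000000500000400000000000000000000000000000000000000000000000000000000000000000001001000000000000000080000000000000000000000000050000000000200000000001000000000000000040101b00000c00000004004000000000000000200000400000)) (.leaf (nat_lit 0xd461d400000000000000000000040000000000c00000000010000000000000000000000000000000000000000000000100100000311874000000000000000000000000000000002004004000010000000000200000000001000000000020000000000300000000000b05454000000000000000000000c0000000000c0000000000000001000000000000000000000000001400000000000010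0100000359094000000000000000000000000000000002004004000010000000000000000000000000000000010000000000400000000000d646d0000000000000000000000001001000004000000000000000000001800000000004000000000180000600000000000000001293f40000000000000000000000004004000000000040000100000000000000000000000000000000700000000000000000000008e4d90000000000000000000000000000000010000000000040000000400400000000008000000000000000000001400000000003595a5000008000000000000000000000000005000000000010000000000000000000004000000000000000100000400000001001)))) (.node (nat_lit 4) (.node (nat_lit 3) (.leaf (nat_lit 0xc000000000000100100000800000000000000000000000000000000000000000000000000000000000000000000000000003517e5000000000000000000000400000000005000000000000000000000000400400008000000000000000000000600002000000d04d9000000000000010fa000000000000000000000000000000000000000010010040cc000000000000000000000c00000000023590040000000000000402c0000000000000003000000000030000000000000000000000000000000010000140000100400400002844014000000000000000000000000000000004000000000040000000000400002000014000000000000100100001800002000013510940000000000000000000000000000000010000040000000000000002000000000030000000000100000000001004004000009061d40000000000000000000018000000000040000000000400000000004010010000000000000000c0000000000c00000000001497e400000c000030000000000300000000001000000000000000000000000000800005000000000000040040000000000000000))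 (.leaf (nat_lit 0xd44010000000000000000000000c0100100000000001000000000000000000000000001c00000000000000000000000000000002239755000000000000000000000400000000000000000010010000000000000001400000000004000000000040000200000000002b8491400000000000000000000000000000001000000000004000000000000100100001c00000000008000010040cc00000000002493650000000000000000000003000000010010000000000000000000005000000000050000000000300000c00001000000000024a54500000000402c000000000000000000000c00002000010000000000040000000002800000000000000000000040100100000800002000000000000000000000000000000002000000000010000000000000000000000004004000060000000000000000c00002d4449000000000000000010000000000000400400000000000000030000000000000000000000000000000000000040000000000a11094000000000000000000100100000000000004448011120000000000000000000000004448000000000000000100444801112))) (.node (nat_lit 5) (.leaf (nat_lit 0xc25f940000000000000001000008000010000080000200000c000030000040000000000c010010000000000000000800000000026c987400000000000000000000010000000000000000800003000000000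0300000c00006004004000060000000000600000000000325b14000000000000000000000000000000010000010000000000200000c0000000001400002000000010010000080000900001e114840000000000000000000001000000000030000000000000000000005000000000000000040000000000c00000004004000007e401000000000000000010000000000000000c000000000100000300000000000000018000000000040000000400400001000002111b4000000000000000000101b00000800001000000000030000000000100000000005000000000010000000100100000000000b85f9000000000008000000000040000100000000000000000000000000100000000000000000000004000000040040000000000a11124000000000000000000000000000000000000000000030000000000000000000006004004000060000000000200000000000)) (.leaf (nat_lit 0x8264140100100000400000000000000000000000000000000000000000000000000000000000000000000000000000000000000025190500400400001000000000000000000000000000000000000000000000000000000000000000000000000000000000000000052641401001000004000000000000000000000000000000000000000000000000000000000000000000000000000000000000000179905004004000010000000000000000000000000000000000000000000000000000000000000000000000000000000000000000b24fd0010010000040000500001000000000000000000000140000200000000006000010000040000000000000000000003000000c92d40000000000000000000005000000000000040040000000000c0000000001000000000000000020000000102b0000080000132491000000000004000030000000000000000000000000000000000000000000000000c00000000000000000000000000300400529755000000000000000000000000000000000000000000000000000000000000000000000000000050000000000000000c01001)))))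 (.node (nat_lit 9) (.node (nat_lit 7) (.leaf (nat_lit 0x905f90000000000000000000001400000000000010010000040000000000800000000000000000000200000100000400000000014000000000000000000000400000000000000000000000000000400c0000000000001001000000000020000000000000000000000b844900000000000000000000008000000000000000000000000001000004000000040040000300001c00002000000000000000000000000000000000000000000000000000000000000000002004004000000000000000000000c000000000000000000000000000000000000000000000000000001c0000000000000000000004010010000040000100000000000000000000000000000000a00000000000000000000000000000000200000000000000000000000040040000000000000000000000000070000040000000000000000a8641401001000004000000000000000000000000000000000000000000000000000000000000000000000000000000000000000351905004004000010000000000000000000000000000000000000000000000000000000000000000000000000000000000000000)) (.node (nat_lit 8) (.leaf (nat_lit 0x905690000000000000000000001800000000000000000000000000000001400000004004000000000000000000000000005000003515a40000000000000000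00000000000000000000000000020000000000100000000000000000000000000000000100001801001000000000000000000000000000000000000000000000000000000000000400000000018010010000000000000000000005000002c97e4000000000000000000000500000000006000000000000000000000100000c00000004004000000000000000000000000000c4521400000000000000020000000000000000000000000008000010000000000100400400000000000000000000000000000000241244000000000000000040000500000000000000000000040000000000500000400000000000000010000040000300400400003b84b50000000000040000300000000000000000000000000040000000000c0100100000000000000014000010000040000000000000000000000000000000000000100000000000000000000010000000000300400400000000000000060000000000400000000000)) (.leaf (nat_lit 0xce61d0000000000000000000000000000000000010010000040000000000800000000000000000000200000000000000000000006c92d4000000000000000000000000000000000004004000010000000000200000000004000000000000000000000000000000001000000000000000180000000000000000000008010010000040000000000000000000000000000000000000000000000000000006c924400000000000000000000010000000000000000000001000008000030040040000200000800000000000000060000000000000000000000000000000000000000000000000000000000004000000000100000000000000000000010010010000100000000000e113f4000004000000000000000200000000000000000000000040040000100000400000000000000030000000000000001400004904b500000000000000002000000000000000000100100000000000000008000000000000000000000800000000004000000000040101b000000000000000000000200000000000004004000010000000000000000000002000000000020000000000000000000000))))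 (.node (nat_lit 11) (.node (nat_lit 10) (.leaf (nat_lit 0xb84fd0000000000000000000000c0000400000000000000004000010000000000000001800000000004000030040040000000000c00000000000000000000000000000000000000000000000000000000000000000000000000000000030000000000600000001001ba569000000000000000000000000000000000000000000000000010000180000000000801001000000000000000080000100000f117e4000000000030000000000300000000000000000000000000000100100000000000000000000000000000000500000000000904d900000000000000000000004000000000000000000000000000004004000000000080000000001000000000010000000000000000000000000000000000000000000000000000000000000000000000000000000000100000000000000000010010000000000000000000000000000000000000000000000000000000000000000040000000000000000400001000004000000040040000000000249874000000000000000000000000000000000000000000000000000000300400400008000000000030000000000300000000006)) (.leaf (nat_lit 0x10010000040000000000000000000000000000000000000400000000000000004000000000000000000000000000000000000000040040000100000000000000000000000000000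00020000000000500000000000b8545000000000000000020000000000000000001001000004000000000080000000000000000000000000020000000000000000241004000000000000000000000000000000000004004000010000000000200000000000000000000020000000000300001c00003b85690000000000000000000000800000000000000000000000000000000000000000000000000040040000000001400007000002c95a4000000000000000000000000000000000004004000010000000000000000000000000000000030000080000000001800001904490000000000000000000000400000000000000000000000000000001000004000000000020000000100100001400000000002413f4000004000030000000000000000000000000000000000000000000000000000004000000000000000000000400000401001))) (.node (nat_lit 12) (.leaf (nat_lit 0x9046d000000000000000020000000000000000000000000000000000040040000000000800005000000000000000140000000001800000000000000000000040000100000000000000000000000000000000000000000000000000000000000000100100000000004000000000000000000000000000c0000000000000000000010000000000000000100000000000000000000010000000100100000000000000000000000000000000000000000000000000000020000040000000000001001000000000000000000000000000000000c454500000000000000001000008000000000000000000000c000000040040000000000000000000010000000000000000000000241094000000000000000000000100000000000000000000000000000000300400400008000000000000000000000000000000006b84d9000000000000000000000080000000000000000000000010010000040000100000000000000000000000000000000400000000000000000000000000000000000000000000004004000000000000000000000000000000008000040000000000000000000001))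 (.leaf (nat_lit 0x100100000000000000000000000000000000000000000000000000000000000000000800000000000000000000000000000100100000800000000000000000000080000000000000000000000000000000140000000000000000000000000000000000000000000400000000000000000000000000000000000000000000000000000000100100000000000000000000009052140000000000000000000000000000000000000000000801001000000000000000000000000000400002000000000040000124151500000001001000000000000000000000000000000001000000000030040cc0000000000000008000000000030000000000a000000000000000000000000000000000000000000000000000000000000000000000004000000000000000000400400000000012e1004000000000000000000000100000000004000000000000000000000000000000001000000000000000000100100000000000))))))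
noncomputable def F_0 : Tr := (.node (nat_lit 8) (.node (nat_lit 3) (.node (nat_lit 1) (.node (nat_lit 0) (.leaf (nat_lit 0x345761820)) (.leaf (nat_lit 0x254678130))) (.node (nat_lit 2) (.leaf (nat_lit 0x532186740)) (.leaf (nat_lit 0x423817650)))) (.node (nat_lit 5) (.node (nat_lit 4) (.leaf (nat_lit 0x432816750)) (.leaf (nat_lit 0x523187640))) (.node (nat_lit 6) (.leaf (nat_lit 0x718324560)) (.node (nat_lit 7) (.leaf (nat_lit 0x681235470)) (.leaf (nat_lit 0x318546720)))))) (.node (nat_lit 12) (.node (nat_lit 10) (.node (nat_lit 9) (.leaf (nat_lit 0x623548170)) (.leaf (nat_lit 0x781452360))) (.node (nat_lit 11) (.leaf (nat_lit 0x781452360)) (.leaf (nat_lit 0x671354280)))) (.node (nat_lit 14) (.node (nat_lit 13) (.leaf (nat_lit 0x178435260)) (.leaf (nat_lit 0x861423570))) (.node (nat_lit 15) (.leaf (nat_lit 0x817253460)) (.node (nat_lit 16) (.leaf (nat_lit 0x867543201)) (.leaf (nat_lit 0x867543201)))))))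
noncomputable def T : Tr := T_0
noncomputable def J : Tr := J_0
noncomputable def F : Tr := F_0
noncomputable def row (u : ℕ) : ℕ := Nat.land (Nat.shiftRight (force (Nat.shiftRight u (nat_lit 3)) T.get) (Nat.mul (Nat.land u (nat_lit 7)) (nat_lit 360))) (nat_lit 0xffffffffffffffffffffffffffffffffffffffffffffffffffffffffffffffffffffffffffffffffffffffffff)
noncomputable def jrow (u : ℕ) : ℕ := Nat.land (Nat.shiftRight (force (Nat.shiftRight u (nat_lit 3)) J.get) (Nat.mul (Nat.land u (nat_lit 7)) (nat_lit 418))) (nat_lit 0x3ffffffffffffffffffffffffffffffffffffffffffffffffffffffffffffffffffffffffffffffffffffffffffffffffffffffff)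
noncomputable def fget (k fx : ℕ) : ℕ := F.get (Nat.add k fx)
noncomputable def wt0 : LT := (.node (nat_lit 2) (.node (nat_lit 0) (.leaf 35 2 [nat_lit 198, nat_lit 90, nat_lit 198])
(.node (nat_lit 1) (.leaf 41 2 [nat_lit 216, nat_lit 36, nat_lit 108, nat_lit 180, nat_lit 234])
(.leaf 23 2 [nat_lit 144, nat_lit 36, nat_lit 162])))
(.node (nat_lit 6) (.node (nat_lit 3) (.leaf 9 3 [nat_lit 36, nat_lit 18, nat_lit 54])
(.node (nat_lit 4) (.leaf 1 0 [nat_lit 18, nat_lit 18, nat_lit 18])
(.node (nat_lit 5) (.leaf 15 1 [nat_lit 126, nat_lit 0, nat_lit 108])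
(.leaf 9 1 [nat_lit 54, nat_lit 18, nat_lit 36]))))
(.node (nat_lit 9) (.node (nat_lit 7) (.leaf 39 5 [nat_lit 234, nat_lit 126, nat_lit 18, nat_lit 234, nat_lit 126])
(.node (nat_lit 8) (.leaf 13 1 [nat_lit 90, nat_lit 0, nat_lit 72])
(.leaf 73 4 [nat_lit 288, nat_lit 0, nat_lit 36, nat_lit 108, nat_lit 306, nat_lit 126, nat_lit 54])))
(.leaf 0 0 []))))
noncomputable def wt1 : LT := (.node (nat_lit 5) (.node (nat_lit 1) (.node (nat_lit 0) (.leaf 5 0 [nat_lit 90, nat_lit 90, nat_lit 0])
(.leaf 3 0 [nat_lit 54, nat_lit 54, nat_lit 0]))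
(.node (nat_lit 3) (.node (nat_lit 2) (.leaf 3 3 [nat_lit 0, nat_lit 54, nat_lit 54])
(.leaf 25 0 [nat_lit 162, nat_lit 54, nat_lit 144, nat_lit 36]))
(.node (nat_lit 4) (.leaf 15 3 [nat_lit 108, nat_lit 18, nat_lit 126])
(.leaf 5 3 [nat_lit 0, nat_lit 90, nat_lit 90]))))
(.node (nat_lit 9) (.node (nat_lit 6) (.leaf 13 3 [nat_lit 72, nat_lit 18, nat_lit 90])
(.node (nat_lit 7) (.leaf 7 0 [nat_lit 126, nat_lit 126, nat_lit 0])
(.node (nat_lit 8) (.leaf 73 6 [nat_lit 36, nat_lit 108, nat_lit 306, nat_lit 126, nat_lit 54, nat_lit 18, nat_lit 288])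
(.leaf 55 5 [nat_lit 72, nat_lit 180, nat_lit 270, nat_lit 18, nat_lit 90, nat_lit 252]))))
(.leaf 0 0 [])))
noncomputable def wt2 : LT := (.node (nat_lit 2) (.node (nat_lit 0) (.leaf 9 2 [nat_lit 18, nat_lit 36, nat_lit 18])
(.node (nat_lit 1) (.leaf 17 1 [nat_lit 90, nat_lit 36, nat_lit 72])
(.leaf 19 1 [nat_lit 126, nat_lit 36, nat_lit 108])))
(.node (nat_lit 5) (.node (nat_lit 3) (.leaf 3 2 [nat_lit 0, nat_lit 0, nat_lit 54])
(.node (nat_lit 4) (.leaf 25 2 [nat_lit 144, nat_lit 36, nat_lit 0, nat_lit 162])
(.leaf 3 1 [nat_lit 54, nat_lit 0, nat_lit 0])))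
(.node (nat_lit 7) (.node (nat_lit 6) (.leaf 43 0 [nat_lit 234, nat_lit 198, nat_lit 216, nat_lit 36, nat_lit 180])
(.leaf 51 2 [nat_lit 252, nat_lit 36, nat_lit 180, nat_lit 270]))
(.leaf 0 0 []))))
noncomputable def wt3 : LT := (.node (nat_lit 1) (.node (nat_lit 0) (.leaf 9 0 [nat_lit 18, nat_lit 54, nat_lit 18])
(.leaf 23 0 [nat_lit 162, nat_lit 18, nat_lit 144]))
(.node (nat_lit 5) (.node (nat_lit 2) (.leaf 17 3 [nat_lit 72, nat_lit 54, nat_lit 90])
(.node (nat_lit 3) (.leaf 25 4 [nat_lit 0, nat_lit 162, nat_lit 54, nat_lit 144])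
(.node (nat_lit 4) (.leaf 45 5 [nat_lit 126, nat_lit 234, nat_lit 126, nat_lit 54, nat_lit 216])
(.leaf 71 5 [nat_lit 72, nat_lit 306, nat_lit 90, nat_lit 54, nat_lit 288]))))
(.leaf 0 0 [])))
noncomputable def wt4 : LT := (.node (nat_lit 2) (.node (nat_lit 0) (.leaf 17 2 [nat_lit 36, nat_lit 72, nat_lit 54])
(.node (nat_lit 1) (.leaf 35 0 [nat_lit 198, nat_lit 18, nat_lit 198])
(.leaf 13 2 [nat_lit 0, nat_lit 72, nat_lit 18])))
(.node (nat_lit 5) (.node (nat_lit 3) (.leaf 27 2 [nat_lit 144, nat_lit 108, nat_lit 162])
(.node (nat_lit 4) (.leaf 5 2 [nat_lit 0, nat_lit 0, nat_lit 90])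
(.leaf 5 1 [nat_lit 90, nat_lit 0, nat_lit 0])))
(.node (nat_lit 7) (.node (nat_lit 6) (.leaf 11 3 [nat_lit 108, nat_lit 90, nat_lit 126])
(.leaf 11 1 [nat_lit 126, nat_lit 90, nat_lit 108]))
(.node (nat_lit 9) (.node (nat_lit 8) (.leaf 71 2 [nat_lit 54, nat_lit 288, nat_lit 36, nat_lit 72, nat_lit 306])
(.leaf 69 6 [nat_lit 18, nat_lit 36, nat_lit 0, nat_lit 108, nat_lit 288, nat_lit 0, nat_lit 72, nat_lit 144, nat_lit 306, nat_lit 126, nat_lit 18, nat_lit 54, nat_lit 162]))
(.leaf 0 0 [])))))
noncomputable def wt5 : LT := (.node (nat_lit 3) (.node (nat_lit 0) (.leaf 13 0 [nat_lit 18, nat_lit 90, nat_lit 0])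
(.node (nat_lit 1) (.leaf 17 0 [nat_lit 54, nat_lit 90, nat_lit 36])
(.node (nat_lit 2) (.leaf 29 0 [nat_lit 162, nat_lit 126, nat_lit 144, nat_lit 108])
(.leaf 71 0 [nat_lit 306, nat_lit 90, nat_lit 54, nat_lit 288, nat_lit 36]))))
(.node (nat_lit 4) (.leaf 69 13 [nat_lit 144, nat_lit 306, nat_lit 126, nat_lit 18, nat_lit 54, nat_lit 162, nat_lit 90, nat_lit 18, nat_lit 36, nat_lit 0, nat_lit 108, nat_lit 288, nat_lit 0])
(.leaf 0 0 [])))
noncomputable def wt6 : LT := (.node (nat_lit 3) (.node (nat_lit 1) (.node (nat_lit 0) (.leaf 19 2 [nat_lit 36, nat_lit 108, nat_lit 54])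
(.leaf 29 2 [nat_lit 144, nat_lit 108, nat_lit 72, nat_lit 162]))
(.node (nat_lit 2) (.leaf 15 2 [nat_lit 0, nat_lit 108, nat_lit 18])
(.leaf 7 2 [nat_lit 0, nat_lit 0, nat_lit 126])))
(.node (nat_lit 6) (.node (nat_lit 4) (.leaf 45 2 [nat_lit 54, nat_lit 216, nat_lit 36, nat_lit 126, nat_lit 234])
(.node (nat_lit 5) (.leaf 11 2 [nat_lit 90, nat_lit 108, nat_lit 90])
(.leaf 45 0 [nat_lit 234, nat_lit 126, nat_lit 54, nat_lit 216, nat_lit 36])))
(.node (nat_lit 9) (.node (nat_lit 7) (.leaf 7 1 [nat_lit 126, nat_lit 0, nat_lit 0])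
(.node (nat_lit 8) (.leaf 73 2 [nat_lit 54, nat_lit 18, nat_lit 288, nat_lit 0, nat_lit 36, nat_lit 108, nat_lit 306])
(.leaf 39 4 [nat_lit 18, nat_lit 234, nat_lit 126, nat_lit 18, nat_lit 234])))
(.leaf 0 0 []))))
noncomputable def wt7 : LT := (.node (nat_lit 2) (.node (nat_lit 0) (.leaf 27 0 [nat_lit 162, nat_lit 90, nat_lit 144])
(.node (nat_lit 1) (.leaf 15 0 [nat_lit 18, nat_lit 126, nat_lit 0])
(.leaf 11 0 [nat_lit 90, nat_lit 126, nat_lit 90])))
(.node (nat_lit 6) (.node (nat_lit 3) (.leaf 19 0 [nat_lit 54, nat_lit 126, nat_lit 36])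
(.node (nat_lit 4) (.leaf 41 5 [nat_lit 180, nat_lit 234, nat_lit 18, nat_lit 216, nat_lit 36])
(.node (nat_lit 5) (.leaf 73 0 [nat_lit 306, nat_lit 126, nat_lit 54, nat_lit 18, nat_lit 288, nat_lit 0, nat_lit 36])
(.leaf 69 10 [nat_lit 288, nat_lit 0, nat_lit 72, nat_lit 144, nat_lit 306, nat_lit 126, nat_lit 18, nat_lit 54, nat_lit 162, nat_lit 90, nat_lit 18, nat_lit 36, nat_lit 0]))))
(.leaf 0 0 [])))
noncomputable def wt8 : LT := (.node (nat_lit 1) (.node (nat_lit 0) (.leaf 21 0 [nat_lit 162, nat_lit 162])
(.leaf 33 0 [nat_lit 198, nat_lit 162, nat_lit 198]))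
(.node (nat_lit 3) (.node (nat_lit 2) (.leaf 29 1 [nat_lit 126, nat_lit 144, nat_lit 108, nat_lit 72])
(.leaf 25 1 [nat_lit 54, nat_lit 144, nat_lit 36, nat_lit 0]))
(.node (nat_lit 5) (.node (nat_lit 4) (.leaf 23 1 [nat_lit 18, nat_lit 144, nat_lit 36])
(.leaf 27 1 [nat_lit 90, nat_lit 144, nat_lit 108]))
(.leaf 0 0 []))))
noncomputable def wt9 : LT := (.node (nat_lit 1) (.node (nat_lit 0) (.leaf 27 3 [nat_lit 108, nat_lit 162, nat_lit 90])
(.leaf 23 3 [nat_lit 36, nat_lit 162, nat_lit 18]))
(.node (nat_lit 4) (.node (nat_lit 2) (.leaf 25 3 [nat_lit 36, nat_lit 0, nat_lit 162, nat_lit 54])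
(.node (nat_lit 3) (.leaf 29 3 [nat_lit 108, nat_lit 72, nat_lit 162, nat_lit 126])
(.leaf 69 0 [nat_lit 306, nat_lit 126, nat_lit 18, nat_lit 54, nat_lit 162, nat_lit 90, nat_lit 18, nat_lit 36, nat_lit 0, nat_lit 108, nat_lit 288, nat_lit 0, nat_lit 72])))
(.leaf 0 0 [])))
noncomputable def wt10 : LT := (.node (nat_lit 0) (.leaf 31 0 [nat_lit 198])
(.node (nat_lit 2) (.node (nat_lit 1) (.leaf 33 3 [nat_lit 162, nat_lit 198, nat_lit 162])
(.leaf 35 3 [nat_lit 90, nat_lit 198, nat_lit 18]))
(.node (nat_lit 3) (.leaf 35 1 [nat_lit 18, nat_lit 198, nat_lit 90])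
(.node (nat_lit 4) (.leaf 43 2 [nat_lit 216, nat_lit 36, nat_lit 180, nat_lit 54, nat_lit 234])
(.leaf 0 0 [])))))
noncomputable def wt11 : LT := (.node (nat_lit 1) (.node (nat_lit 0) (.leaf 41 0 [nat_lit 234, nat_lit 18, nat_lit 216, nat_lit 36, nat_lit 108])
(.leaf 43 5 [nat_lit 54, nat_lit 234, nat_lit 198, nat_lit 216, nat_lit 36]))
(.leaf 0 0 []))
noncomputable def wt12 : LT := (.node (nat_lit 1) (.node (nat_lit 0) (.leaf 37 0 [nat_lit 234, nat_lit 234])
(.leaf 43 1 [nat_lit 198, nat_lit 216, nat_lit 36, nat_lit 180, nat_lit 54]))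
(.node (nat_lit 2) (.leaf 41 1 [nat_lit 18, nat_lit 216, nat_lit 36, nat_lit 108, nat_lit 180])
(.node (nat_lit 3) (.leaf 39 0 [nat_lit 126, nat_lit 18, nat_lit 234, nat_lit 126, nat_lit 18])
(.node (nat_lit 5) (.node (nat_lit 4) (.leaf 45 1 [nat_lit 126, nat_lit 54, nat_lit 216, nat_lit 36, nat_lit 126])
(.leaf 57 19 [nat_lit 126, nat_lit 18, nat_lit 162, nat_lit 198, nat_lit 90, nat_lit 54, nat_lit 234, nat_lit 126, nat_lit 18, nat_lit 162, nat_lit 198, nat_lit 90, nat_lit 54, nat_lit 234, nat_lit 126, nat_lit 18, nat_lit 162, nat_lit 198, nat_lit 90, nat_lit 54]))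
(.leaf 0 0 [])))))
noncomputable def wt13 : LT := (.node (nat_lit 1) (.node (nat_lit 0) (.leaf 41 3 [nat_lit 36, nat_lit 108, nat_lit 180, nat_lit 234, nat_lit 18])
(.leaf 45 4 [nat_lit 36, nat_lit 126, nat_lit 234, nat_lit 126, nat_lit 54]))
(.node (nat_lit 3) (.node (nat_lit 2) (.leaf 43 3 [nat_lit 36, nat_lit 180, nat_lit 54, nat_lit 234, nat_lit 198])
(.leaf 61 3 [nat_lit 252, nat_lit 36, nat_lit 72, nat_lit 108, nat_lit 234, nat_lit 270]))
(.leaf 0 0 [])))
noncomputable def wt14 : LT := (.node (nat_lit 1) (.node (nat_lit 0) (.leaf 51 1 [nat_lit 54, nat_lit 252, nat_lit 36, nat_lit 180])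
(.leaf 47 0 [nat_lit 270, nat_lit 270]))
(.node (nat_lit 3) (.node (nat_lit 2) (.leaf 49 0 [nat_lit 126, nat_lit 54, nat_lit 270, nat_lit 126, nat_lit 54])
(.leaf 61 2 [nat_lit 216, nat_lit 252, nat_lit 36, nat_lit 72, nat_lit 108, nat_lit 234]))
(.node (nat_lit 5) (.node (nat_lit 4) (.leaf 53 1 [nat_lit 198, nat_lit 252, nat_lit 0, nat_lit 72])
(.leaf 55 1 [nat_lit 18, nat_lit 90, nat_lit 252, nat_lit 0, nat_lit 72, nat_lit 180]))
(.node (nat_lit 6) (.leaf 59 19 [nat_lit 126, nat_lit 54, nat_lit 162, nat_lit 198, nat_lit 90, nat_lit 54, nat_lit 270, nat_lit 126, nat_lit 54, nat_lit 162, nat_lit 198, nat_lit 90, nat_lit 54, nat_lit 270, nat_lit 126, nat_lit 54, nat_lit 162, nat_lit 198, nat_lit 90, nat_lit 54])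
(.leaf 0 0 [])))))
noncomputable def wt15 : LT := (.node (nat_lit 1) (.node (nat_lit 0) (.leaf 51 3 [nat_lit 36, nat_lit 180, nat_lit 270, nat_lit 54])
(.leaf 55 4 [nat_lit 0, nat_lit 72, nat_lit 180, nat_lit 270, nat_lit 18, nat_lit 90]))
(.node (nat_lit 3) (.node (nat_lit 2) (.leaf 53 3 [nat_lit 0, nat_lit 72, nat_lit 270, nat_lit 198])
(.leaf 61 4 [nat_lit 36, nat_lit 72, nat_lit 108, nat_lit 234, nat_lit 270, nat_lit 216]))
(.node (nat_lit 4) (.leaf 67 0 [nat_lit 306, nat_lit 234, nat_lit 18, nat_lit 198, nat_lit 18, nat_lit 252, nat_lit 306, nat_lit 234, nat_lit 18, nat_lit 198, nat_lit 18])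
(.leaf 0 0 []))))
noncomputable def wt16 : LT := (.node (nat_lit 0) (.leaf 63 0 [nat_lit 306])
(.node (nat_lit 2) (.node (nat_lit 1) (.leaf 67 7 [nat_lit 234, nat_lit 18, nat_lit 198, nat_lit 18, nat_lit 252, nat_lit 306, nat_lit 234, nat_lit 18, nat_lit 198, nat_lit 18, nat_lit 252])
(.leaf 71 1 [nat_lit 90, nat_lit 54, nat_lit 288, nat_lit 36, nat_lit 72]))
(.node (nat_lit 4) (.node (nat_lit 3) (.leaf 69 1 [nat_lit 126, nat_lit 18, nat_lit 54, nat_lit 162, nat_lit 90, nat_lit 18, nat_lit 36, nat_lit 0, nat_lit 108, nat_lit 288, nat_lit 0, nat_lit 72, nat_lit 144])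
(.leaf 65 9 [nat_lit 126, nat_lit 18, nat_lit 54, nat_lit 306, nat_lit 126, nat_lit 18, nat_lit 54, nat_lit 306, nat_lit 126, nat_lit 18, nat_lit 54]))
(.node (nat_lit 5) (.leaf 73 1 [nat_lit 126, nat_lit 54, nat_lit 18, nat_lit 288, nat_lit 0, nat_lit 36, nat_lit 108])
(.leaf 0 0 [])))))
noncomputable def wt17 : LT := (.node (nat_lit 2) (.node (nat_lit 0) (.leaf 69 11 [nat_lit 0, nat_lit 72, nat_lit 144, nat_lit 306, nat_lit 126, nat_lit 18, nat_lit 54, nat_lit 162, nat_lit 90, nat_lit 18, nat_lit 36, nat_lit 0, nat_lit 108])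
(.node (nat_lit 1) (.leaf 71 4 [nat_lit 36, nat_lit 72, nat_lit 306, nat_lit 90, nat_lit 54])
(.leaf 73 5 [nat_lit 0, nat_lit 36, nat_lit 108, nat_lit 306, nat_lit 126, nat_lit 54, nat_lit 18])))
(.leaf 0 0 []))
noncomputable def wt18 : LT := (.node (nat_lit 3) (.node (nat_lit 1) (.node (nat_lit 0) (.leaf 2 3 [nat_lit 36, nat_lit 18, nat_lit 18, nat_lit 36])
(.leaf 66 1 [nat_lit 0, nat_lit 180, nat_lit 0, nat_lit 216, nat_lit 288, nat_lit 270, nat_lit 0, nat_lit 180, nat_lit 0, nat_lit 216, nat_lit 288, nat_lit 270]))
(.node (nat_lit 2) (.leaf 52 4 [nat_lit 252, nat_lit 90, nat_lit 18, nat_lit 270, nat_lit 180])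
(.leaf 57 19 [nat_lit 126, nat_lit 18, nat_lit 162, nat_lit 198, nat_lit 90, nat_lit 54, nat_lit 234, nat_lit 126, nat_lit 18, nat_lit 162, nat_lit 198, nat_lit 90, nat_lit 54, nat_lit 234, nat_lit 126, nat_lit 18, nat_lit 162, nat_lit 198, nat_lit 90, nat_lit 54, nat_lit 234])))
(.leaf 0 0 []))
noncomputable def sl : List (ℕ × ℕ × List ℕ × List ℕ) := [(0, nat_lit 0, [], []),
(2, nat_lit 36, [], []),
(4, nat_lit 72, [], []),
(6, nat_lit 108, [], []),
(8, nat_lit 144, [], []),
(10, nat_lit 180, [], []),
(12, nat_lit 216, [], []),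
(14, nat_lit 252, [], [])]
/-- the inverse column -/
noncomputable def icol (x : ℕ) : ℕ := List.getD [nat_lit 1, nat_lit 0, nat_lit 3, nat_lit 2, nat_lit 5, nat_lit 4, nat_lit 7, nat_lit 6, nat_lit 9, nat_lit 8, nat_lit 11, nat_lit 10, nat_lit 13, nat_lit 12, nat_lit 15, nat_lit 14, nat_lit 17, nat_lit 16] x x
noncomputable def inv (x : ℕ) : ℕ := Nat.mul (icol (Nat.div x (nat_lit 18))) (nat_lit 18)
def cols : List ℕ := [nat_lit 324, nat_lit 0, nat_lit 18, nat_lit 36, nat_lit 54, nat_lit 72, nat_lit 90, nat_lit 108, nat_lit 126, nat_lit 144, nat_lit 162, nat_lit 180, nat_lit 198, nat_lit 216, nat_lit 234, nat_lit 252, nat_lit 270, nat_lit 288, nat_lit 306]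
noncomputable def cl : CL := (.cons (nat_lit 0) (nat_lit 18) (nat_lit 0) (nat_lit 0) wt0
(.cons (nat_lit 18) (nat_lit 0) (nat_lit 22) (nat_lit 1) wt1
(.cons (nat_lit 36) (nat_lit 54) (nat_lit 44) (nat_lit 2) wt2
(.cons (nat_lit 54) (nat_lit 36) (nat_lit 66) (nat_lit 3) wt3
(.cons (nat_lit 72) (nat_lit 90) (nat_lit 88) (nat_lit 4) wt4
(.cons (nat_lit 90) (nat_lit 72) (nat_lit 110) (nat_lit 5) wt5
(.cons (nat_lit 108) (nat_lit 126) (nat_lit 132) (nat_lit 6) wt6
(.cons (nat_lit 126) (nat_lit 108) (nat_lit 154) (nat_lit 7) wt7
(.cons (nat_lit 144) (nat_lit 162) (nat_lit 176) (nat_lit 8) wt8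
(.cons (nat_lit 162) (nat_lit 144) (nat_lit 198) (nat_lit 9) wt9
(.cons (nat_lit 180) (nat_lit 198) (nat_lit 220) (nat_lit 10) wt10
(.cons (nat_lit 198) (nat_lit 180) (nat_lit 242) (nat_lit 11) wt11
(.cons (nat_lit 216) (nat_lit 234) (nat_lit 264) (nat_lit 12) wt12
(.cons (nat_lit 234) (nat_lit 216) (nat_lit 286) (nat_lit 13) wt13
(.cons (nat_lit 252) (nat_lit 270) (nat_lit 308) (nat_lit 14) wt14
(.cons (nat_lit 270) (nat_lit 252) (nat_lit 330) (nat_lit 15) wt15
(.cons (nat_lit 288) (nat_lit 306) (nat_lit 352) (nat_lit 16) wt16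
(.cons (nat_lit 306) (nat_lit 288) (nat_lit 374) (nat_lit 17) wt17
.nil))))))))))))))))))
def rels : List (List ℕ) := [[0, 0, 0, 0],
[1, 1, 2, 2],
[1, 1, 4, 4],
[1, 1, 6, 6],
[3, 0, 2, 0],
[7, 4, 6, 4],
[5, 1, 4, 0],
[7, 1, 6, 0],
[5, 3, 4, 2],
[7, 3, 6, 2],
[8, 8, 8],
[3, 9, 0, 8],
[1, 3, 9, 2, 8],
[7, 9, 4, 8],
[5, 7, 9, 6, 8],
[10, 10],
[8, 10, 8, 10],
[4, 10, 0, 10],
[12, 12, 12],
[12, 0, 6, 12, 0, 6],
[11, 7, 3, 13, 0, 12],
[2, 11, 3, 13, 10, 12],
[6, 3, 13, 2, 6, 12],
[14, 14, 14],
[14, 2, 6, 14, 2, 6],
[11, 3, 15, 2, 14],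
[5, 1, 15, 10, 14],
[11, 5, 1, 15, 4, 0, 14],
[0, 6, 12, 2, 4, 10, 8, 0, 6, 12, 2, 4, 10, 8, 0, 6, 12, 2, 4, 10, 8],
[2, 6, 14, 2, 4, 10, 8, 2, 6, 14, 2, 4, 10, 8, 2, 6, 14, 2, 4, 10, 8],
[7, 5, 3, 15, 13, 14, 12],
[16, 16],
[2, 0, 6, 16, 2, 0, 6, 16, 2, 0, 6, 16],
[15, 0, 10, 0, 12, 16, 15, 0, 10, 0, 12, 16],
[9, 5, 1, 17, 7, 1, 3, 0, 4, 8, 2, 0, 6, 16],
[5, 3, 17, 2, 4, 16],
[7, 3, 1, 17, 0, 2, 6, 16]]
def subs : List (List ℕ) := [[0],
[2],
[4],
[6],
[8],
[10],
[12],
[14]]
noncomputable def chk : ℕ → Bool := rowChk row jrow fget sl cols (nat_lit 9) (nat_lit 111) (nat_lit 262143) (nat_lit 127) (nat_lit 262144) (nat_lit 324) (nat_lit 342) (nat_lit 4194303) (nat_lit 6) (nat_lit 63) (nat_lit 4) (nat_lit 15) cl (nat_lit 396) wt18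
theorem p0 : allB chk 7 0 = true := by decide +kernel
theorem all_chk : AllLt chk 111 := by
  have h := AllLt.zero chk
  have h := h.step 111 p0 (by decide +kernel)
  exact h
/-- column `x` of the final table -/
noncomputable def tab (x u : ℕ) : ℕ := ft fget (nat_lit 6) (nat_lit 63) (nat_lit 4) (nat_lit 15) (Nat.mul x (nat_lit 1)) u
theorem enum {G Ω : Type*} [Group G] [MulAction G Ω] (g : ℕ → G) (ω : Ω)
    (hinv : ∀ x, g (icol x) = (g x)⁻¹) (h1 : g 18 = 1)
    (hrels : ∀ R ∈ rels, ev g R = 1) (hsubs : ∀ S ∈ subs, ev g S • ω = ω) :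
    ∃ pt : ℕ → Ω, pt 0 = ω ∧ (∀ K : Subgroup G, (∀ x, g x ∈ K) → ∀ v, ∃ k ∈ K, pt v = k • ω) ∧
      ∀ x, x < 18 → ∀ u, u < 9 → tab x u < 9 ∧ g x • pt u = pt (tab x u) :=
  sound_scaled g ω row jrow fget sl inv icol cols (nat_lit 9) (nat_lit 111) (nat_lit 262143) (nat_lit 127) (nat_lit 262144) (nat_lit 324) (nat_lit 342) (nat_lit 4194303) (nat_lit 6) (nat_lit 63) (nat_lit 4) (nat_lit 15) 7 cl (nat_lit 396) wt18 rels subs 18 (nat_lit 1) 18
    (fun _ => Nat.mul_div_cancel _ (by decide)) hinv h1 hrels hsubs
    (by decide +kernel) (by decide +kernel) all_chk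
end H70.A9E

namespace H70.A9
open H70.TM H18.TC Subgroup

/-- the relations -/
def Rel {G : Type*} [Group G] (a b c d x t m n r : G) : Prop :=
  H2.Rel a b c d x t ∧
  m * m * m = 1 ∧
  d * a * m * (d * a) = m⁻¹ ∧
  m * a * m⁻¹ = t * d * b ∧
  m * t * m⁻¹ = b⁻¹ * t * b ∧
  m * (d * b) * m⁻¹ = d⁻¹ * b ∧
  n * n * n = 1 ∧
  d * b * n * (d * b) = n⁻¹ ∧
  n * b * n⁻¹ = t * b ∧
  n * t * n⁻¹ = c * a ∧
  n * (a * c) * n⁻¹ = t * c * a ∧
  x * t * c * b * (m * (d * a)) * (x * t * c * b * (m * (d * a))) * (x * t * c * b * (m * (d * a))) = 1 ∧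
  x * t * c * b * (n * (d * b)) * (x * t * c * b * (n * (d * b))) * (x * t * c * b * (n * (d * b))) = 1 ∧
  m * n * m⁻¹ * n⁻¹ = d * c * b ∧
  r * r = 1 ∧
  r * (d * a * b) * (r * (d * a * b)) * (r * (d * a * b)) = 1 ∧
  r * (m * (a * t * a) * n⁻¹) * (r * (m * (a * t * a) * n⁻¹)) = 1 ∧
  r * (d * a * b) * (x * c * a) = x * c * a * (r * (d * a * b)) ∧
  r * (c * b) = c * b * r ∧
  r * (d * b * a) = d * b * a * r

instance {G : Type*} [Group G] [DecidableEq G] (a b c d x t m n r : G) : Decidable (Rel a b c d x t m n r) := by
  unfold Rel; infer_instance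

theorem Rel.map {G G' : Type*} [Group G] [Group G'] (f : G →* G') {a b c d x t m n r : G}
    (h : Rel a b c d x t m n r) : Rel (f a) (f b) (f c) (f d) (f x) (f t) (f m) (f n) (f r) := by
  obtain ⟨⟨h0, h1, h2, h3, h4, h5, h6, h7, h8, h9, h10, h11, h12, h13, h14, h15, h16, h17⟩, h18, h19, h20, h21, h22, h23, h24, h25, h26, h27, h28, h29, h30, h31, h32, h33, h34, h35, h36⟩ := h
  exact ⟨⟨by simpa only [map_mul, map_inv, map_one] using congrArg f h0,
    by simpa only [map_mul, map_inv, map_one] using congrArg f h1,
    by simpa only [map_mul, map_inv, map_one] using congrArg f h2,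
    by simpa only [map_mul, map_inv, map_one] using congrArg f h3,
    by simpa only [map_mul, map_inv, map_one] using congrArg f h4,
    by simpa only [map_mul, map_inv, map_one] using congrArg f h5,
    by simpa only [map_mul, map_inv, map_one] using congrArg f h6,
    by simpa only [map_mul, map_inv, map_one] using congrArg f h7,
    by simpa only [map_mul, map_inv, map_one] using congrArg f h8,
    by simpa only [map_mul, map_inv, map_one] using congrArg f h9,
    by simpa only [map_mul, map_inv, map_one] using congrArg f h10,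
    by simpa only [map_mul, map_inv, map_one] using congrArg f h11,
    by simpa only [map_mul, map_inv, map_one] using congrArg f h12,
    by simpa only [map_mul, map_inv, map_one] using congrArg f h13,
    by simpa only [map_mul, map_inv, map_one] using congrArg f h14,
    by simpa only [map_mul, map_inv, map_one] using congrArg f h15,
    by simpa only [map_mul, map_inv, map_one] using congrArg f h16,
    by simpa only [map_mul, map_inv, map_one] using congrArg f h17⟩,
    by simpa only [map_mul, map_inv, map_one] using congrArg f h18,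
    by simpa only [map_mul, map_inv, map_one] using congrArg f h19,
    by simpa only [map_mul, map_inv, map_one] using congrArg f h20,
    by simpa only [map_mul, map_inv, map_one] using congrArg f h21,
    by simpa only [map_mul, map_inv, map_one] using congrArg f h22,
    by simpa only [map_mul, map_inv, map_one] using congrArg f h23,
    by simpa only [map_mul, map_inv, map_one] using congrArg f h24,
    by simpa only [map_mul, map_inv, map_one] using congrArg f h25,
    by simpa only [map_mul, map_inv, map_one] using congrArg f h26,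
    by simpa only [map_mul, map_inv, map_one] using congrArg f h27,
    by simpa only [map_mul, map_inv, map_one] using congrArg f h28,
    by simpa only [map_mul, map_inv, map_one] using congrArg f h29,
    by simpa only [map_mul, map_inv, map_one] using congrArg f h30,
    by simpa only [map_mul, map_inv, map_one] using congrArg f h31,
    by simpa only [map_mul, map_inv, map_one] using congrArg f h32,
    by simpa only [map_mul, map_inv, map_one] using congrArg f h33,
    by simpa only [map_mul, map_inv, map_one] using congrArg f h34,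
    by simpa only [map_mul, map_inv, map_one] using congrArg f h35,
    by simpa only [map_mul, map_inv, map_one] using congrArg f h36⟩

theorem Rel.of_map {G G' : Type*} [Group G] [Group G'] {f : G →* G'} (hf : Function.Injective f)
    {a b c d x t m n r : G} (h : Rel (f a) (f b) (f c) (f d) (f x) (f t) (f m) (f n) (f r)) : Rel a b c d x t m n r := by
  obtain ⟨⟨h0, h1, h2, h3, h4, h5, h6, h7, h8, h9, h10, h11, h12, h13, h14, h15, h16, h17⟩, h18, h19, h20, h21, h22, h23, h24, h25, h26, h27, h28, h29, h30, h31, h32, h33, h34, h35, h36⟩ := h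
  exact ⟨⟨hf (by simpa only [map_mul, map_inv, map_one] using h0),
    hf (by simpa only [map_mul, map_inv, map_one] using h1),
    hf (by simpa only [map_mul, map_inv, map_one] using h2),
    hf (by simpa only [map_mul, map_inv, map_one] using h3),
    hf (by simpa only [map_mul, map_inv, map_one] using h4),
    hf (by simpa only [map_mul, map_inv, map_one] using h5),
    hf (by simpa only [map_mul, map_inv, map_one] using h6),
    hf (by simpa only [map_mul, map_inv, map_one] using h7),
    hf (by simpa only [map_mul, map_inv, map_one] using h8),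
    hf (by simpa only [map_mul, map_inv, map_one] using h9),
    hf (by simpa only [map_mul, map_inv, map_one] using h10),
    hf (by simpa only [map_mul, map_inv, map_one] using h11),
    hf (by simpa only [map_mul, map_inv, map_one] using h12),
    hf (by simpa only [map_mul, map_inv, map_one] using h13),
    hf (by simpa only [map_mul, map_inv, map_one] using h14),
    hf (by simpa only [map_mul, map_inv, map_one] using h15),
    hf (by simpa only [map_mul, map_inv, map_one] using h16),
    hf (by simpa only [map_mul, map_inv, map_one] using h17)⟩,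
    hf (by simpa only [map_mul, map_inv, map_one] using h18),
    hf (by simpa only [map_mul, map_inv, map_one] using h19),
    hf (by simpa only [map_mul, map_inv, map_one] using h20),
    hf (by simpa only [map_mul, map_inv, map_one] using h21),
    hf (by simpa only [map_mul, map_inv, map_one] using h22),
    hf (by simpa only [map_mul, map_inv, map_one] using h23),
    hf (by simpa only [map_mul, map_inv, map_one] using h24),
    hf (by simpa only [map_mul, map_inv, map_one] using h25),
    hf (by simpa only [map_mul, map_inv, map_one] using h26),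
    hf (by simpa only [map_mul, map_inv, map_one] using h27),
    hf (by simpa only [map_mul, map_inv, map_one] using h28),
    hf (by simpa only [map_mul, map_inv, map_one] using h29),
    hf (by simpa only [map_mul, map_inv, map_one] using h30),
    hf (by simpa only [map_mul, map_inv, map_one] using h31),
    hf (by simpa only [map_mul, map_inv, map_one] using h32),
    hf (by simpa only [map_mul, map_inv, map_one] using h33),
    hf (by simpa only [map_mul, map_inv, map_one] using h34),
    hf (by simpa only [map_mul, map_inv, map_one] using h35),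
    hf (by simpa only [map_mul, map_inv, map_one] using h36)⟩

theorem Rel.prod {G G' : Type*} [Group G] [Group G'] {a b c d x t m n r : G} {a' b' c' d' x' t' m' n' r' : G'}
    (h : Rel a b c d x t m n r) (k : Rel a' b' c' d' x' t' m' n' r') :
    Rel (a, a') (b, b') (c, c') (d, d') (x, x') (t, t') (m, m') (n, n') (r, r') := by
  obtain ⟨⟨h0, h1, h2, h3, h4, h5, h6, h7, h8, h9, h10, h11, h12, h13, h14, h15, h16, h17⟩, h18, h19, h20, h21, h22, h23, h24, h25, h26, h27, h28, h29, h30, h31, h32, h33, h34, h35, h36⟩ := h
  obtain ⟨⟨k0, k1, k2, k3, k4, k5, k6, k7, k8, k9, k10, k11, k12, k13, k14, k15, k16, k17⟩, k18, k19, k20, k21, k22, k23, k24, k25, k26, k27, k28, k29, k30, k31, k32, k33, k34, k35, k36⟩ := k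
  exact ⟨⟨Prod.ext h0 k0, Prod.ext h1 k1, Prod.ext h2 k2, Prod.ext h3 k3, Prod.ext h4 k4, Prod.ext h5 k5, Prod.ext h6 k6, Prod.ext h7 k7, Prod.ext h8 k8, Prod.ext h9 k9, Prod.ext h10 k10, Prod.ext h11 k11, Prod.ext h12 k12, Prod.ext h13 k13, Prod.ext h14 k14, Prod.ext h15 k15, Prod.ext h16 k16, Prod.ext h17 k17⟩, Prod.ext h18 k18, Prod.ext h19 k19, Prod.ext h20 k20, Prod.ext h21 k21, Prod.ext h22 k22, Prod.ext h23 k23, Prod.ext h24 k24, Prod.ext h25 k25, Prod.ext h26 k26, Prod.ext h27 k27, Prod.ext h28 k28, Prod.ext h29 k29, Prod.ext h30 k30, Prod.ext h31 k31, Prod.ext h32 k32, Prod.ext h33 k33, Prod.ext h34 k34, Prod.ext h35 k35, Prod.ext h36 k36⟩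

theorem Rel.sat {G : Type*} [Group G] {a b c d x t m n r : G} (h : Rel a b c d x t m n r) :
    ∀ R ∈ A9E.rels, ev (lt [a, b, c, d, x, t, m, n, r]) R = 1 := by
  obtain ⟨⟨h0, h1, h2, h3, h4, h5, h6, h7, h8, h9, h10, h11, h12, h13, h14, h15, h16, h17⟩, h18, h19, h20, h21, h22, h23, h24, h25, h26, h27, h28, h29, h30, h31, h32, h33, h34, h35, h36⟩ := h
  exact List.forall_mem_cons.2 ⟨show a * (a * (a * (a * 1))) = 1 by
      simpa only [mul_assoc, mul_inv_rev, inv_inv, inv_one, mul_one, one_mul] using mul_inv_eq_one.2 h0,
    List.forall_mem_cons.2 ⟨show b * (b * (a⁻¹ * (a⁻¹ * 1))) = 1 by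
      simpa only [mul_assoc, mul_inv_rev, inv_inv, inv_one, mul_one, one_mul] using mul_inv_eq_one.2 h1,
    List.forall_mem_cons.2 ⟨show c * (c * (a⁻¹ * (a⁻¹ * 1))) = 1 by
      simpa only [mul_assoc, mul_inv_rev, inv_inv, inv_one, mul_one, one_mul] using mul_inv_eq_one.2 h2,
    List.forall_mem_cons.2 ⟨show d * (d * (a⁻¹ * (a⁻¹ * 1))) = 1 by
      simpa only [mul_assoc, mul_inv_rev, inv_inv, inv_one, mul_one, one_mul] using mul_inv_eq_one.2 h3,
    List.forall_mem_cons.2 ⟨show a * (b * (a * (b⁻¹ * 1))) = 1 by
      simpa only [mul_assoc, mul_inv_rev, inv_inv, inv_one, mul_one, one_mul] using mul_inv_eq_one.2 h4,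
    List.forall_mem_cons.2 ⟨show c * (d * (c * (d⁻¹ * 1))) = 1 by
      simpa only [mul_assoc, mul_inv_rev, inv_inv, inv_one, mul_one, one_mul] using mul_inv_eq_one.2 h5,
    List.forall_mem_cons.2 ⟨show a * (c * (a⁻¹ * (c⁻¹ * 1))) = 1 by
      simpa only [mul_assoc, mul_inv_rev, inv_inv, inv_one, mul_one, one_mul] using mul_inv_eq_one.2 h6,
    List.forall_mem_cons.2 ⟨show a * (d * (a⁻¹ * (d⁻¹ * 1))) = 1 by
      simpa only [mul_assoc, mul_inv_rev, inv_inv, inv_one, mul_one, one_mul] using mul_inv_eq_one.2 h7,
    List.forall_mem_cons.2 ⟨show b * (c * (b⁻¹ * (c⁻¹ * 1))) = 1 by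
      simpa only [mul_assoc, mul_inv_rev, inv_inv, inv_one, mul_one, one_mul] using mul_inv_eq_one.2 h8,
    List.forall_mem_cons.2 ⟨show b * (d * (b⁻¹ * (d⁻¹ * 1))) = 1 by
      simpa only [mul_assoc, mul_inv_rev, inv_inv, inv_one, mul_one, one_mul] using mul_inv_eq_one.2 h9,
    List.forall_mem_cons.2 ⟨show x * (x * (x * 1)) = 1 by
      simpa only [mul_assoc, mul_inv_rev, inv_inv, inv_one, mul_one, one_mul] using mul_inv_eq_one.2 h10,
    List.forall_mem_cons.2 ⟨show x * (a * (x⁻¹ * (b⁻¹ * 1))) = 1 by
      simpa only [mul_assoc, mul_inv_rev, inv_inv, inv_one, mul_one, one_mul] using mul_inv_eq_one.2 h11,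
    List.forall_mem_cons.2 ⟨show x * (b * (x⁻¹ * (b⁻¹ * (a⁻¹ * 1)))) = 1 by
      simpa only [mul_assoc, mul_inv_rev, inv_inv, inv_one, mul_one, one_mul] using mul_inv_eq_one.2 h12,
    List.forall_mem_cons.2 ⟨show x * (c * (x⁻¹ * (d⁻¹ * 1))) = 1 by
      simpa only [mul_assoc, mul_inv_rev, inv_inv, inv_one, mul_one, one_mul] using mul_inv_eq_one.2 h13,
    List.forall_mem_cons.2 ⟨show x * (d * (x⁻¹ * (d⁻¹ * (c⁻¹ * 1)))) = 1 by
      simpa only [mul_assoc, mul_inv_rev, inv_inv, inv_one, mul_one, one_mul] using mul_inv_eq_one.2 h14,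
    List.forall_mem_cons.2 ⟨show t * (t * 1) = 1 by
      simpa only [mul_assoc, mul_inv_rev, inv_inv, inv_one, mul_one, one_mul] using mul_inv_eq_one.2 h15,
    List.forall_mem_cons.2 ⟨show t * (x * (t * (x * 1))) = 1 by
      simpa only [mul_assoc, mul_inv_rev, inv_inv, inv_one, mul_one, one_mul] using mul_inv_eq_one.2 h16,
    List.forall_mem_cons.2 ⟨show t * (a * (t * (c * 1))) = 1 by
      simpa only [mul_assoc, mul_inv_rev, inv_inv, inv_one, mul_one, one_mul] using mul_inv_eq_one.2 h17,
    List.forall_mem_cons.2 ⟨show m * (m * (m * 1)) = 1 by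
      simpa only [mul_assoc, mul_inv_rev, inv_inv, inv_one, mul_one, one_mul] using mul_inv_eq_one.2 h18,
    List.forall_mem_cons.2 ⟨show d * (a * (m * (d * (a * (m * 1))))) = 1 by
      simpa only [mul_assoc, mul_inv_rev, inv_inv, inv_one, mul_one, one_mul] using mul_inv_eq_one.2 h19,
    List.forall_mem_cons.2 ⟨show m * (a * (m⁻¹ * (b⁻¹ * (d⁻¹ * (t⁻¹ * 1))))) = 1 by
      simpa only [mul_assoc, mul_inv_rev, inv_inv, inv_one, mul_one, one_mul] using mul_inv_eq_one.2 h20,
    List.forall_mem_cons.2 ⟨show m * (t * (m⁻¹ * (b⁻¹ * (t⁻¹ * (b * 1))))) = 1 by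
      simpa only [mul_assoc, mul_inv_rev, inv_inv, inv_one, mul_one, one_mul] using mul_inv_eq_one.2 h21,
    List.forall_mem_cons.2 ⟨show m * (d * (b * (m⁻¹ * (b⁻¹ * (d * 1))))) = 1 by
      simpa only [mul_assoc, mul_inv_rev, inv_inv, inv_one, mul_one, one_mul] using mul_inv_eq_one.2 h22,
    List.forall_mem_cons.2 ⟨show n * (n * (n * 1)) = 1 by
      simpa only [mul_assoc, mul_inv_rev, inv_inv, inv_one, mul_one, one_mul] using mul_inv_eq_one.2 h23,
    List.forall_mem_cons.2 ⟨show d * (b * (n * (d * (b * (n * 1))))) = 1 by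
      simpa only [mul_assoc, mul_inv_rev, inv_inv, inv_one, mul_one, one_mul] using mul_inv_eq_one.2 h24,
    List.forall_mem_cons.2 ⟨show n * (b * (n⁻¹ * (b⁻¹ * (t⁻¹ * 1)))) = 1 by
      simpa only [mul_assoc, mul_inv_rev, inv_inv, inv_one, mul_one, one_mul] using mul_inv_eq_one.2 h25,
    List.forall_mem_cons.2 ⟨show n * (t * (n⁻¹ * (a⁻¹ * (c⁻¹ * 1)))) = 1 by
      simpa only [mul_assoc, mul_inv_rev, inv_inv, inv_one, mul_one, one_mul] using mul_inv_eq_one.2 h26,
    List.forall_mem_cons.2 ⟨show n * (a * (c * (n⁻¹ * (a⁻¹ * (c⁻¹ * (t⁻¹ * 1)))))) = 1 by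
      simpa only [mul_assoc, mul_inv_rev, inv_inv, inv_one, mul_one, one_mul] using mul_inv_eq_one.2 h27,
    List.forall_mem_cons.2 ⟨show x * (t * (c * (b * (m * (d * (a * (x * (t * (c * (b * (m * (d * (a * (x * (t * (c * (b * (m * (d * (a * 1)))))))))))))))))))) = 1 by
      simpa only [mul_assoc, mul_inv_rev, inv_inv, inv_one, mul_one, one_mul] using mul_inv_eq_one.2 h28,
    List.forall_mem_cons.2 ⟨show x * (t * (c * (b * (n * (d * (b * (x * (t * (c * (b * (n * (d * (b * (x * (t * (c * (b * (n * (d * (b * 1)))))))))))))))))))) = 1 by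
      simpa only [mul_assoc, mul_inv_rev, inv_inv, inv_one, mul_one, one_mul] using mul_inv_eq_one.2 h29,
    List.forall_mem_cons.2 ⟨show m * (n * (m⁻¹ * (n⁻¹ * (b⁻¹ * (c⁻¹ * (d⁻¹ * 1)))))) = 1 by
      simpa only [mul_assoc, mul_inv_rev, inv_inv, inv_one, mul_one, one_mul] using mul_inv_eq_one.2 h30,
    List.forall_mem_cons.2 ⟨show r * (r * 1) = 1 by
      simpa only [mul_assoc, mul_inv_rev, inv_inv, inv_one, mul_one, one_mul] using mul_inv_eq_one.2 h31,
    List.forall_mem_cons.2 ⟨show r * (d * (a * (b * (r * (d * (a * (b * (r * (d * (a * (b * 1))))))))))) = 1 by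
      simpa only [mul_assoc, mul_inv_rev, inv_inv, inv_one, mul_one, one_mul] using mul_inv_eq_one.2 h32,
    List.forall_mem_cons.2 ⟨show r * (m * (a * (t * (a * (n⁻¹ * (r * (m * (a * (t * (a * (n⁻¹ * 1))))))))))) = 1 by
      simpa only [mul_assoc, mul_inv_rev, inv_inv, inv_one, mul_one, one_mul] using mul_inv_eq_one.2 h33,
    List.forall_mem_cons.2 ⟨show r * (d * (a * (b * (x * (c * (a * (b⁻¹ * (a⁻¹ * (d⁻¹ * (r⁻¹ * (a⁻¹ * (c⁻¹ * (x⁻¹ * 1))))))))))))) = 1 by
      simpa only [mul_assoc, mul_inv_rev, inv_inv, inv_one, mul_one, one_mul] using mul_inv_eq_one.2 h34,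
    List.forall_mem_cons.2 ⟨show r * (c * (b * (r⁻¹ * (b⁻¹ * (c⁻¹ * 1))))) = 1 by
      simpa only [mul_assoc, mul_inv_rev, inv_inv, inv_one, mul_one, one_mul] using mul_inv_eq_one.2 h35,
    List.forall_mem_cons.2 ⟨show r * (d * (b * (a * (r⁻¹ * (a⁻¹ * (b⁻¹ * (d⁻¹ * 1))))))) = 1 by
      simpa only [mul_assoc, mul_inv_rev, inv_inv, inv_one, mul_one, one_mul] using mul_inv_eq_one.2 h36,
    fun _ h => absurd h List.not_mem_nil⟩⟩⟩⟩⟩⟩⟩⟩⟩⟩⟩⟩⟩⟩⟩⟩⟩⟩⟩⟩⟩⟩⟩⟩⟩⟩⟩⟩⟩⟩⟩⟩⟩⟩⟩⟩⟩

theorem Rel.of_sat {G : Type*} [Group G] {a b c d x t m n r : G}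
    (h : ∀ R ∈ A9E.rels, ev (lt [a, b, c, d, x, t, m, n, r]) R = 1) : Rel a b c d x t m n r := by
  obtain ⟨h0, h⟩ := List.forall_mem_cons.1 h
  obtain ⟨h1, h⟩ := List.forall_mem_cons.1 h
  obtain ⟨h2, h⟩ := List.forall_mem_cons.1 h
  obtain ⟨h3, h⟩ := List.forall_mem_cons.1 h
  obtain ⟨h4, h⟩ := List.forall_mem_cons.1 h
  obtain ⟨h5, h⟩ := List.forall_mem_cons.1 h
  obtain ⟨h6, h⟩ := List.forall_mem_cons.1 h
  obtain ⟨h7, h⟩ := List.forall_mem_cons.1 h
  obtain ⟨h8, h⟩ := List.forall_mem_cons.1 h
  obtain ⟨h9, h⟩ := List.forall_mem_cons.1 h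
  obtain ⟨h10, h⟩ := List.forall_mem_cons.1 h
  obtain ⟨h11, h⟩ := List.forall_mem_cons.1 h
  obtain ⟨h12, h⟩ := List.forall_mem_cons.1 h
  obtain ⟨h13, h⟩ := List.forall_mem_cons.1 h
  obtain ⟨h14, h⟩ := List.forall_mem_cons.1 h
  obtain ⟨h15, h⟩ := List.forall_mem_cons.1 h
  obtain ⟨h16, h⟩ := List.forall_mem_cons.1 h
  obtain ⟨h17, h⟩ := List.forall_mem_cons.1 h
  obtain ⟨h18, h⟩ := List.forall_mem_cons.1 h
  obtain ⟨h19, h⟩ := List.forall_mem_cons.1 h
  obtain ⟨h20, h⟩ := List.forall_mem_cons.1 h
  obtain ⟨h21, h⟩ := List.forall_mem_cons.1 h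
  obtain ⟨h22, h⟩ := List.forall_mem_cons.1 h
  obtain ⟨h23, h⟩ := List.forall_mem_cons.1 h
  obtain ⟨h24, h⟩ := List.forall_mem_cons.1 h
  obtain ⟨h25, h⟩ := List.forall_mem_cons.1 h
  obtain ⟨h26, h⟩ := List.forall_mem_cons.1 h
  obtain ⟨h27, h⟩ := List.forall_mem_cons.1 h
  obtain ⟨h28, h⟩ := List.forall_mem_cons.1 h
  obtain ⟨h29, h⟩ := List.forall_mem_cons.1 h
  obtain ⟨h30, h⟩ := List.forall_mem_cons.1 h
  obtain ⟨h31, h⟩ := List.forall_mem_cons.1 h
  obtain ⟨h32, h⟩ := List.forall_mem_cons.1 h
  obtain ⟨h33, h⟩ := List.forall_mem_cons.1 h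
  obtain ⟨h34, h⟩ := List.forall_mem_cons.1 h
  obtain ⟨h35, h⟩ := List.forall_mem_cons.1 h
  obtain ⟨h36, h⟩ := List.forall_mem_cons.1 h
  exact ⟨⟨mul_inv_eq_one.1 (by simpa only [mul_assoc, mul_inv_rev, inv_inv, inv_one, mul_one, one_mul] using (show a * (a * (a * (a * 1))) = 1 from h0)),
    mul_inv_eq_one.1 (by simpa only [mul_assoc, mul_inv_rev, inv_inv, inv_one, mul_one, one_mul] using (show b * (b * (a⁻¹ * (a⁻¹ * 1))) = 1 from h1)),
    mul_inv_eq_one.1 (by simpa only [mul_assoc, mul_inv_rev, inv_inv, inv_one, mul_one, one_mul] using (show c * (c * (a⁻¹ * (a⁻¹ * 1))) = 1 from h2)),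
    mul_inv_eq_one.1 (by simpa only [mul_assoc, mul_inv_rev, inv_inv, inv_one, mul_one, one_mul] using (show d * (d * (a⁻¹ * (a⁻¹ * 1))) = 1 from h3)),
    mul_inv_eq_one.1 (by simpa only [mul_assoc, mul_inv_rev, inv_inv, inv_one, mul_one, one_mul] using (show a * (b * (a * (b⁻¹ * 1))) = 1 from h4)),
    mul_inv_eq_one.1 (by simpa only [mul_assoc, mul_inv_rev, inv_inv, inv_one, mul_one, one_mul] using (show c * (d * (c * (d⁻¹ * 1))) = 1 from h5)),
    mul_inv_eq_one.1 (by simpa only [mul_assoc, mul_inv_rev, inv_inv, inv_one, mul_one, one_mul] using (show a * (c * (a⁻¹ * (c⁻¹ * 1))) = 1 from h6)),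
    mul_inv_eq_one.1 (by simpa only [mul_assoc, mul_inv_rev, inv_inv, inv_one, mul_one, one_mul] using (show a * (d * (a⁻¹ * (d⁻¹ * 1))) = 1 from h7)),
    mul_inv_eq_one.1 (by simpa only [mul_assoc, mul_inv_rev, inv_inv, inv_one, mul_one, one_mul] using (show b * (c * (b⁻¹ * (c⁻¹ * 1))) = 1 from h8)),
    mul_inv_eq_one.1 (by simpa only [mul_assoc, mul_inv_rev, inv_inv, inv_one, mul_one, one_mul] using (show b * (d * (b⁻¹ * (d⁻¹ * 1))) = 1 from h9)),
    mul_inv_eq_one.1 (by simpa only [mul_assoc, mul_inv_rev, inv_inv, inv_one, mul_one, one_mul] using (show x * (x * (x * 1)) = 1 from h10)),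
    mul_inv_eq_one.1 (by simpa only [mul_assoc, mul_inv_rev, inv_inv, inv_one, mul_one, one_mul] using (show x * (a * (x⁻¹ * (b⁻¹ * 1))) = 1 from h11)),
    mul_inv_eq_one.1 (by simpa only [mul_assoc, mul_inv_rev, inv_inv, inv_one, mul_one, one_mul] using (show x * (b * (x⁻¹ * (b⁻¹ * (a⁻¹ * 1)))) = 1 from h12)),
    mul_inv_eq_one.1 (by simpa only [mul_assoc, mul_inv_rev, inv_inv, inv_one, mul_one, one_mul] using (show x * (c * (x⁻¹ * (d⁻¹ * 1))) = 1 from h13)),
    mul_inv_eq_one.1 (by simpa only [mul_assoc, mul_inv_rev, inv_inv, inv_one, mul_one, one_mul] using (show x * (d * (x⁻¹ * (d⁻¹ * (c⁻¹ * 1)))) = 1 from h14)),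
    mul_inv_eq_one.1 (by simpa only [mul_assoc, mul_inv_rev, inv_inv, inv_one, mul_one, one_mul] using (show t * (t * 1) = 1 from h15)),
    mul_inv_eq_one.1 (by simpa only [mul_assoc, mul_inv_rev, inv_inv, inv_one, mul_one, one_mul] using (show t * (x * (t * (x * 1))) = 1 from h16)),
    mul_inv_eq_one.1 (by simpa only [mul_assoc, mul_inv_rev, inv_inv, inv_one, mul_one, one_mul] using (show t * (a * (t * (c * 1))) = 1 from h17))⟩,
    mul_inv_eq_one.1 (by simpa only [mul_assoc, mul_inv_rev, inv_inv, inv_one, mul_one, one_mul] using (show m * (m * (m * 1)) = 1 from h18)),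
    mul_inv_eq_one.1 (by simpa only [mul_assoc, mul_inv_rev, inv_inv, inv_one, mul_one, one_mul] using (show d * (a * (m * (d * (a * (m * 1))))) = 1 from h19)),
    mul_inv_eq_one.1 (by simpa only [mul_assoc, mul_inv_rev, inv_inv, inv_one, mul_one, one_mul] using (show m * (a * (m⁻¹ * (b⁻¹ * (d⁻¹ * (t⁻¹ * 1))))) = 1 from h20)),
    mul_inv_eq_one.1 (by simpa only [mul_assoc, mul_inv_rev, inv_inv, inv_one, mul_one, one_mul] using (show m * (t * (m⁻¹ * (b⁻¹ * (t⁻¹ * (b * 1))))) = 1 from h21)),
    mul_inv_eq_one.1 (by simpa only [mul_assoc, mul_inv_rev, inv_inv, inv_one, mul_one, one_mul] using (show m * (d * (b * (m⁻¹ * (b⁻¹ * (d * 1))))) = 1 from h22)),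
    mul_inv_eq_one.1 (by simpa only [mul_assoc, mul_inv_rev, inv_inv, inv_one, mul_one, one_mul] using (show n * (n * (n * 1)) = 1 from h23)),
    mul_inv_eq_one.1 (by simpa only [mul_assoc, mul_inv_rev, inv_inv, inv_one, mul_one, one_mul] using (show d * (b * (n * (d * (b * (n * 1))))) = 1 from h24)),
    mul_inv_eq_one.1 (by simpa only [mul_assoc, mul_inv_rev, inv_inv, inv_one, mul_one, one_mul] using (show n * (b * (n⁻¹ * (b⁻¹ * (t⁻¹ * 1)))) = 1 from h25)),
    mul_inv_eq_one.1 (by simpa only [mul_assoc, mul_inv_rev, inv_inv, inv_one, mul_one, one_mul] using (show n * (t * (n⁻¹ * (a⁻¹ * (c⁻¹ * 1)))) = 1 from h26)),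
    mul_inv_eq_one.1 (by simpa only [mul_assoc, mul_inv_rev, inv_inv, inv_one, mul_one, one_mul] using (show n * (a * (c * (n⁻¹ * (a⁻¹ * (c⁻¹ * (t⁻¹ * 1)))))) = 1 from h27)),
    mul_inv_eq_one.1 (by simpa only [mul_assoc, mul_inv_rev, inv_inv, inv_one, mul_one, one_mul] using (show x * (t * (c * (b * (m * (d * (a * (x * (t * (c * (b * (m * (d * (a * (x * (t * (c * (b * (m * (d * (a * 1)))))))))))))))))))) = 1 from h28)),
    mul_inv_eq_one.1 (by simpa only [mul_assoc, mul_inv_rev, inv_inv, inv_one, mul_one, one_mul] using (show x * (t * (c * (b * (n * (d * (b * (x * (t * (c * (b * (n * (d * (b * (x * (t * (c * (b * (n * (d * (b * 1)))))))))))))))))))) = 1 from h29)),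
    mul_inv_eq_one.1 (by simpa only [mul_assoc, mul_inv_rev, inv_inv, inv_one, mul_one, one_mul] using (show m * (n * (m⁻¹ * (n⁻¹ * (b⁻¹ * (c⁻¹ * (d⁻¹ * 1)))))) = 1 from h30)),
    mul_inv_eq_one.1 (by simpa only [mul_assoc, mul_inv_rev, inv_inv, inv_one, mul_one, one_mul] using (show r * (r * 1) = 1 from h31)),
    mul_inv_eq_one.1 (by simpa only [mul_assoc, mul_inv_rev, inv_inv, inv_one, mul_one, one_mul] using (show r * (d * (a * (b * (r * (d * (a * (b * (r * (d * (a * (b * 1))))))))))) = 1 from h32)),
    mul_inv_eq_one.1 (by simpa only [mul_assoc, mul_inv_rev, inv_inv, inv_one, mul_one, one_mul] using (show r * (m * (a * (t * (a * (n⁻¹ * (r * (m * (a * (t * (a * (n⁻¹ * 1))))))))))) = 1 from h33)),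
    mul_inv_eq_one.1 (by simpa only [mul_assoc, mul_inv_rev, inv_inv, inv_one, mul_one, one_mul] using (show r * (d * (a * (b * (x * (c * (a * (b⁻¹ * (a⁻¹ * (d⁻¹ * (r⁻¹ * (a⁻¹ * (c⁻¹ * (x⁻¹ * 1))))))))))))) = 1 from h34)),
    mul_inv_eq_one.1 (by simpa only [mul_assoc, mul_inv_rev, inv_inv, inv_one, mul_one, one_mul] using (show r * (c * (b * (r⁻¹ * (b⁻¹ * (c⁻¹ * 1))))) = 1 from h35)),
    mul_inv_eq_one.1 (by simpa only [mul_assoc, mul_inv_rev, inv_inv, inv_one, mul_one, one_mul] using (show r * (d * (b * (a * (r⁻¹ * (a⁻¹ * (b⁻¹ * (d⁻¹ * 1))))))) = 1 from h36))⟩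

theorem Rel.a8 {G : Type*} [Group G] {a b c d x t m n r : G} (h : Rel a b c d x t m n r) : A8.Rel a b c d x t m n := by
  obtain ⟨h, h0, h1, h2, h3, h4, h5, h6, h7, h8, h9, h10, h11, h12, -⟩ := h
  exact ⟨h, h0, h1, h2, h3, h4, h5, h6, h7, h8, h9, h10, h11, h12⟩

theorem bound {G : Type*} [Group G] [Finite G] {a b c d x t m n r : G} (h : Rel a b c d x t m n r) :
    Nat.card (closure {g | g ∈ [a, b, c, d, x, t, m, n, r]}) ≤ 181440 := by
  obtain ⟨pt, e, -, hT⟩ := A9E.enum (lt [a, b, c, d, x, t, m, n, r])
    ((1 : G) : G ⧸ closure {g | g ∈ [a, b, c, d, x, t, m, n]})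
    (lt_icol _ _ (k := 9) rfl (by decide +kernel)) (lt_ge le_rfl) h.sat
    (List.forall_mem_cons.2 ⟨smul_one_coset.2 (show a * 1 ∈ _ from
        mul_mem (subset_closure (by simp)) (one_mem _)),
      List.forall_mem_cons.2 ⟨smul_one_coset.2 (show b * 1 ∈ _ from
        mul_mem (subset_closure (by simp)) (one_mem _)),
      List.forall_mem_cons.2 ⟨smul_one_coset.2 (show c * 1 ∈ _ from
        mul_mem (subset_closure (by simp)) (one_mem _)),
      List.forall_mem_cons.2 ⟨smul_one_coset.2 (show d * 1 ∈ _ from
        mul_mem (subset_closure (by simp)) (one_mem _)),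
      List.forall_mem_cons.2 ⟨smul_one_coset.2 (show x * 1 ∈ _ from
        mul_mem (subset_closure (by simp)) (one_mem _)),
      List.forall_mem_cons.2 ⟨smul_one_coset.2 (show t * 1 ∈ _ from
        mul_mem (subset_closure (by simp)) (one_mem _)),
      List.forall_mem_cons.2 ⟨smul_one_coset.2 (show m * 1 ∈ _ from
        mul_mem (subset_closure (by simp)) (one_mem _)),
      List.forall_mem_cons.2 ⟨smul_one_coset.2 (show n * 1 ∈ _ from
        mul_mem (subset_closure (by simp)) (one_mem _)),
      fun _ h => absurd h List.not_mem_nil⟩⟩⟩⟩⟩⟩⟩⟩)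
  exact (card_closure_le (l := [a, b, c, d, x, t, m, n, r]) (by norm_num) e hT).trans
    (Nat.mul_le_mul_right 9 (A8.bound h.a8))

end H70.A9
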