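import Mathlib
import Cfsg.Agent.Base
import Cfsg.Agent.Lib.M12C.TA9
import Cfsg.Agent.Lib.CGT.Check

/-! Generators of `A9` satisfying the presentation (helper70; generated) -/

set_option autoImplicit false
set_option maxRecDepth 100000

namespace H70.A9
open H70.TM H18.TC Subgroup Cfsg H54

noncomputable def cfg : H54.Cfg := ⟨9, 10, 4, 15, 0x9876543210,
  0x1111111111,
  0x7777777777,
  0x8888888888,
  (.cons 64 69905 20
    (.cons 65 0x10100101 4
    (.cons 66 0x101001010 4
    (.cons 67 0x10100101 4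
    (.cons 104 0x101001010 4
    (.cons 105 0x10100101 4
    (.cons 106 69905 20
    .nil)))))))⟩
theorem cfg_check : cfg.check = true := by decide +kernel

noncomputable def ch_7 : H54.Chain := .nil
noncomputable def ch_t6 : H54.Tr :=
 (.node 0 (.leaf 0x101000000048420000000200000001)
 (.node 1 (.leaf 0x101200000048400001000100000004)
 (.leaf 0x4000000000004)))
noncomputable def ch_6 : H54.Chain := .cons 4 19 ch_t6
  [0x9876513204]
  [] ch_7
noncomputable def ch_t5 : H54.Tr :=
 (.node 1 (.node 0 (.leaf 0x40000000001a420000000100000008)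
 (.leaf 0x40000000001a480001000200000000))
 (.node 4 (.leaf 0x50000000001a400004000201000000)
 (.node 8 (.leaf 0x8000000000008)
 (.leaf 0x10120000004840000a000000000000))))
noncomputable def ch_5 : H54.Chain := .cons 8 275 ch_t5
  [0x9076543281, 0x9876513204]
  [[10]] ch_6
noncomputable def ch_t4 : H54.Tr :=
 (.node 2 (.node 0 (.leaf 0x401200000058480000000200000001)
 (.node 1 (.leaf 0x100000004a000001000101000002)
 (.leaf 0x2000000000002)))
 (.node 8 (.node 4 (.leaf 0x100000000048400004000201000001)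
 (.leaf 0x40120000005a400008000100000002))
 (.node 9 (.leaf 0x40120000005a400009000000000000)
 (.leaf 0x100000004a00000a000000000000))))
noncomputable def ch_4 : H54.Chain := .cons 2 279 ch_t4
  [0x9176523804, 0x9876523140]
  [[1, 4, 2, 9, 1, 0, 8], [0, 8, 4, 10, 0, 4, 10, 0, 0]] ch_5
noncomputable def ch_t3 : H54.Tr :=
 (.node 4 (.node 1 (.node 0 (.leaf 0x40520000005a500000000100000006)
 (.leaf 0x445200040059420001000201000000))
 (.node 2 (.leaf 0x50500000001a580002000300000004)
 (.leaf 0x4050000000585a0004000200000000)))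
 (.node 8 (.node 6 (.leaf 0x6000000000006)
 (.leaf 0x50400000005a520008000400000002))
 (.node 9 (.leaf 0x40520000005a500009000000000000)
 (.leaf 0x4400084000102000a000000000000))))
noncomputable def ch_3 : H54.Chain := .cons 6 343 ch_t3
  [0x9670523814, 0x9670543821]
  [[2, 1, 8, 0, 0], [10, 8, 10, 0, 9, 4]] ch_4
noncomputable def ch_t2 : H54.Tr :=
 (.node 3 (.node 1 (.node 0 (.leaf 0x58520000000101000003)
 (.leaf 0x10400500484010a480001000300000008))
 (.node 2 (.leaf 0x104000004840112120002000100000003)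
 (.leaf 0x3000000000003)))
 (.node 6 (.node 4 (.leaf 0x14400020001b420004000201000002)
 (.leaf 0x505200a4004a400006000200000000))
 (.node 8 (.leaf 0x40520000004a4a0008000200000002)
 (.node 9 (.leaf 0x104000004840112120009000000000000)
 (.leaf 0x5852000a000000000000)))))
noncomputable def ch_2 : H54.Chain := .cons 3 351 ch_t2
  [0x9174532806, 0x9371580426]
  [[9, 0, 10, 10, 10, 10, 8, 3, 6], [10, 9, 4, 3, 9, 2]] ch_3
noncomputable def ch_t1 : H54.Tr :=
 (.node 4 (.node 1 (.node 0 (.leaf 0x10124004404840102100000000100000005)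
 (.leaf 0x100145400a48059420001000101000005))
 (.node 2 (.leaf 0x404400a48040480002000201000001)
 (.node 3 (.leaf 0x405000a4a05a500003000201000000)
 (.leaf 0x10124000004842100020004000200000000))))
 (.node 6 (.node 5 (.leaf 0x5000000000005)
 (.leaf 0x10004444404a4810b520006000401000008))
 (.node 8 (.leaf 0x10104044000a4a10b480008000301000003)
 (.node 9 (.leaf 0x10124004404840102100009000000000000)
 (.leaf 0x100145400a4805942000a000000000000)))))
noncomputable def ch_1 : H54.Chain := .cons 5 383 ch_t1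
  [0x9876012354, 0x9674108523]
  [[6, 9, 10, 8, 10, 9, 3, 9, 6], [3, 8, 1, 9, 4, 1]] ch_2
noncomputable def ch_t0 : H54.Tr :=
 (.node 5 (.node 2 (.node 0 (.leaf 0x1244444048001104a0000000205000001)
 (.node 1 (.leaf 0x4440004a042480001000100000007)
 (.leaf 0x541400240058420002000101000007)))
 (.node 3 (.leaf 0x14140004004b400003000203000001)
 (.node 4 (.leaf 0x4000004a02102020004000105000007)
 (.leaf 0x104001004a021084a0005000103000007))))
 (.node 8 (.node 6 (.leaf 0x4000004040100000006000108000007)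
 (.node 7 (.leaf 0x7000000000007)
 (.leaf 0x10004000000848102020008000208000004)))
 (.node 13 (.node 9 (.leaf 0x4440004a042480009000000000000)
 (.leaf 0x40500024a05a10000d000000000000))
 (.node 14 (.leaf 0x4000004a0210202000e000000000000)
 (.leaf 0x4000004040100000011000000000000)))))
noncomputable def ch_0 : H54.Chain := .cons 7 511 ch_t0
  [0x9810324567, 0x9823107645, 0x9823017654, 0x9854670132, 0x9854327610, 0x9845672301, 0x9846750231, 0x9847563102, 0x9467583210]
  [[9, 13, 3, 2, 7, 0], [8, 17, 14, 13, 2]] ch_1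
noncomputable def ch : H54.Chain := ch_0

theorem ch_low0 : H54.checkLow cfg ch_0 = true := by decide +kernel
theorem ch_low : H54.checkLow cfg ch = true := ch_low0
theorem ch_size : ch.size cfg.n = 181440 := by decide +kernel


/-- the group -/
abbrev P : Type := alternatingGroup (Fin 9)

def ga : P := ⟨⟨![7, 6, 5, 4, 2, 3, 0, 1, 8], ![6, 7, 4, 5, 3, 2, 1, 0, 8], by decide, by decide⟩,
  Equiv.Perm.mem_alternatingGroup.2 (by decide +kernel)⟩
def gb : P := ⟨⟨![5, 4, 6, 7, 0, 1, 3, 2, 8], ![4, 5, 7, 6, 1, 0, 2, 3, 8], by decide, by decide⟩,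
  Equiv.Perm.mem_alternatingGroup.2 (by decide +kernel)⟩
def gc : P := ⟨⟨![4, 5, 6, 7, 1, 0, 3, 2, 8], ![5, 4, 7, 6, 0, 1, 2, 3, 8], by decide, by decide⟩,
  Equiv.Perm.mem_alternatingGroup.2 (by decide +kernel)⟩
def gd : P := ⟨⟨![2, 3, 1, 0, 7, 6, 4, 5, 8], ![3, 2, 0, 1, 6, 7, 5, 4, 8], by decide, by decide⟩,
  Equiv.Perm.mem_alternatingGroup.2 (by decide +kernel)⟩
def gx : P := ⟨⟨![0, 1, 6, 7, 2, 3, 4, 5, 8], ![0, 1, 4, 5, 6, 7, 2, 3, 8], by decide, by decide⟩,
  Equiv.Perm.mem_alternatingGroup.2 (by decide +kernel)⟩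
def gt : P := ⟨⟨![1, 0, 3, 2, 7, 6, 5, 4, 8], ![1, 0, 3, 2, 7, 6, 5, 4, 8], by decide, by decide⟩,
  Equiv.Perm.mem_alternatingGroup.2 (by decide +kernel)⟩
def gm : P := ⟨⟨![1, 3, 2, 0, 5, 7, 6, 4, 8], ![3, 0, 2, 1, 7, 4, 6, 5, 8], by decide, by decide⟩,
  Equiv.Perm.mem_alternatingGroup.2 (by decide +kernel)⟩
def gn : P := ⟨⟨![2, 0, 1, 3, 6, 5, 7, 4, 8], ![1, 2, 0, 3, 7, 5, 4, 6, 8], by decide, by decide⟩,
  Equiv.Perm.mem_alternatingGroup.2 (by decide +kernel)⟩
def gr : P := ⟨⟨![0, 1, 2, 3, 8, 5, 7, 6, 4], ![0, 1, 2, 3, 8, 5, 7, 6, 4], by decide, by decide⟩,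
  Equiv.Perm.mem_alternatingGroup.2 (by decide +kernel)⟩

theorem card : Nat.card P = 181440 := by rw [nat_card_alternatingGroup]; simp [Nat.factorial]

theorem rel : Rel ga gb gc gd gx gt gm gn gr := by decide +kernel

theorem rep : List.Forall₂ (Rep cfg (finPt 9)) [ga, gb, gc, gd, gx, gt, gm, gn, gr] ch.gens := by
  rw [show ch.gens = [653106759015, 653423310405, 653422327380, 654251065650, 654247622160, 653999416065, 654017102385, 654031859970, 637388993040] by decide +kernel]
  refine .cons ?_ (.cons ?_ (.cons ?_ (.cons ?_ (.cons ?_ (.cons ?_ (.cons ?_ (.cons ?_ (.cons ?_ (.nil))))))))) <;> intro i hi <;> change i < 9 at hi <;>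
    interval_cases i <;> decide +kernel

theorem top : closure {g | g ∈ [ga, gb, gc, gd, gx, gt, gm, gn, gr]} = ⊤ := by
  have hK : Kfix P cfg (finPt 9) = ⊥ := Kfix_eq_bot (finPt_surj rfl)
  have ht := (good_of_card_le (ctx_fin (n := 9) cfg_check rfl) hK (H := ⊤) (ch := ch) (fun s hs => by
    obtain ⟨g, r⟩ := valid_of_forall₂ rep s hs
    exact ⟨g, mem_top _, r⟩) ch_low (by rw [card_top, card, ch_size])).2
  rwa [grp_eq_closure hK rep] at ht

theorem iso {G : Type*} [Group G] [Finite G] [Nontrivial G] {a b c d x t m n r : G}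
    (h : Rel a b c d x t m n r) (ht : closure {g | g ∈ [a, b, c, d, x, t, m, n, r]} = ⊤) :
    Nonempty (G ≃* alternatingGroup (Fin 9)) := by
  have : IsSimpleGroup P := alternatingGroup.isSimpleGroup (by simp)
  exact iso_of_card rfl top ht ((bound (rel.prod h)).trans card.ge)

end H70.A9
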