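import Mathlib
import Cfsg.Agent.Base
import Cfsg.Agent.Lib.M12C.C2
import Cfsg.Agent.Lib.M12C.A5R
import Cfsg.Agent.Lib.M12C.IA8
import Cfsg.Agent.Lib.M12C.IA9
import Cfsg.Agent.Lib.NGrp.BaumAux

/-!
# The centraliser of type `A₈`: recognition of `A₈` and `A₉` (helper70)
-/

set_option autoImplicit false
set_option maxRecDepth 100000

namespace H70.H2

open Subgroup H69 Cfsg H70.TM

variable {G : Type*} [Group G] {φ : E →* G} {m n : G}

noncomputable def f : E := a * t * a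
noncomputable def b1 : E := d * a * b
noncomputable def b2 : E := d * t * d
noncomputable def u1 : E := c * b
noncomputable def g1 : E := x * t * c * b
noncomputable def x1 : E := x * c * a

theorem Mod.memA (M : Mod φ z) {g : G} (h1 : Act φ g z z) (h2 : Act φ g t t) :
    ∃ u, u * t = t * u ∧ φ u = g := by
  obtain ⟨u, rfl⟩ := M.ran g (cj_eq_iff'.1 h1)
  exact ⟨u, M.comm_iff.1 (cj_eq_iff'.1 h2), rfl⟩

namespace NT0

theorem n3 (h : NT0 φ m n) : ¬ Cj (φ z) (φ v3) := by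
  have k : ∀ {u y w : E}, (u * v1 = v1 * u ∧ al u = y) ∧ w * v2 = v2 * w ∧ be w = y →
      Act φ (n⁻¹ * m) u w := fun e => (h.act e.1).trans (h.act2 e.2).symm
  have a1 : Act φ (n⁻¹ * m) z t := k (y := v1) (by decide +kernel)
  have a2 : Act φ (n⁻¹ * m) t (t * d * a * b) := k (y := d * b * t * a) (by decide +kernel)
  have a3 : Act φ (n⁻¹ * m) (t * d * a * b) z := k (y := v2) (by decide +kernel)
  have a4 : Act φ (n⁻¹ * m) v3 v3 := k (y := f) (by decide +kernel)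
  have a5 : Act φ (n⁻¹ * m) f f := k (y := b * t * b) (by decide +kernel)
  obtain ⟨u, hu, e⟩ := Mod.memA h.M ((a1.trans a2).trans a3) ((a2.trans a3).trans a1)
  refine h.M.not_cj_of_three (by decide +kernel) (f := f) (by decide +kernel) ?_ (fun e => ?_)
    (a4.trans a4) (a5.trans a5)
  · have := congrArg φ ((by decide +kernel : ∀ u : E, u * t = t * u → u * u = 1) u hu)
    rw [map_mul, e, map_one] at this
    rw [← this]; simp only [mul_assoc]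
  · have := a1.trans a2
    rw [e] at this
    exact absurd (h.M.act_eq this (by simp [Act] : Act φ 1 z z)) (by decide +kernel)

theorem n3' (h : NT0 φ m n) {u : E} (e : Cj u v3) : ¬ Cj (φ z) (φ u) :=
  fun c => h.n3 (c.trans (e.map φ))

theorem ntz (h : NT0 φ m n) {u : E} (e : Cj u (t * z)) : ¬ Cj (φ z) (φ u) :=
  fun c => h.n3' (by decide +kernel) ((c.trans (e.map φ)).trans h.ktz.cj.symm)

theorem zv2 (h : NT0 φ m n) {u : E} (e : Cj v2 u) : Cj (φ z) (φ u) := h.T2.mz.cj.trans (e.map φ)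

theorem zt (h : NT0 φ m n) {u : E} (e : Cj t u) : Cj (φ z) (φ u) :=
  ((h.zv2 (by decide +kernel)).trans h.kt.cj).trans (e.map φ)

theorem comm (h : NT0 φ m n) : m * n * m⁻¹ * n⁻¹ = φ v2 ∨ m * n * m⁻¹ * n⁻¹ = φ (t * z) := by
  have k : ∀ {u y y' y'' w : E}, (y * v2 = v2 * y ∧ be y = u) ∧ (y' * v1 = v1 * y' ∧ al y' = y) ∧
      (y' * v2 = v2 * y' ∧ be y' = y'') ∧ y'' * v1 = v1 * y'' ∧ al y'' = w →
      Act φ (m * n * m⁻¹ * n⁻¹) u w := fun e => by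
    have := (((h.act2 e.1).symm.trans (h.act e.2.1).symm).trans (h.act2 e.2.2.1)).trans (h.act e.2.2.2)
    rwa [← mul_assoc, ← mul_assoc] at this
  obtain ⟨u, hu, e⟩ := Mod.memA h.M
    (k (y := z * v2) (y' := d * b * t * a) (y'' := z * v1) (by decide +kernel))
    (k (y := t * c * a) (y' := v2) (y'' := z * v2) (by decide +kernel))
  have e1 : Act φ m (q1 * u⁻¹⁻¹ * be q1) (q1 * be q1 * u⁻¹) := by
    simp only [Act, map_mul φ, map_inv φ]
    exact comm_eq h.T.qm (by rw [← map_mul, (by decide +kernel : q1 * q1 = 1), map_one])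
      (h.act2 ⟨by decide +kernel, rfl⟩) (by rw [e]; group)
  have e2 : Act φ n (q2 * u⁻¹ * al q2) (q2 * al q2 * u) := by
    simp only [Act, map_mul φ, map_inv φ]
    exact comm_eq h.T2.qm (by rw [← map_mul, (by decide +kernel : q2 * q2 = 1), map_one])
      (h.act ⟨by decide +kernel, rfl⟩) (by rw [e]; group)
  have c := (by decide +kernel : ∀ u : E, u * t = t * u →
    q1 * u⁻¹⁻¹ * be q1 * v1 = v1 * (q1 * u⁻¹⁻¹ * be q1) ∧ q2 * u⁻¹ * al q2 * v2 = v2 * (q2 * u⁻¹ * al q2) ∧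
    (al (q1 * u⁻¹⁻¹ * be q1) = q1 * be q1 * u⁻¹ → be (q2 * u⁻¹ * al q2) = q2 * al q2 * u →
      u = v2 ∨ u = t * z)) u hu
  rw [← e]
  exact (c.2.2 (h.M.act_eq (h.act ⟨c.1, rfl⟩) e1) (h.M.act_eq (h.act2 ⟨c.2.1, rfl⟩) e2)).imp
    (congrArg φ) (congrArg φ)

theorem exists_comm (h : NT0 φ m n) : ∃ n, NT0 φ m n ∧ m * n * m⁻¹ * n⁻¹ = φ v2 := by
  rcases h.comm with e | e
  · exact ⟨n, h, e⟩
  refine ⟨_, ⟨h.toMT, h.T2.conj (k := z) (by decide +kernel), (h.nb.conj z).of_eq (by decide +kernel),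
    (h.nt.conj z).of_eq (by decide +kernel), (h.nac.conj z).of_eq (by decide +kernel)⟩, ?_⟩
  have e1 := h.T.mz.eq
  have e2 := (h.act2 (u := v1⁻¹ * z) (w := (t * z)⁻¹ * v1⁻¹ * v2 * z) (by decide +kernel)).eq
  simp only [map_mul φ, map_inv φ] at e e2
  calc _ = m * φ z * m⁻¹ * (m * n * m⁻¹ * n⁻¹) * (n * ((m * φ z * m⁻¹)⁻¹ * φ z) * n⁻¹) * (φ z)⁻¹ := by
        group
    _ = _ := by rw [e1, e, e2]; group

theorem be_mem (h : NT0 φ m n) : ∀ e ∈ N2, be e ∈ N2 ∧ Act φ n e (be e) := fun e he =>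
  have := (by decide +kernel : ∀ e ∈ N2, e * v2 = v2 * e ∧ be e ∈ N2) e he
  ⟨this.2, h.act2 ⟨this.1, rfl⟩⟩

theorem rel (h : NT0 φ m n) (hc : m * n * m⁻¹ * n⁻¹ = φ v2) :
    A8.Rel (φ a) (φ b) (φ c) (φ d) (φ x) (φ t) m n := by
  have c1 := h.M.cube h.T (g := g1) eData1 h.al_mem (by decide +kernel) (by decide +kernel)
    fun e he e1 e2 e3 c => h.n3' ((by decide +kernel : ∀ e ∈ N1, e ≠ 1 → g1 * e = e * g1 →
      al (q1 * e * q1⁻¹) = e → Cj (al e * q1) v3) e he e1 e2 e3) ((h.zt (by decide +kernel)).trans c)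
  have c2 := h.M.cube h.T2 (g := g1) eData2 h.be_mem (by decide +kernel) (by decide +kernel)
    fun e he e1 e2 e3 c => h.n3' ((by decide +kernel : ∀ e ∈ N2, e ≠ 1 → g1 * e = e * g1 →
      be (q2 * e * q2⁻¹) = e → Cj (be e * q2) v3) e he e1 e2 e3) ((h.zt (by decide +kernel)).trans c)
  have e1 := h.ma
  have e2 := h.mt
  have e3 := h.mdb
  have e4 := h.T.qm
  have e5 := h.nb
  have e6 := h.nt
  have e7 := h.nac
  have e8 := h.T2.qm
  simp only [Act, map_mul, map_inv, q1, q2, g1, v2] at e1 e2 e3 e4 e5 e6 e7 e8 c1 c2 hc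
  exact ⟨H2.rel.map φ, h.T.m3, e4, e1, e2, e3, h.T2.m3, e8, e5, e6, e7, c1, c2, hc⟩

end NT0

noncomputable def T0 : Subgroup E := El.sub (fun u => u * v3 = v3 * u) (by decide +kernel)
noncomputable def W0 : Subgroup E := El.sub (fun u => u = 1 ∨ Vee b1 b2 u) (by decide +kernel)
noncomputable instance (u : E) : Decidable (u ∈ T0) := inferInstanceAs (Decidable (u * v3 = v3 * u))
noncomputable instance (u : E) : Decidable (u ∈ W0) :=
  inferInstanceAs (Decidable (u = 1 ∨ Vee b1 b2 u))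

noncomputable def M0 : Subgroup E :=
  El.sub (fun u => u ∈ T0 ∧ u * (f * u1) * u⁻¹ * (f * u1)⁻¹ ∈ W0) (by decide +kernel)

noncomputable instance (u : E) : Decidable (u ∈ M0) :=
  inferInstanceAs (Decidable (u ∈ T0 ∧ u * (f * u1) * u⁻¹ * (f * u1)⁻¹ ∈ W0))

/-- an element of order 3 in the centraliser of `v3` -/
structure PT (φ : E →* G) (m n p : G) : Prop extends NT0 φ m n where
  p3 : p * p * p = 1
  pe : Act φ p v3 v3
  pb1 : Act φ p b1 b2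
  pb2 : Act φ p b2 (b1 * b2)
  up : φ u1 * p * (φ u1)⁻¹ = p⁻¹

namespace PT
variable {p : G}

theorem memT (h : PT φ m n p) {g : G} (h1 : g ∈ 𝐂₀(φ v3)) (h2 : g * φ z = φ z * g) :
    g ∈ T0.map φ := by
  obtain ⟨u, rfl⟩ := h.M.ran g h2
  exact mem_map_of_mem φ (h.M.comm_iff.1 (mem_c.1 h1))

theorem TK (h : PT φ m n p) : T0.map φ ≤ 𝐂₀(φ v3) := by
  rintro _ ⟨u, hu, rfl⟩; exact mem_c.2 (h.M.comm_iff.2 hu)

theorem sylK [Finite G] (h : PT φ m n p) : IsSylowIn 2 (T0.map φ) 𝐂₀(φ v3) :=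
  sylow_of_norm (isP_of_pow 2 (by
    rintro _ ⟨u, hu, rfl⟩
    rw [← map_pow, (by decide +kernel : ∀ u ∈ T0, u ^ 2 ^ 2 = 1) u hu, map_one]))
    h.TK fun g hg hn => h.memT hg (by
      obtain ⟨u, hu, e⟩ := act_of_norm hn (show z ∈ T0 by decide +kernel)
      rcases (by decide +kernel : ∀ u ∈ T0, (∀ w ∈ T0, w * u = u * w) → u = 1 ∨ u = z ∨ Cj u v3) u hu
        (fun w hw => by
          obtain ⟨y, -, e'⟩ := act_of_norm (inv_mem hn) hw
          exact h.M.act_comm (by simpa using e'.symm) e (h.M.cen y)) with rfl | rfl | k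
      · exact absurd (h.M.act_eq' e (Act.one φ g)) h.M.ne
      · exact cj_eq_iff'.1 e
      · exact absurd e.cj (h.n3' k))

theorem pK (h : PT φ m n p) : p ∈ 𝐑(2, 𝐂₀(φ v3)) := mem_res3 (mem_c.2 (cj_eq_iff'.1 h.pe)) h.p3

theorem bK (h : PT φ m n p) : φ b1 ∈ 𝐑(2, 𝐂₀(φ v3)) := by
  have a := mul_mem (conj_mem_of_mem_normalizer (le_normalizer_res _
    (h.TK (mem_map_of_mem φ (show b2 ∈ T0 by decide +kernel)))) h.pK) (inv_mem h.pK)
  rwa [mul_assoc, mul_assoc, ← mul_assoc p, ← map_inv, h.pb2.inv.eq, ← map_mul,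
    (by decide +kernel : b2 * (b1 * b2)⁻¹ = b1)] at a

theorem WK (h : PT φ m n p) {u : E} (hu : u ∈ W0) : φ u ∈ 𝐑(2, 𝐂₀(φ v3)) := by
  have k := h.pb1.mem h.pK h.bK
  rcases hu with rfl | rfl | rfl | rfl
  exacts [map_one φ ▸ one_mem _, h.bK, k, map_mul φ b1 b2 ▸ mul_mem h.bK k]

theorem not_res [Finite G] (h : PT φ m n p) {u : E} (hu : u ∈ T0 ∧ u * u = 1 ∧ u ≠ 1 ∧ u ≠ v3 ∧
    (Cj u v3 ∧ Cj (v3 * u) v3 ∨ Cj u (t * z) ∧ Cj (v3 * u) (t * z))) : φ u ∉ 𝐑(2, 𝐂₀(φ v3)) :=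
  fun hR => by
  obtain ⟨h1, h2, h3, h4, h5⟩ := hu
  have h6 : ¬ Cj (φ z) (φ u) ∧ ¬ Cj (φ z) (φ (v3 * u)) :=
    h5.elim (fun e => ⟨h.n3' e.1, h.n3' e.2⟩) fun e => ⟨h.ntz e.1, h.ntz e.2⟩
  obtain ⟨g, hg, ⟨y, hy, e⟩, -⟩ := thompson h.sylK (le2_map (A := M0) (by decide +kernel))
    (mem_map_of_mem φ h1) (by rw [← map_mul, h2, map_one]) hR
  have e' : Act φ g u y := e.symm
  have es : Act φ g v3 v3 := cj_eq_iff'.2 (mem_c.1 hg)
  rcases (by decide +kernel : ∀ y ∈ M0, y * y = 1 → y = 1 ∨ y = v3 ∨ (y = z ∨ Cj t y) ∨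
    (v3 * y = z ∨ Cj t (v3 * y))) y hy (h.M.act_eq (e'.mul e') ((Act.one φ g).of_eq ⟨h2.symm, rfl⟩))
    with rfl | rfl | k | k
  · exact h3 (h.M.act_eq' e' (Act.one φ g))
  · exact h4 (h.M.act_eq' e' es)
  · exact h6.1 ((k.elim (fun c => c ▸ Cj.refl _) h.zt).trans e'.cj.symm)
  · exact h6.2 ((k.elim (fun c => c ▸ Cj.refl _) h.zt).trans (es.mul e').cj.symm)

theorem memM [Finite G] (h : PT φ m n p) {u : E} (hu : u ∈ T0) (hR : φ u ∈ 𝐑(2, 𝐂₀(φ v3))) :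
    u ∈ M0 := by
  rcases (by decide +kernel : ∀ u ∈ T0, u ∈ M0 ∨ ∃ y ∈ W0, u * y ∈ [f, v3 * f, u1, v3 * u1]) u hu
    with k | ⟨y, hy, k⟩
  · exact k
  have a : φ (u * y) ∈ 𝐑(2, 𝐂₀(φ v3)) := map_mul φ u y ▸ mul_mem hR (h.WK hy)
  simp only [List.mem_cons, List.not_mem_nil, or_false] at k
  rcases k with k | k | k | k <;> rw [k] at a <;> exact absurd a (h.not_res (by decide +kernel))

theorem e_not_res [Finite G] (h : PT φ m n p) : φ v3 ∉ 𝐑(2, 𝐂₀(φ v3)) := fun hR => by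
  obtain ⟨w, hw, e⟩ := inf_res_le_of_transfer (D := W0.map φ) (E := zpowers (φ v3))
    ((sn_of_normal (res_le _) (le_normalizer_res _)).isSylowIn_inf h.sylK)
    (commutator_le.2 (by
      rintro _ ⟨⟨u, hu, rfl⟩, a⟩ _ ⟨⟨w, hw, rfl⟩, b⟩
      rw [← map_commutatorElement]
      exact mem_map_of_mem φ ((by decide +kernel : ∀ u ∈ M0, ∀ w ∈ M0, u * w * u⁻¹ * w⁻¹ ∈ W0) u
        (h.memM hu a) w (h.memM hw b))))
    ((commutator_eq_bot_iff_le_centralizer.2 (zpowers_le.2 fun g hg =>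
      mem_c.1 (res_le _ hg))).le.trans bot_le)
    ⟨⟨⟨mem_map_of_mem φ (show v3 ∈ T0 from rfl), hR⟩, mem_zpowers _⟩, by rwa [res_res]⟩
  exact (by decide +kernel : v3 ∉ W0) (h.M.inj e ▸ hw)

theorem cent_res [Finite G] (h : PT φ m n p) (g : G) (hg : g ∈ 𝐑(2, 𝐂₀(φ v3)))
    (e : g * φ b1 = φ b1 * g) : g = 1 ∨ Vee (φ b1) (φ b2) g := by
  obtain ⟨u, hu, rfl⟩ := h.memT (res_le _ hg) (by
    rw [(by decide +kernel : z = b1 * v3), map_mul]; exact comm_mul e (mem_c.1 (res_le _ hg)))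
  rcases (by decide +kernel : ∀ u ∈ M0, u ∈ W0 ∨ ∃ y ∈ W0, u * y = v3 ∨ u * u * y = v3) u
    (h.memM hu hg) with (rfl | k) | ⟨y, hy, k | k⟩
  · exact Or.inl (map_one φ)
  · exact Or.inr (k.map φ)
  · have a := mul_mem hg (h.WK hy)
    rw [← map_mul, k] at a
    exact absurd a h.e_not_res
  · have a := mul_mem (mul_mem hg hg) (h.WK hy)
    rw [← map_mul, ← map_mul, k] at a
    exact absurd a h.e_not_res

theorem eq_top [Finite G] (h : PT φ m n p) {K : Subgroup G} (k1 : ∀ u, φ u ∈ K) (km : m ∈ K)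
    (kn : n ∈ K) (kr : 𝐑(2, 𝐂₀(φ v3)) ≤ K) : K = ⊤ := by
  have cz := h.M.cent_le k1
  have c1 : 𝐂₀(φ v1) ≤ K := h.T.mz.cent_le km cz
  have c2 : 𝐂₀(φ v2) ≤ K := h.T2.mz.cent_le kn cz
  have c3 : 𝐂₀(φ v3) ≤ K := h.sylK.eq_of_res_le (by rintro _ ⟨u, -, rfl⟩; exact k1 u) kr
  refine h.M.eq_top syl k1 (fun w _ w2 w1 => ?_) (s := v3) (by decide +kernel) h.n3
  rcases cls w w2 w1 with rfl | e | e | e | e | e
  · exact cz
  · exact e.cent_le k1 c1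
  · exact e.cent_le k1 c2
  · exact e.cent_le k1 c3
  · exact e.cent_le k1 (h.kt.cent_le km (Cj.cent_le (by decide +kernel) k1 c2))
  · exact e.cent_le k1 (h.ktz.cent_le km (Cj.cent_le (by decide +kernel) k1 c3))

theorem res_le_of_normal [Finite G] (h : PT φ m n p) {K : Subgroup G} (k1 : ∀ u, φ u ∈ K)
    (kp : p ∈ K) (hn : ∀ g ∈ 𝐑(2, 𝐂₀(φ v3)), ∀ w, Vee (φ b1) (φ b2) w →
      Vee (φ b1) (φ b2) (g * w * g⁻¹)) : 𝐑(2, 𝐂₀(φ v3)) ≤ K := fun g hg => by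
  have k : ∀ y ∈ K, y ∈ 𝐑(2, 𝐂₀(φ v3)) → g * φ b1 * g⁻¹ = y * φ b1 * y⁻¹ → g ∈ K := fun y a b c => by
    refine (mul_mem_cancel_left (inv_mem a)).1 ?_
    rcases h.cent_res _ (mul_mem (inv_mem b) hg) (cj_eq_iff'.1 (cj_trans c (cj_symm rfl))) with
      e | e | e | e <;> rw [e]
    exacts [one_mem _, k1 _, k1 _, mul_mem (k1 _) (k1 _)]
  rcases hn g hg _ (Or.inl rfl) with e | e | e
  · exact k 1 (one_mem _) (one_mem _) (by simpa using e)
  · exact k p kp h.pK (e.trans h.pb1.eq.symm)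
  · exact k _ (mul_mem kp kp) (mul_mem h.pK h.pK)
      (e.trans ((map_mul φ b1 b2).symm.trans (h.pb1.trans h.pb2).eq.symm))

theorem rel9 (h : PT φ m n p) {r : G} (R : A5R 𝐑(2, 𝐂₀(φ v3)) (φ b1) p r) :
    r * φ b1 * φ x1 = φ x1 * (r * φ b1) ∧ r * φ u1 = φ u1 * r := by
  obtain ⟨z2, -, mz3, r2, rz3, rm2⟩ := R.rel
  have ir : r⁻¹ = r := inv_eq_of_mul_eq_one_right r2
  have iz : (φ b1)⁻¹ = φ b1 := inv_eq_of_mul_eq_one_right z2
  have qm := h.up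
  have qz : φ u1 * φ b1 * (φ u1)⁻¹ = φ b1 := Act.of_cj φ (by decide +kernel)
  have qK : φ u1 ∈ 𝐂₀(φ v3) := mem_c.2 (h.M.comm_iff.2 (by decide +kernel))
  have rs : r * φ v3 = φ v3 * r := mem_c.1 (res_le _ R.mem)
  have inv2 : ∀ y : G, y * y = 1 → y * p * (y * p) = 1 → y * p⁻¹ * (y * p⁻¹) = 1 := fun y a b => by
    have iy : y⁻¹ = y := inv_eq_of_mul_eq_one_right a
    have := congrArg (fun w => y * w⁻¹ * y) b
    simp only [mul_inv_rev, iy, inv_one, mul_one, a, mul_assoc] at this ⊢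
    exact this
  have qr : φ u1 * r * (φ u1)⁻¹ = r := R.uniq _
    (conj_mem_of_mem_normalizer (le_normalizer_res _ qK) R.mem)
    ⟨z2, h.p3, mz3, by rw [conj_mul, r2]; simp, by
      rw [← qz, conj_mul, conj_mul, conj_mul, rz3]; simp, by
      rw [← inv_inv p, ← qm, conj_inv, conj_mul, conj_mul, inv2 r r2 rm2]; simp⟩
  refine ⟨?_, (cj_eq_iff'.1 qr).symm⟩
  set y := r * φ b1 with hy
  have ys : y * φ v3 = φ v3 * y := (comm_mul rs.symm (h.M.comm_iff.2 (by decide +kernel))).symm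
  have yq : y * φ u1 = φ u1 * y := (comm_mul (cj_eq_iff'.1 qr) (cj_eq_iff'.1 qz)).symm
  have a1 := cj_comm (φ x1) yq
  have a2 := cj_comm (φ x1) (comm_mul ys yq)
  rw [show φ x1 * φ u1 * (φ x1)⁻¹ = φ v3 from Act.of_cj φ (by decide +kernel)] at a1
  rw [← map_mul, show φ x1 * φ (v3 * u1) * (φ x1)⁻¹ = φ u1 from Act.of_cj φ (by decide +kernel)] at a2
  have y3 : φ x1 * y * (φ x1)⁻¹ * (φ x1 * y * (φ x1)⁻¹) * (φ x1 * y * (φ x1)⁻¹) = 1 := by
    rw [conj_mul, conj_mul, rz3]; simp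
  have zy : φ b1 * y * (φ b1)⁻¹ = y⁻¹ := by
    rw [hy, mul_inv_rev, iz, ir, mul_assoc, mul_assoc, z2, mul_one]
  have zy' : φ z * y * (φ z)⁻¹ = y⁻¹ := by
    rw [(by decide +kernel : z = b1 * v3), map_mul]; exact cj_trans (cj_eq_iff'.2 ys.symm) zy
  have flip : ∀ w w' : G, φ u1 * w * (φ u1)⁻¹ = w' →
      φ x1 * y * (φ x1)⁻¹ * w * (φ x1 * y * (φ x1)⁻¹ * w) = 1 →
      φ x1 * y * (φ x1)⁻¹ * w' * (φ x1 * y * (φ x1)⁻¹ * w') = 1 := fun w w' e e' => by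
    rw [← e, ← cj_eq_iff'.2 a2.symm, conj_mul, conj_mul, e']; simp
  refine (cj_eq_iff'.1 ?_).symm
  rcases R.three _ (mem_res3 (mem_c.2 a1) y3) y3 (by
    have := cj_trans (cj_eq_iff'.2 a1.symm) (show φ z * (φ x1 * y * (φ x1)⁻¹) * (φ z)⁻¹ =
        (φ x1 * y * (φ x1)⁻¹)⁻¹ by
      rw [conj_inv, ← zy', ← cj_trans (a := y) rfl rfl, ← h.M.comm, cj_trans (a := y) rfl rfl])
    rwa [← map_mul, (by decide +kernel : z * v3 = b1), iz] at this)
    ⟨flip _ _ qm, flip _ _ (by rw [← conj_inv, qm, inv_inv])⟩ with e | e | e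
  · rw [conj_eq_one_iff.1 e]; simp
  · exact e
  · have e1 : φ x1 * y * (φ x1)⁻¹ = y⁻¹ := by rw [e, hy, mul_inv_rev, iz, ir]
    have e2 : φ x1 * y⁻¹ * (φ x1)⁻¹ = y := by rw [← conj_inv, e1, inv_inv]
    have := cj_trans (cj_trans e1 e2) e1
    rw [← map_mul, ← map_mul, (by decide +kernel : x1 * (x1 * x1) = 1), map_one] at this
    rw [e1, ← this]; simp

end PT

theorem NT0.iso [Finite G] (h : NT0 φ m n) :
    Nonempty (G ≃* alternatingGroup (Fin 8)) ∨ Nonempty (G ≃* alternatingGroup (Fin 9)) := by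
  obtain ⟨n, h, hc⟩ := h.exists_comm
  have rel := h.rel hc
  obtain ⟨w1, w2, -, w4, w5, w6⟩ := A8.words rel
  have P : PT φ m n (m * (φ a * φ t * φ a) * n⁻¹) := ⟨h, w1, cj_eq_iff'.2 (by
    simpa only [v3, map_mul] using w2), by simpa only [Act, b1, b2, map_mul] using w4,
    by simpa only [Act, b1, b2, map_mul] using w5, by simpa only [u1, map_mul] using w6⟩
  have : Nontrivial G := ⟨⟨_, _, ne_one_of_ord2 h.M.ordz⟩⟩
  have k : ∀ {l : List G}, φ a ∈ l ∧ φ b ∈ l ∧ φ c ∈ l ∧ φ d ∈ l ∧ φ x ∈ l ∧ φ t ∈ l ∧ m ∈ l ∧ n ∈ l →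
      (∀ u, φ u ∈ closure {g : G | g ∈ l}) ∧ m ∈ closure {g : G | g ∈ l} ∧ n ∈ closure {g : G | g ∈ l} ∧
      m * (φ a * φ t * φ a) * n⁻¹ ∈ closure {g : G | g ∈ l} := fun {l} e => by
    obtain ⟨e1, e2, e3, e4, e5, e6, e7, e8⟩ := e
    have k1 : ∀ u, φ u ∈ closure {g : G | g ∈ l} := fun u => (eq_top (K := (Subgroup.closure _).comap φ)
      (Subgroup.subset_closure e1) (Subgroup.subset_closure e2) (Subgroup.subset_closure e3) (Subgroup.subset_closure e4)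
      (Subgroup.subset_closure e5) (Subgroup.subset_closure e6)).ge (mem_top u)
    exact ⟨k1, Subgroup.subset_closure e7, Subgroup.subset_closure e8, mul_mem (mul_mem (Subgroup.subset_closure e7)
      (mul_mem (mul_mem (k1 _) (k1 _)) (k1 _))) (inv_mem (Subgroup.subset_closure e8))⟩
  rcases a5_or_normal P.bK P.pK (h.M.ord (by decide +kernel)) P.p3 P.pb1
    (map_mul φ b1 b2 ▸ P.pb2) (h.M.comm_iff.2 (by decide +kernel)) P.cent_res with hn | ⟨r, R⟩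
  · obtain ⟨k1, k2, k3, k4⟩ := k (l := [φ a, φ b, φ c, φ d, φ x, φ t, m, n]) (by simp)
    exact Or.inl (A8.iso rel (P.eq_top k1 k2 k3 (P.res_le_of_normal k1 k4 hn)))
  · obtain ⟨k1, k2, k3, k4⟩ := k (l := [φ a, φ b, φ c, φ d, φ x, φ t, m, n, r]) (by simp)
    obtain ⟨e1, e2⟩ := P.rel9 R
    obtain ⟨-, -, -, r2, rz3, rm2⟩ := R.rel
    have e3 := mem_c.1 (res_le _ R.mem)
    simp only [b1, x1, u1, v3, map_mul] at e1 e2 e3 rz3
    obtain ⟨h0, h1, h2, h3, h4, h5, h6, h7, h8, h9, h10, h11, h12, h13⟩ := rel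
    exact Or.inr (A9.iso ⟨h0, h1, h2, h3, h4, h5, h6, h7, h8, h9, h10, h11, h12, h13, r2, rz3, rm2,
      e1, e2, e3⟩ (P.eq_top k1 k2 k3 (R.gen _ (k1 _) k4 (subset_closure (by simp)))))

theorem main1 [Finite G] (M : Mod φ z) (h : Cj (φ z) (φ v1))
    (h' : Cj (φ z) (φ v2) ∨ ¬ Cj (φ z) (φ v3)) : E8 G ∨ Nonempty (G ≃* alternatingGroup (Fin 8)) ∨
      Nonempty (G ≃* alternatingGroup (Fin 9)) := by
  obtain ⟨ψ, m, k, e1, e2, e3⟩ := exists_frame M h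
  by_cases c : Cj (φ z) (φ v2)
  · obtain ⟨n, k⟩ := k.exists_nt0 (e1 ▸ c.trans e2)
    exact Or.inr k.iso
  · exact Or.inl (k.e8 (fun e => c ((e1 ▸ e).trans e2.symm))
      fun e => h'.resolve_left c ((e1 ▸ e).trans e3.symm))

theorem main2 [Finite G] (M : Mod φ z) (h : Cj (φ z) (φ v1)) :
    E8 G ∨ Nonempty (G ≃* alternatingGroup (Fin 8)) ∨ Nonempty (G ≃* alternatingGroup (Fin 9)) := by
  by_cases c : Cj (φ z) (φ v3)
  · obtain ⟨ψ, M', e1, e2, e3⟩ := reframe M (by decide +kernel :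
      Rel H2.c d a b x t ∧ H2.c * H2.c = z)
    exact main1 M' (by rw [e1, e2]; exact h.trans (Cj.map φ (by decide +kernel)))
      (Or.inl (by rw [e1, e3]; exact c.trans (Cj.map φ (by decide +kernel))))
  · exact main1 M h (Or.inr c)

theorem main [Finite G] (M : Mod φ z) {u : E} (hu : Cj v1 u ∨ Cj v2 u ∨ Cj v3 u)
    (h : Cj (φ z) (φ u)) :
    E8 G ∨ Nonempty (G ≃* alternatingGroup (Fin 8)) ∨ Nonempty (G ≃* alternatingGroup (Fin 9)) := by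
  rcases hu with e | e | e
  · exact main2 M (h.trans (e.map φ).symm)
  · obtain ⟨ψ, M', e1, e2, -⟩ := reframe M (by decide +kernel :
      Rel a b d (c * d) x (x * t) ∧ a * a = z)
    exact main2 M' (by rw [e1, e2]; exact (h.trans (e.map φ).symm).trans (Cj.map φ (by decide +kernel)))
  · obtain ⟨ψ, M', e1, e2, -⟩ := reframe M (by decide +kernel :
      Rel a b (c * d) c x (t * x) ∧ a * a = z)
    exact main2 M' (by rw [e1, e2]; exact (h.trans (e.map φ).symm).trans (Cj.map φ (by decide +kernel)))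

end H70.H2
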