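import Mathlib
import Cfsg.Agent.Base
import Cfsg.Agent.Lib.M12C.Tab

/-! the extraspecial group of order 32 and plus type (helper70; generated) -/

set_option autoImplicit false
set_option maxRecDepth 100000

namespace H70.Q32E
open H54 (Tr force band)
open H18.TC
noncomputable def T_0 : Tr := (.node (nat_lit 1) (.node (nat_lit 0) (.leaf (nat_lit 0x31f857612562fa8db6306d0d6013c401e000028564ea899b127f735eceb9559ac32009600008f5116b20fe43d9a773aef58e4abcc00f0000605a71b1d17b46e206c3dfcd1a15f5005a0000d9631ed665cedbc73f8ef62b6a62d0000000008621fc1499acf22a6a65d011b00ff001e00003d804715764a2ccc9a14b500fe06d80000000066e17e095c90ba1f763af009e80be)) (.leaf (nat_lit 0x41e877e14483794b939e660dee19e00000000097c0ff46d28a643b4c5d9c29c037700780001712ada45a7aadf9e54b76857f2b2e8025800053c8a59543f28fd6dd0f9a559d2a7900d20000bf39ee67b52dfa0cde98fe30f867ec01680003c4c5a9db143f6928fc53f4b1d957c001e00002dc02b722744be479e0ffb02fc07f4034800004ec0bfc5d508ab5d5a6fb01d88730)))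 (.node (nat_lit 2) (.leaf (nat_lit 0x1c50b6607068d7d5bd93733725ed5b800f00008040f785fdabd747d66f1c9f973cef000000009bc923a18702ddd311a2e2194a2b90025800023744fe443b88f844c49b8c4d20d2500000000e5d9afc44449f8ce1b9bb83a4c699c00f00006478bfed8d1af626170b9dd893aee600b40001a11b2626976cbf19bcb53a6b50fba400000007844e98ddde39fb7674e5e5e94b8e8)) (.leaf (nat_lit 0x1b543fe94ace919929223e54d468d8802580007c52e1a0fb31fe7424a81910d12763000000019573bef5f5a87b119522ab4740858400f0000755ecfb9416316d4e5697a93d0a660000000016b92a33156227c1050a4e0165425ac00000005366b7c87180d71484083846758c6a00000000f9a1df549407e84f581d715e5a73b003480002cea60d1010a5a02f625bc0d5630ed))))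
noncomputable def J_0 : Tr := (.node (nat_lit 1) (.node (nat_lit 0) (.leaf (nat_lit 0x40000008004002000800800000000000040040000000000000000001001c0040080020010004006000000000400000500040040000020000000008000000c0040080000000000000001000000800000300040040000000008000000000000400400000000000040000000000000000000)) (.leaf (nat_lit 0x4000000800000400280080000000010000004000003000400400000000000020020000010010000000000800e0020040008004000003000400400200000080000060030010000000000000000e00200400000080000000000000004000000c00400800080080140000000000008000000))) (.node (nat_lit 2) (.leaf (nat_lit 0x200000080000000008008000000004000000c001001000000400000100000000040000010002002000000000e0020040008004000000000000000200000180000000008008000000004000000c0010010000004000000800800000a002000000000200000000080000020000004001001)) (.leaf (nat_lit 0x8001001000000200080080000000018008010000005000000400000000080000020000000002002000000000800000300040040000010000004000000000800000400080080000000030000008000005000c004000000001000000000000080020020008008000000000000000c000001))))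
noncomputable def F_0 : Tr := (.node (nat_lit 3) (.node (nat_lit 1) (.node (nat_lit 0) (.leaf (nat_lit 0xef3dfa56728c37ac66d73a0a620c4f7358a58121)) (.leaf (nat_lit 0xe77fead2538475bce2f641cc51902e7b1ab52402))) (.node (nat_lit 2) (.leaf (nat_lit 0xd6e95ff9cf637bc3a0a6ce2f608893946004ad43)) (.leaf (nat_lit 0xdeab4f7dee6b39d41cc5c66d7104729c22902964)))) (.node (nat_lit 5) (.node (nat_lit 4) (.leaf (nat_lit 0xce2727bbdf52d07e7464d6c22bd8d4a813183585)) (.leaf (nat_lit 0xc665373ffe5a8e8ef083de841b5cb5a24108b1a6))) (.node (nat_lit 6) (.leaf (nat_lit 0xb5e116354bff8a6193bc08b7ace1004d69393dc7)) (.leaf (nat_lit 0xbda306b16af7cc520f9d1075bc64e9052b29b9e8)))))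
noncomputable def T : Tr := T_0
noncomputable def J : Tr := J_0
noncomputable def F : Tr := F_0
noncomputable def row (u : ℕ) : ℕ := Nat.land (Nat.shiftRight (force (Nat.shiftRight u (nat_lit 3)) T.get) (Nat.mul (Nat.land u (nat_lit 7)) (nat_lit 150))) (nat_lit 0x3fffffffffffffffffffffffffffffffffffff)
noncomputable def jrow (u : ℕ) : ℕ := Nat.land (Nat.shiftRight (force (Nat.shiftRight u (nat_lit 3)) J.get) (Nat.mul (Nat.land u (nat_lit 7)) (nat_lit 117))) (nat_lit 0x1fffffffffffffffffffffffffffff)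
noncomputable def fget (k fx : ℕ) : ℕ := F.get (Nat.add k fx)
noncomputable def wt0 : LT := (.node (nat_lit 3) (.node (nat_lit 0) (.leaf 9 3 [nat_lit 30, nat_lit 15, nat_lit 45])
(.node (nat_lit 1) (.leaf 9 1 [nat_lit 45, nat_lit 15, nat_lit 30])
(.node (nat_lit 2) (.leaf 13 1 [nat_lit 75, nat_lit 0, nat_lit 60])
(.leaf 1 0 [nat_lit 15, nat_lit 15, nat_lit 15]))))
(.leaf 0 0 []))
noncomputable def wt1 : LT := (.node (nat_lit 2) (.node (nat_lit 0) (.leaf 5 3 [nat_lit 0, nat_lit 75, nat_lit 75])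
(.node (nat_lit 1) (.leaf 7 3 [nat_lit 0, nat_lit 105, nat_lit 105])
(.leaf 7 0 [nat_lit 105, nat_lit 105, nat_lit 0])))
(.node (nat_lit 3) (.leaf 13 3 [nat_lit 60, nat_lit 15, nat_lit 75])
(.leaf 0 0 [])))
noncomputable def wt2 : LT := (.node (nat_lit 1) (.node (nat_lit 0) (.leaf 3 2 [nat_lit 0, nat_lit 0, nat_lit 45])
(.leaf 9 2 [nat_lit 15, nat_lit 30, nat_lit 15]))
(.node (nat_lit 3) (.node (nat_lit 2) (.leaf 19 1 [nat_lit 105, nat_lit 30, nat_lit 90])
(.leaf 3 1 [nat_lit 45, nat_lit 0, nat_lit 0]))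
(.node (nat_lit 4) (.leaf 17 1 [nat_lit 75, nat_lit 30, nat_lit 60])
(.leaf 0 0 []))))
noncomputable def wt3 : LT := (.node (nat_lit 0) (.leaf 9 0 [nat_lit 15, nat_lit 45, nat_lit 15])
(.node (nat_lit 1) (.leaf 19 3 [nat_lit 90, nat_lit 45, nat_lit 105])
(.leaf 0 0 [])))
noncomputable def wt4 : LT := (.node (nat_lit 1) (.node (nat_lit 0) (.leaf 13 2 [nat_lit 0, nat_lit 60, nat_lit 15])
(.leaf 5 2 [nat_lit 0, nat_lit 0, nat_lit 75]))
(.node (nat_lit 2) (.leaf 17 2 [nat_lit 30, nat_lit 60, nat_lit 45])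
(.node (nat_lit 3) (.leaf 5 1 [nat_lit 75, nat_lit 0, nat_lit 0])
(.node (nat_lit 4) (.leaf 11 3 [nat_lit 90, nat_lit 75, nat_lit 105])
(.leaf 0 0 [])))))
noncomputable def wt5 : LT := (.node (nat_lit 0) (.leaf 17 0 [nat_lit 45, nat_lit 75, nat_lit 30])
(.leaf 0 0 []))
noncomputable def wt6 : LT := (.node (nat_lit 1) (.node (nat_lit 0) (.leaf 15 2 [nat_lit 0, nat_lit 90, nat_lit 15])
(.leaf 7 2 [nat_lit 0, nat_lit 0, nat_lit 105]))
(.node (nat_lit 2) (.leaf 11 2 [nat_lit 75, nat_lit 90, nat_lit 75])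
(.node (nat_lit 3) (.leaf 19 2 [nat_lit 30, nat_lit 90, nat_lit 45])
(.node (nat_lit 4) (.leaf 7 1 [nat_lit 105, nat_lit 0, nat_lit 0])
(.leaf 0 0 [])))))
noncomputable def wt7 : LT := (.node (nat_lit 0) (.leaf 11 0 [nat_lit 75, nat_lit 105, nat_lit 75])
(.leaf 0 0 []))
noncomputable def wt8 : LT := (.leaf 0 0 [])
noncomputable def sl : List (ℕ × ℕ × List ℕ × List ℕ) := []
/-- the inverse column -/
noncomputable def icol (x : ℕ) : ℕ := List.getD [nat_lit 1, nat_lit 0, nat_lit 3, nat_lit 2, nat_lit 5, nat_lit 4, nat_lit 7, nat_lit 6] x x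
noncomputable def inv (x : ℕ) : ℕ := Nat.mul (icol (Nat.div x (nat_lit 15))) (nat_lit 15)
def cols : List ℕ := [nat_lit 120, nat_lit 0, nat_lit 15, nat_lit 30, nat_lit 45, nat_lit 60, nat_lit 75, nat_lit 90, nat_lit 105]
noncomputable def cl : CL := (.cons (nat_lit 0) (nat_lit 15) (nat_lit 0) (nat_lit 0) wt0
(.cons (nat_lit 15) (nat_lit 0) (nat_lit 13) (nat_lit 1) wt1
(.cons (nat_lit 30) (nat_lit 45) (nat_lit 26) (nat_lit 2) wt2
(.cons (nat_lit 45) (nat_lit 30) (nat_lit 39) (nat_lit 3) wt3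
(.cons (nat_lit 60) (nat_lit 75) (nat_lit 52) (nat_lit 4) wt4
(.cons (nat_lit 75) (nat_lit 60) (nat_lit 65) (nat_lit 5) wt5
(.cons (nat_lit 90) (nat_lit 105) (nat_lit 78) (nat_lit 6) wt6
(.cons (nat_lit 105) (nat_lit 90) (nat_lit 91) (nat_lit 7) wt7
.nil))))))))
def rels : List (List ℕ) := [[0, 0, 0, 0],
[1, 1, 2, 2],
[1, 1, 4, 4],
[1, 1, 6, 6],
[3, 0, 2, 0],
[7, 4, 6, 4],
[5, 1, 4, 0],
[7, 1, 6, 0],
[5, 3, 4, 2],
[7, 3, 6, 2]]
def subs : List (List ℕ) := []
noncomputable def chk : ℕ → Bool := rowChk row jrow fget sl cols (nat_lit 32) (nat_lit 32) (nat_lit 32767) (nat_lit 63) (nat_lit 32768) (nat_lit 120) (nat_lit 135) (nat_lit 8191) (nat_lit 6) (nat_lit 63) (nat_lit 5) (nat_lit 31) cl (nat_lit 104) wt8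
theorem p0 : allB chk 5 0 = true := by decide +kernel
theorem all_chk : AllLt chk 32 := by
  have h := AllLt.zero chk
  have h := h.step 32 p0 (by decide +kernel)
  exact h
/-- column `x` of the final table -/
noncomputable def tab (x u : ℕ) : ℕ := ft fget (nat_lit 6) (nat_lit 63) (nat_lit 5) (nat_lit 31) (Nat.mul x (nat_lit 1)) u
theorem enum {G Ω : Type*} [Group G] [MulAction G Ω] (g : ℕ → G) (ω : Ω)
    (hinv : ∀ x, g (icol x) = (g x)⁻¹) (h1 : g 8 = 1)
    (hrels : ∀ R ∈ rels, ev g R = 1) (hsubs : ∀ S ∈ subs, ev g S • ω = ω) :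
    ∃ pt : ℕ → Ω, pt 0 = ω ∧ (∀ K : Subgroup G, (∀ x, g x ∈ K) → ∀ v, ∃ k ∈ K, pt v = k • ω) ∧
      ∀ x, x < 8 → ∀ u, u < 32 → tab x u < 32 ∧ g x • pt u = pt (tab x u) :=
  sound_scaled g ω row jrow fget sl inv icol cols (nat_lit 32) (nat_lit 32) (nat_lit 32767) (nat_lit 63) (nat_lit 32768) (nat_lit 120) (nat_lit 135) (nat_lit 8191) (nat_lit 6) (nat_lit 63) (nat_lit 5) (nat_lit 31) 6 cl (nat_lit 104) wt8 rels subs 15 (nat_lit 1) 8
    (fun _ => Nat.mul_div_cancel _ (by decide)) hinv h1 hrels hsubs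
    (by decide +kernel) (by decide +kernel) all_chk
end H70.Q32E

namespace H70.Q32
open H70.TM H18.TC Subgroup

noncomputable def rt : RT := ⟨nat_lit 32, nat_lit 5, nat_lit 31,
  (.node (nat_lit 15) (.node (nat_lit 7) (.node (nat_lit 3) (.node (nat_lit 1) (.node (nat_lit 0) (.leaf (nat_lit 0xffbbcdeb38bdab49ca307b9ac5a928398a418820))
(.leaf (nat_lit 0xce27220fdfef18d5ab7a302b4bd9f1809c83a4a1)))
(.node (nat_lit 2) (.leaf (nat_lit 0xa5483bd98d41ffedebbc027388c033939eb514c2))
(.leaf (nat_lit 0xbcf02a07abf1b68fa580e6a24cbed574a0d2a8e3))))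
(.node (nat_lit 5) (.node (nat_lit 4) (.leaf (nat_lit 0x958590d55c37cfa4f80deec707e2eea4e2562d04))
(.leaf (nat_lit 0xf7d6a41f199ca95bd8831058def0dbd241183dc5)))
(.node (nat_lit 6) (.leaf (nat_lit 0x6377a5aab420f198c2f670bfe41c1de1533905e6))
(.leaf (nat_lit 0xeafe969677c0891cbe8190f68f1b8c02b5575a07)))))
(.node (nat_lit 11) (.node (nat_lit 9) (.node (nat_lit 8) (.leaf (nat_lit 0x5713e2b2d2166037e035990fa37fa06af6ea5e28))
(.leaf (nat_lit 0x6b107ef2958c33820e720bfdfde8ab500d7b3849)))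
(.node (nat_lit 10) (.leaf (nat_lit 0x46da5f1891abaf3a07021dbab600ff4eb997c24a))
(.leaf (nat_lit 0xd1cac37e03752560d45925d5c03509f6fafc466b))))
(.node (nat_lit 13) (.node (nat_lit 12) (.leaf (nat_lit 0x3278bd204fb4c2e95e04cd405577e7df9a38e28c))
(.leaf (nat_lit 0x4995d3ede295dc1b4c71c50a0e2fda47d90266ad)))
(.node (nat_lit 14) (.leaf (nat_lit 0xc66f68c3fe5a9acef107496959c8441bc3bd180e))
(.leaf (nat_lit 0xad2309c9acdebdf41d6a29b1920dd7b045de012f))))))
(.node (nat_lit 23) (.node (nat_lit 19) (.node (nat_lit 17) (.node (nat_lit 16) (.leaf (nat_lit 0x9df2fab97dfa51bf19a551c91c0a540d86c07350))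
(.leaf (nat_lit 0xb49f87538a4fb4737cac5a20316661adc806f771)))
(.node (nat_lit 18) (.leaf (nat_lit 0x24681cbf686957d603c6d2af3ab878142df49f92))
(.leaf (nat_lit 0x80c357e0fa2b38a034dfdae5675082cc6e9f23b3))))
(.node (nat_lit 21) (.node (nat_lit 20) (.leaf (nat_lit 0x13e571c526e2ca057748f302eb4f30262a7dfdb4))
(.leaf (nat_lit 0x78ad3810c957405e2cfbfb5c195f038e69a47995)))
(.node (nat_lit 22) (.leaf (nat_lit 0x892aec091b603ab697e93f277a061978e5e36956))
(.leaf (nat_lit 0x1c1d4167470355c2b13e476d20d62fc1266fed77)))))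
(.node (nat_lit 27) (.node (nat_lit 25) (.node (nat_lit 24) (.leaf (nat_lit 0x70471b4ca03ecc9d238b67c4f81292bd72aeb7d8))
(.leaf (nat_lit 0xba0495c05d21263ed5d6f9e21c6b69d31c5b3f9)))
(.node (nat_lit 26) (.leaf (nat_lit 0x5f7c6602f3cbe24c0aaeb411bfa54d2f0f40c87a))
(.leaf (nat_lit 0xe28df036567e070165d4bc7474f96567501acc9b))))
(.node (nat_lit 29) (.node (nat_lit 28) (.leaf (nat_lit 0xda180fa624a0677abb2f8497d6975e31d5810edc))
(.leaf (nat_lit 0x3e80d4f8700d6d2751f88cf8a2b366fa162c92fd)))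
(.node (nat_lit 30) (.leaf (nat_lit 0x283485742e1c5e2812d3ae0c93ed9c5b7f2bd33e))
(.leaf (nat_lit 0x14fbe2dc18104f1c657a6526d21aaeb3d69d71f))))))),
  (nat_lit 0xffbbcdeb38bdab49c8831058d5a8c83a4b183dc0),
  (nat_lit 0x9c9ef7396a4a507318a529483108410842000000),
  (nat_lit 0x1908320c6420c6420c831046420c241882418821),
  [nat_lit 1, nat_lit 2, nat_lit 3, nat_lit 4]⟩

theorem okA0 : rt.chkA 1 = true := by decide +kernel
theorem okA1 : rt.chkA 2 = true := by decide +kernel
theorem okA2 : rt.chkA 3 = true := by decide +kernel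
theorem okA3 : rt.chkA 4 = true := by decide +kernel
theorem okB : rt.chkB = true := by decide +kernel
noncomputable def tb : GT := ⟨rt, List.forall_mem_cons.2 ⟨okA0, List.forall_mem_cons.2 ⟨okA1, List.forall_mem_cons.2 ⟨okA2, List.forall_mem_cons.2 ⟨okA3, fun _ h => absurd h List.not_mem_nil⟩⟩⟩⟩, okB⟩

theorem hom_chk : homChk tb (nat_lit 0xffa717b7bccdf7ac590620ab49416e6292728c20) 32 Q32E.tab = true := by decide +kernel

/-- the group -/
abbrev E : Type := El tb

noncomputable def a : E := El.of tb 1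
noncomputable def b : E := El.of tb 2
noncomputable def c : E := El.of tb 3
noncomputable def d : E := El.of tb 4

theorem card : Nat.card E = 32 := El.card tb

theorem eq_top {K : Subgroup E} (h0 : a ∈ K) (h1 : b ∈ K) (h2 : c ∈ K) (h3 : d ∈ K) : K = ⊤ :=
  El.eq_top (List.forall_mem_cons.2 ⟨h0, List.forall_mem_cons.2 ⟨h1, List.forall_mem_cons.2 ⟨h2, List.forall_mem_cons.2 ⟨h3, fun _ h => absurd h List.not_mem_nil⟩⟩⟩⟩)

/-- the relations -/
def Rel {G : Type*} [Group G] (a b c d : G) : Prop :=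
  a * a * a * a = 1 ∧
  b * b = a * a ∧
  c * c = a * a ∧
  d * d = a * a ∧
  a * b * a = b ∧
  c * d * c = d ∧
  a * c = c * a ∧
  a * d = d * a ∧
  b * c = c * b ∧
  b * d = d * b

instance {G : Type*} [Group G] [DecidableEq G] (a b c d : G) : Decidable (Rel a b c d) := by
  unfold Rel; infer_instance

theorem Rel.map {G G' : Type*} [Group G] [Group G'] (f : G →* G') {a b c d : G}
    (h : Rel a b c d) : Rel (f a) (f b) (f c) (f d) := by
  obtain ⟨h0, h1, h2, h3, h4, h5, h6, h7, h8, h9⟩ := h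
  exact ⟨by simpa only [map_mul, map_inv, map_one] using congrArg f h0,
    by simpa only [map_mul, map_inv, map_one] using congrArg f h1,
    by simpa only [map_mul, map_inv, map_one] using congrArg f h2,
    by simpa only [map_mul, map_inv, map_one] using congrArg f h3,
    by simpa only [map_mul, map_inv, map_one] using congrArg f h4,
    by simpa only [map_mul, map_inv, map_one] using congrArg f h5,
    by simpa only [map_mul, map_inv, map_one] using congrArg f h6,
    by simpa only [map_mul, map_inv, map_one] using congrArg f h7,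
    by simpa only [map_mul, map_inv, map_one] using congrArg f h8,
    by simpa only [map_mul, map_inv, map_one] using congrArg f h9⟩

theorem Rel.of_map {G G' : Type*} [Group G] [Group G'] {f : G →* G'} (hf : Function.Injective f)
    {a b c d : G} (h : Rel (f a) (f b) (f c) (f d)) : Rel a b c d := by
  obtain ⟨h0, h1, h2, h3, h4, h5, h6, h7, h8, h9⟩ := h
  exact ⟨hf (by simpa only [map_mul, map_inv, map_one] using h0),
    hf (by simpa only [map_mul, map_inv, map_one] using h1),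
    hf (by simpa only [map_mul, map_inv, map_one] using h2),
    hf (by simpa only [map_mul, map_inv, map_one] using h3),
    hf (by simpa only [map_mul, map_inv, map_one] using h4),
    hf (by simpa only [map_mul, map_inv, map_one] using h5),
    hf (by simpa only [map_mul, map_inv, map_one] using h6),
    hf (by simpa only [map_mul, map_inv, map_one] using h7),
    hf (by simpa only [map_mul, map_inv, map_one] using h8),
    hf (by simpa only [map_mul, map_inv, map_one] using h9)⟩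

theorem Rel.prod {G G' : Type*} [Group G] [Group G'] {a b c d : G} {a' b' c' d' : G'}
    (h : Rel a b c d) (k : Rel a' b' c' d') :
    Rel (a, a') (b, b') (c, c') (d, d') := by
  obtain ⟨h0, h1, h2, h3, h4, h5, h6, h7, h8, h9⟩ := h
  obtain ⟨k0, k1, k2, k3, k4, k5, k6, k7, k8, k9⟩ := k
  exact ⟨Prod.ext h0 k0, Prod.ext h1 k1, Prod.ext h2 k2, Prod.ext h3 k3, Prod.ext h4 k4, Prod.ext h5 k5, Prod.ext h6 k6, Prod.ext h7 k7, Prod.ext h8 k8, Prod.ext h9 k9⟩

theorem Rel.sat {G : Type*} [Group G] {a b c d : G} (h : Rel a b c d) :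
    ∀ R ∈ Q32E.rels, ev (lt [a, b, c, d]) R = 1 := by
  obtain ⟨h0, h1, h2, h3, h4, h5, h6, h7, h8, h9⟩ := h
  exact List.forall_mem_cons.2 ⟨show a * (a * (a * (a * 1))) = 1 by
      simpa only [mul_assoc, mul_inv_rev, inv_inv, inv_one, mul_one, one_mul] using mul_inv_eq_one.2 h0,
    List.forall_mem_cons.2 ⟨show b * (b * (a⁻¹ * (a⁻¹ * 1))) = 1 by
      simpa only [mul_assoc, mul_inv_rev, inv_inv, inv_one, mul_one, one_mul] using mul_inv_eq_one.2 h1,
    List.forall_mem_cons.2 ⟨show c * (c * (a⁻¹ * (a⁻¹ * 1))) = 1 by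
      simpa only [mul_assoc, mul_inv_rev, inv_inv, inv_one, mul_one, one_mul] using mul_inv_eq_one.2 h2,
    List.forall_mem_cons.2 ⟨show d * (d * (a⁻¹ * (a⁻¹ * 1))) = 1 by
      simpa only [mul_assoc, mul_inv_rev, inv_inv, inv_one, mul_one, one_mul] using mul_inv_eq_one.2 h3,
    List.forall_mem_cons.2 ⟨show a * (b * (a * (b⁻¹ * 1))) = 1 by
      simpa only [mul_assoc, mul_inv_rev, inv_inv, inv_one, mul_one, one_mul] using mul_inv_eq_one.2 h4,
    List.forall_mem_cons.2 ⟨show c * (d * (c * (d⁻¹ * 1))) = 1 by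
      simpa only [mul_assoc, mul_inv_rev, inv_inv, inv_one, mul_one, one_mul] using mul_inv_eq_one.2 h5,
    List.forall_mem_cons.2 ⟨show a * (c * (a⁻¹ * (c⁻¹ * 1))) = 1 by
      simpa only [mul_assoc, mul_inv_rev, inv_inv, inv_one, mul_one, one_mul] using mul_inv_eq_one.2 h6,
    List.forall_mem_cons.2 ⟨show a * (d * (a⁻¹ * (d⁻¹ * 1))) = 1 by
      simpa only [mul_assoc, mul_inv_rev, inv_inv, inv_one, mul_one, one_mul] using mul_inv_eq_one.2 h7,
    List.forall_mem_cons.2 ⟨show b * (c * (b⁻¹ * (c⁻¹ * 1))) = 1 by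
      simpa only [mul_assoc, mul_inv_rev, inv_inv, inv_one, mul_one, one_mul] using mul_inv_eq_one.2 h8,
    List.forall_mem_cons.2 ⟨show b * (d * (b⁻¹ * (d⁻¹ * 1))) = 1 by
      simpa only [mul_assoc, mul_inv_rev, inv_inv, inv_one, mul_one, one_mul] using mul_inv_eq_one.2 h9,
    fun _ h => absurd h List.not_mem_nil⟩⟩⟩⟩⟩⟩⟩⟩⟩⟩

theorem Rel.of_sat {G : Type*} [Group G] {a b c d : G}
    (h : ∀ R ∈ Q32E.rels, ev (lt [a, b, c, d]) R = 1) : Rel a b c d := by
  obtain ⟨h0, h⟩ := List.forall_mem_cons.1 h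
  obtain ⟨h1, h⟩ := List.forall_mem_cons.1 h
  obtain ⟨h2, h⟩ := List.forall_mem_cons.1 h
  obtain ⟨h3, h⟩ := List.forall_mem_cons.1 h
  obtain ⟨h4, h⟩ := List.forall_mem_cons.1 h
  obtain ⟨h5, h⟩ := List.forall_mem_cons.1 h
  obtain ⟨h6, h⟩ := List.forall_mem_cons.1 h
  obtain ⟨h7, h⟩ := List.forall_mem_cons.1 h
  obtain ⟨h8, h⟩ := List.forall_mem_cons.1 h
  obtain ⟨h9, h⟩ := List.forall_mem_cons.1 h
  exact ⟨mul_inv_eq_one.1 (by simpa only [mul_assoc, mul_inv_rev, inv_inv, inv_one, mul_one, one_mul] using (show a * (a * (a * (a * 1))) = 1 from h0)),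
    mul_inv_eq_one.1 (by simpa only [mul_assoc, mul_inv_rev, inv_inv, inv_one, mul_one, one_mul] using (show b * (b * (a⁻¹ * (a⁻¹ * 1))) = 1 from h1)),
    mul_inv_eq_one.1 (by simpa only [mul_assoc, mul_inv_rev, inv_inv, inv_one, mul_one, one_mul] using (show c * (c * (a⁻¹ * (a⁻¹ * 1))) = 1 from h2)),
    mul_inv_eq_one.1 (by simpa only [mul_assoc, mul_inv_rev, inv_inv, inv_one, mul_one, one_mul] using (show d * (d * (a⁻¹ * (a⁻¹ * 1))) = 1 from h3)),
    mul_inv_eq_one.1 (by simpa only [mul_assoc, mul_inv_rev, inv_inv, inv_one, mul_one, one_mul] using (show a * (b * (a * (b⁻¹ * 1))) = 1 from h4)),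
    mul_inv_eq_one.1 (by simpa only [mul_assoc, mul_inv_rev, inv_inv, inv_one, mul_one, one_mul] using (show c * (d * (c * (d⁻¹ * 1))) = 1 from h5)),
    mul_inv_eq_one.1 (by simpa only [mul_assoc, mul_inv_rev, inv_inv, inv_one, mul_one, one_mul] using (show a * (c * (a⁻¹ * (c⁻¹ * 1))) = 1 from h6)),
    mul_inv_eq_one.1 (by simpa only [mul_assoc, mul_inv_rev, inv_inv, inv_one, mul_one, one_mul] using (show a * (d * (a⁻¹ * (d⁻¹ * 1))) = 1 from h7)),
    mul_inv_eq_one.1 (by simpa only [mul_assoc, mul_inv_rev, inv_inv, inv_one, mul_one, one_mul] using (show b * (c * (b⁻¹ * (c⁻¹ * 1))) = 1 from h8)),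
    mul_inv_eq_one.1 (by simpa only [mul_assoc, mul_inv_rev, inv_inv, inv_one, mul_one, one_mul] using (show b * (d * (b⁻¹ * (d⁻¹ * 1))) = 1 from h9))⟩

theorem rel : Rel a b c d := by decide +kernel

theorem model {G : Type*} [Group G] {a' b' c' d' : G} (h : Rel a' b' c' d') :
    ∃ φ : E →* G, φ a = a' ∧ φ b = b' ∧ φ c = c' ∧ φ d = d' := by
  obtain ⟨pt, h0, -, hT⟩ := Q32E.enum (lt [a', b', c', d']) (1 : G)
    (lt_icol _ _ (k := 4) rfl (by decide +kernel)) (lt_ge le_rfl) h.sat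
    (fun _ h => absurd h List.not_mem_nil)
  obtain ⟨φ, hφ⟩ := exists_hom tb (l := [a', b', c', d']) rfl h0 hT hom_chk
  exact ⟨φ, by simpa only [List.cons.injEq, and_true] using
    (show [φ a, φ b, φ c, φ d] = [a', b', c', d'] from hφ)⟩

end H70.Q32
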