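import Mathlib
import Cfsg.Agent.Base
import Cfsg.Agent.Lib.M12C.Mod
import Cfsg.Agent.Lib.M12C.TQ32
import Cfsg.Agent.Lib.M12C.TH1
import Cfsg.Agent.Lib.M12C.TH2
import Cfsg.Agent.Lib.M12C.TH3
import Cfsg.Agent.Lib.M12C.TH4
import Cfsg.Agent.Lib.LargeExtra.Basic

/-!
# An extraspecial group of order 32 extended by `S₃` (helper70)
-/

set_option autoImplicit false
set_option maxRecDepth 100000

namespace H70.TM

open Subgroup H69 Cfsg H95

variable {G : Type*} [Group G]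

/-- an element of order 3 acting without fixed points on `Q / Z(Q)` -/
structure FS (Q : Subgroup G) (z x : G) : Prop where
  es : ES Q z
  x3 : x * x * x = 1
  xz : x * z * x⁻¹ = z
  nx : ∀ q ∈ Q, x * q * x⁻¹ ∈ Q
  fix : ∀ q ∈ Q, x * q * x⁻¹ = q → q = 1 ∨ q = z
  card : Nat.card Q = 32

/-- `a` and its conjugates form a standard basis of a quaternion group -/
structure Good (Q : Subgroup G) (z x a : G) : Prop where
  mem : a ∈ Q
  sq : a * a = z
  sig : x * (x * a * x⁻¹) * x⁻¹ = a * (x * a * x⁻¹)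

theorem q32_ker : ∀ u : Q32.E, u = 1 ∨ u = Q32.a * Q32.a ∨ ∃ k ∈ [Q32.a], ∃ l ∈ [Q32.a],
    u * k * u⁻¹ * k⁻¹ * l * (u * k * u⁻¹ * k⁻¹)⁻¹ * l⁻¹ = Q32.a * Q32.a ∨
    ∃ k ∈ [Q32.a, Q32.b, Q32.c, Q32.d], u * k * u⁻¹ * k⁻¹ = Q32.a * Q32.a := by decide +kernel

open Q32 in
theorem q32_four : ∀ u : E, u * u = a * a → u ∈ [a, b, a * b, c, d, c * d] ∨
    u * (a * a) ∈ [a, b, a * b, c, d, c * d] := by decide +kernel

namespace FS
variable {Q : Subgroup G} {z x a c : G}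

theorem sig3 (F : FS Q z x) (q : G) : x * (x * (x * q * x⁻¹) * x⁻¹) * x⁻¹ = q := by
  calc _ = x * x * x * q * (x * x * x)⁻¹ := by group
    _ = _ := by rw [F.x3]; simp

theorem sigz (F : FS Q z x) (q : G) : x * (q * z) * x⁻¹ = x * q * x⁻¹ * z := by
  rw [← conj_mul, F.xz]

theorem norm (F : FS Q z x) {q : G} (hq : q ∈ Q) :
    q * (x * q * x⁻¹) * (x * (x * q * x⁻¹) * x⁻¹) = 1 ∨
      q * (x * q * x⁻¹) * (x * (x * q * x⁻¹) * x⁻¹) = z := by
  have m := mul_mem (mul_mem hq (F.nx q hq)) (F.nx _ (F.nx q hq))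
  have e : x * (q * (x * q * x⁻¹) * (x * (x * q * x⁻¹) * x⁻¹)) * x⁻¹ =
      q⁻¹ * (q * (x * q * x⁻¹) * (x * (x * q * x⁻¹) * x⁻¹)) * q⁻¹⁻¹ := by
    rw [← conj_mul, ← conj_mul, F.sig3]; group
  generalize q * (x * q * x⁻¹) * (x * (x * q * x⁻¹) * x⁻¹) = N at *
  refine F.fix N m ((F.es.conj m (inv_mem hq)).elim e.trans fun k => ?_)
  have := F.sig3 N
  rw [e, k, F.sigz, e, k, mul_assoc N, F.es.sq, mul_one, e, k] at this
  exact absurd (mul_eq_left.1 this) F.es.ne_one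

theorem sig_sq (F : FS Q z x) {a : G} (h : a * a = z) : x * a * x⁻¹ * (x * a * x⁻¹) = z := by
  rw [conj_mul, h, F.xz]

theorem good_or (F : FS Q z x) (h : a ∈ Q) (h2 : a * a = z) : Good Q z x a ∨ Good Q z x (a * z) := by
  have c2 := F.sig_sq (F.sig_sq h2)
  have cz := F.es.central _ (F.nx _ (F.nx a h))
  have bz := F.es.central _ (F.nx a h)
  have az := F.es.central _ h
  rcases F.norm h with e | e
  · refine Or.inr ⟨mul_mem h F.es.mem, by
      rw [mul_assoc, ← mul_assoc z, ← az, mul_assoc, F.es.sq, mul_one, h2], ?_⟩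
    rw [F.sigz, F.sigz, mul_assoc a, ← mul_assoc z, ← bz,
      mul_assoc _ z, F.es.sq, mul_one, eq_inv_of_mul_eq_one_left e, eq_inv_iff_mul_eq_one, mul_assoc,
      ← cz, ← mul_assoc, c2, F.es.sq]
  · exact Or.inl ⟨h, h2, mul_right_cancel (c2.trans e.symm)⟩

theorem q8 (F : FS Q z x) (h : Good Q z x a) : a * (x * a * x⁻¹) * a = x * a * x⁻¹ := by
  have := F.sig_sq (F.sig_sq h.sq)
  rw [h.sig, ← mul_assoc, ← F.sig_sq h.sq] at this
  exact mul_right_cancel this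

theorem ne (F : FS Q z x) (h : Good Q z x a) : a * (x * a * x⁻¹) ≠ x * a * x⁻¹ * a := fun e => by
  have := F.q8 h
  rw [e, mul_assoc _ a a, h.sq] at this
  exact F.es.ne_one (mul_eq_left.1 this)

theorem good_sig (F : FS Q z x) (h : Good Q z x a) : Good Q z x (x * a * x⁻¹) :=
  ⟨F.nx a h.mem, F.sig_sq h.sq, by
    rw [F.sig3, h.sig]
    refine mul_left_cancel (a := a) ?_
    rw [← mul_assoc, ← mul_assoc, F.q8 h, F.sig_sq h.sq, h.sq]⟩

theorem not_good (F : FS Q z x) (h : Good Q z x a) (h' : Good Q z x (a * z)) : False := by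
  have := h'.sig
  rw [F.sigz, F.sigz, mul_assoc a, ← mul_assoc z,
    ← F.es.central _ (F.nx a h.mem), mul_assoc _ z, F.es.sq, mul_one, h.sig] at this
  exact F.es.ne_one (mul_eq_left.1 this)

theorem decomp (F : FS Q z x) (h : Good Q z x a) {q : G} (hq : q ∈ Q) :
    ∃ w ∈ [1, a, x * a * x⁻¹, x * a * x⁻¹ * a], q * w * a = a * (q * w) ∧
      q * w * (x * a * x⁻¹) = x * a * x⁻¹ * (q * w) := by
  have hb := F.nx a h.mem
  have k : ∀ q ∈ Q, q * a = a * q → q * (x * a * x⁻¹) = x * a * x⁻¹ * q ∨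
      q * a * a = a * (q * a) ∧ q * a * (x * a * x⁻¹) = x * a * x⁻¹ * (q * a) := fun q hq e =>
    (em _).imp_right fun c => ⟨by rw [← mul_assoc, e], F.es.mul_comm_of_ne hb hq h.mem c (F.ne h)⟩
  by_cases e : q * a = a * q
  · rcases k q hq e with c | c
    exacts [⟨1, by simp, by simpa using ⟨e, c⟩⟩, ⟨a, by simp, c⟩]
  · have e' := F.es.mul_comm_of_ne h.mem hq hb e (F.ne h).symm
    rcases k _ (mul_mem hq hb) e' with c | c
    exacts [⟨_, by simp, e', c⟩, ⟨x * a * x⁻¹ * a, by simp, by simpa only [mul_assoc] using c⟩]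

theorem exists_c (F : FS Q z x) (h : Good Q z x a) :
    ∃ c, Good Q z x c ∧ c * a = a * c ∧ c * (x * a * x⁻¹) = x * a * x⁻¹ * c := by
  classical
  have hb := F.nx a h.mem
  have wm : ∀ w ∈ [1, a, x * a * x⁻¹, x * a * x⁻¹ * a], w ∈ Q ∧ ∀ c, c * a = a * c →
      c * (x * a * x⁻¹) = x * a * x⁻¹ * c → c * w = w * c := by
    simp only [List.forall_mem_cons, List.not_mem_nil, false_imp_iff, implies_true, and_true]
    exact ⟨⟨one_mem _, by simp⟩, ⟨h.mem, fun _ e _ => e⟩, ⟨hb, fun _ _ e => e⟩,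
      mul_mem hb h.mem, fun _ e e' => comm_mul e' e⟩
  have fin : ∀ c ∈ Q, c * c = z → c * a = a * c → c * (x * a * x⁻¹) = x * a * x⁻¹ * c →
      ∃ c, Good Q z x c ∧ c * a = a * c ∧ c * (x * a * x⁻¹) = x * a * x⁻¹ * c := fun c hc c2 e e' =>
    (F.good_or hc c2).elim (fun k => ⟨c, k, e, e'⟩) fun k => ⟨_, k,
      (comm_mul e.symm (F.es.central a h.mem)).symm, (comm_mul e'.symm (F.es.central _ hb)).symm⟩
  obtain ⟨c0, m0, a0, b0, n0⟩ : ∃ c ∈ Q, c * a = a * c ∧ c * (x * a * x⁻¹) = x * a * x⁻¹ * c ∧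
      ¬ (c = 1 ∨ c = z) := by
    by_contra hn
    push Not at hn
    have : (Q : Set G) ⊆ ↑(([1, z].product [1, a, x * a * x⁻¹, x * a * x⁻¹ * a]).map
        fun p => p.1 * p.2⁻¹).toFinset := fun q hq => by
      obtain ⟨w, hw, e⟩ := F.decomp h hq
      have := hn _ (mul_mem hq (wm w hw).1) e.1 e.2
      rw [Finset.mem_coe, List.mem_toFinset, List.mem_map]
      exact ⟨(q * w, w), List.pair_mem_product.2 ⟨by simpa using this, hw⟩, by simp⟩
    have a := Set.ncard_le_ncard this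
    rw [Set.ncard_coe_finset, show (Q : Set G).ncard = 32 from F.card] at a
    exact absurd (a.trans (List.toFinset_card_le _)) (by simp [List.product])
  obtain ⟨y, hy, e⟩ := F.es.exists_noncomm m0 (fun e => n0 (Or.inl e)) fun e => n0 (Or.inr e)
  obtain ⟨w, hw, a1, b1⟩ := F.decomp h hy
  have m1 := mul_mem hy (wm w hw).1
  have e1 : y * w * c0 ≠ c0 * (y * w) := fun k => e (by
    rw [mul_assoc, ← (wm w hw).2 c0 a0 b0, ← mul_assoc, ← mul_assoc] at k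
    exact mul_right_cancel k)
  generalize y * w = c1 at *
  rcases F.es.sq_mem m0 with s0 | s0
  rcases F.es.sq_mem m1 with s1 | s1
  · refine fin _ (mul_mem m0 m1) ?_ (comm_mul a0.symm a1.symm).symm (comm_mul b0.symm b1.symm).symm
    rw [mul_assoc, ← mul_assoc c1, (F.es.comm c1 m1 c0 m0).resolve_left e1, mul_assoc (c0 * c1),
      ← F.es.central c1 m1, ← mul_assoc, ← mul_assoc, ← mul_assoc, s0, one_mul, s1, one_mul]
  exacts [fin c1 m1 s1 a1 b1, fin c0 m0 s0 a0 b0]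

theorem comm_d (F : FS Q z x) (h : Good Q z x a) (e : c * a = a * c)
    (e' : c * (x * a * x⁻¹) = x * a * x⁻¹ * c) : a * (x * c * x⁻¹) = x * c * x⁻¹ * a := by
  have := cj_comm x (cj_comm x (comm_mul e e'))
  rw [← h.sig] at this
  have k := cj_comm x (comm_mul e e')
  rwa [← h.sig, F.sig3, eq_comm] at k

theorem relQ (F : FS Q z x) (h : Good Q z x a) (hc : Good Q z x c) (e : c * a = a * c)
    (e' : c * (x * a * x⁻¹) = x * a * x⁻¹ * c) : Q32.Rel a (x * a * x⁻¹) c (x * c * x⁻¹) :=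
  ⟨by rw [mul_assoc, h.sq, F.es.sq], by rw [F.sig_sq h.sq, h.sq], by rw [hc.sq, h.sq],
    by rw [F.sig_sq hc.sq, h.sq], F.q8 h, F.q8 hc, e.symm, F.comm_d h e e', e'.symm,
    cj_comm x e.symm⟩

/-- the conjugates of `a` -/
def Orb (x a u : G) : Prop := u = a ∨ u = x * a * x⁻¹ ∨ u = x * (x * a * x⁻¹) * x⁻¹

theorem good_orb (F : FS Q z x) (h : Good Q z x a) {u : G} (e : Orb x a u) : Good Q z x u := by
  rcases e with rfl | rfl | rfl
  exacts [h, F.good_sig h, F.good_sig (F.good_sig h)]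

theorem cover [Finite G] (F : FS Q z x) (h : Good Q z x a) (hc : Good Q z x c) (e : c * a = a * c)
    (e' : c * (x * a * x⁻¹) = x * a * x⁻¹ * c) {u : G} (hu : Good Q z x u) :
    Orb x a u ∨ Orb x c u := by
  obtain ⟨θ, t1, t2, t3, t4⟩ := Q32.model (F.relQ h hc e e')
  have tz : θ (Q32.a * Q32.a) = z := by rw [map_mul, t1, h.sq]
  have inj : Function.Injective θ := (injective_iff_map_eq_one θ).2 fun u hu => by
    rcases q32_ker u with c | rfl | ⟨k, -, l, -, c | ⟨k, -, c⟩⟩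
    · exact c
    · exact absurd (tz.symm.trans hu) F.es.ne_one
    all_goals exact absurd (by rw [← tz, ← c]; simp [hu]) F.es.ne_one
  have ran : θ.range = Q := eq_of_le_of_card_ge (by
    rw [MonoidHom.range_eq_map, map_le_iff_le_comap, Q32.eq_top (K := Q.comap θ) (t1 ▸ h.mem :)
      (t2 ▸ F.nx a h.mem :) (t3 ▸ hc.mem :) (t4 ▸ F.nx c hc.mem :)])
    (by rw [F.card, ← Nat.card_congr (MonoidHom.ofInjective inj).toEquiv, Q32.card])
  obtain ⟨w, rfl⟩ := ran.ge hu.mem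
  have k : ∀ y ∈ [Q32.a, Q32.b, Q32.a * Q32.b, Q32.c, Q32.d, Q32.c * Q32.d],
      Orb x a (θ y) ∨ Orb x c (θ y) := by
    simp [Orb, t1, t2, t3, t4, h.sig, hc.sig]
  rcases q32_four w (inj (by rw [tz, map_mul, hu.sq])) with c | c
  · exact k w c
  · have := (k _ c).elim (F.good_orb h) (F.good_orb hc)
    rw [map_mul, tz] at this
    exact (F.not_good hu this).elim

theorem orb_comm (F : FS Q z x) (h : Good Q z x a) (hc : Good Q z x c) (e : c * a = a * c)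
    (e' : c * (x * a * x⁻¹) = x * a * x⁻¹ * c) {u w : G} (hu : Orb x a u) (hw : Orb x c w) :
    w * u = u * w ∧ w * (x * u * x⁻¹) = x * u * x⁻¹ * w := by
  have k : ∀ y, c * y = y * c → x * c * x⁻¹ * y = y * (x * c * x⁻¹) → w * y = y * w := fun y c1 c2 => by
    rcases hw with rfl | rfl | rfl
    exacts [c1, c2, hc.sig ▸ (comm_mul c1.symm c2.symm).symm]
  have a1 := k a e (F.comm_d h e e').symm
  have a2 := k _ e' (cj_comm x e)
  have a3 := h.sig ▸ comm_mul a1 a2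
  rcases hu with rfl | rfl | rfl
  exacts [⟨a1, a2⟩, ⟨a2, a3⟩, ⟨a3, (F.sig3 a).symm ▸ a1⟩]

section
variable {t : G}

theorem ts (ht : t * x * t⁻¹ = x⁻¹) (q : G) :
    t * (x * q * x⁻¹) * t⁻¹ = x⁻¹ * (t * q * t⁻¹) * x⁻¹⁻¹ := by
  calc _ = t * x * t⁻¹ * (t * q * t⁻¹) * (t * x * t⁻¹)⁻¹ := by group
    _ = _ := by rw [ht]

theorem inv_sig (F : FS Q z x) (q : G) : x⁻¹ * q * x⁻¹⁻¹ = x * (x * q * x⁻¹) * x⁻¹ := by
  rw [← cj_trans (a := q) rfl rfl, inv_eq_of_mul_eq_one_left F.x3]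

theorem good_iota (F : FS Q z x) (ht : t * x * t⁻¹ = x⁻¹) (tz : t * z * t⁻¹ = z)
    (nt : ∀ q ∈ Q, t * q * t⁻¹ ∈ Q) (h : Good Q z x a) : Good Q z x (t * a * t⁻¹)⁻¹ := by
  have w2 : t * a * t⁻¹ * (t * a * t⁻¹) = z := by rw [conj_mul, h.sq, tz]
  have e := congrArg (fun y => t * y * t⁻¹) h.sig
  simp only [← conj_mul (b := t) (a := a) (c := x * a * x⁻¹), ts ht, F.inv_sig, F.sig3] at e
  rcases F.good_or (nt a h.mem) w2 with k | k
  · rw [k.sig, ← mul_assoc (t * a * t⁻¹), w2, ← F.es.central _ (F.nx _ k.mem)] at e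
    exact absurd (mul_eq_left.1 e.symm) F.es.ne_one
  · rwa [eq_inv_of_mul_eq_one_left (show t * a * t⁻¹ * z * (t * a * t⁻¹) = 1 by
      rw [F.es.central _ (nt a h.mem), mul_assoc, w2, F.es.sq])] at k

theorem fix_orb (F : FS Q z x) (ht : t * x * t⁻¹ = x⁻¹) (h : Orb x a (t * a * t⁻¹)⁻¹) :
    ∃ u, Orb x a u ∧ t * u * t⁻¹ = u⁻¹ := by
  have k : ∀ q, t * (x * q * x⁻¹) * t⁻¹ = x * (x * (t * q * t⁻¹) * x⁻¹) * x⁻¹ := fun q => by
    rw [ts ht, F.inv_sig]
  rcases h with e | e | e <;> rw [inv_eq_iff_eq_inv] at e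
  · exact ⟨a, Or.inl rfl, e⟩
  · exact ⟨_, Or.inr (Or.inr rfl), by rw [k, k, F.sig3, e, conj_inv, ← conj_inv, ← conj_inv]⟩
  · exact ⟨_, Or.inr (Or.inl rfl), by rw [k, e, ← conj_inv, ← conj_inv, F.sig3, conj_inv]⟩

theorem frame0 [Finite G] (F : FS Q z x) (ht : t * x * t⁻¹ = x⁻¹) (tz : t * z * t⁻¹ = z)
    (nt : ∀ q ∈ Q, t * q * t⁻¹ ∈ Q) : ∃ a c, Good Q z x a ∧ Good Q z x c ∧
      (c * a = a * c ∧ c * (x * a * x⁻¹) = x * a * x⁻¹ * c) ∧
      (t * a * t⁻¹ = a⁻¹ ∧ t * c * t⁻¹ = c⁻¹ ∨ t * a * t⁻¹ = c⁻¹) := by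
  obtain ⟨a, h⟩ : ∃ a, Good Q z x a := by
    obtain ⟨a, ha, a2⟩ : ∃ a ∈ Q, a * a = z := by
      obtain ⟨u, hu, w, hw, e⟩ := F.es.nonab
      rcases F.es.sq_mem hu with s0 | s0
      rcases F.es.sq_mem hw with s1 | s1
      · refine ⟨_, mul_mem hw hu, ?_⟩
        rw [mul_assoc, ← mul_assoc u, (F.es.comm u hu w hw).resolve_left e, mul_assoc (w * u),
          ← F.es.central u hu, ← mul_assoc, ← mul_assoc, ← mul_assoc, s1, one_mul, s0, one_mul]
      exacts [⟨w, hw, s1⟩, ⟨u, hu, s0⟩]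
    exact (F.good_or ha a2).elim (fun k => ⟨_, k⟩) fun k => ⟨_, k⟩
  obtain ⟨c, hc, e, e'⟩ := F.exists_c h
  rcases F.cover h hc e e' (F.good_iota ht tz nt h) with k | k
  rcases F.cover h hc e e' (F.good_iota ht tz nt hc) with k' | k'
  · exact ⟨c, _, hc, F.good_orb h k', F.orb_comm hc h e.symm (F.comm_d h e e') (Or.inl rfl) k',
      Or.inr (inv_inv _).symm⟩
  · obtain ⟨u, u1, u2⟩ := F.fix_orb ht k
    obtain ⟨w, w1, w2⟩ := F.fix_orb ht k'
    exact ⟨u, w, F.good_orb h u1, F.good_orb hc w1, F.orb_comm h hc e e' u1 w1, Or.inl ⟨u2, w2⟩⟩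
  · exact ⟨a, _, h, F.good_orb hc k, F.orb_comm h hc e e' (Or.inl rfl) k, Or.inr (inv_inv _).symm⟩

theorem frame [Finite G] (F : FS Q z x) (ht : t * x * t⁻¹ = x⁻¹) (tz : t * z * t⁻¹ = z)
    (nt : ∀ q ∈ Q, t * q * t⁻¹ ∈ Q) (t2 : t * t = 1 ∨ t * t = z) : ∃ a b c d, a * a = z ∧
      (H1.Rel a b c d x t ∨ H2.Rel a b c d x t ∨ H3.Rel a b c d x t ∨ H4.Rel a b c d x t) := by
  obtain ⟨a, c, h, hc, e, k⟩ := F.frame0 ht tz nt
  obtain ⟨h0, h1, h2, h3, h4, h5, h6, h7, h8, h9⟩ := F.relQ h hc e.1 e.2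
  refine ⟨a, x * a * x⁻¹, c, x * c * x⁻¹, h.sq, ?_⟩
  rcases t2 with t2 | t2
  · rw [inv_eq_of_mul_eq_one_right t2] at ht k
    rcases k with k | k
    · exact Or.inl ⟨h0, h1, h2, h3, h4, h5, h6, h7, h8, h9, F.x3, rfl, h.sig, rfl, hc.sig, t2, ht, k⟩
    · exact Or.inr (Or.inl
        ⟨h0, h1, h2, h3, h4, h5, h6, h7, h8, h9, F.x3, rfl, h.sig, rfl, hc.sig, t2, ht, k⟩)
  · rw [← h.sq] at t2
    rcases k with k | k
    · exact Or.inr (Or.inr (Or.inl
        ⟨h0, h1, h2, h3, h4, h5, h6, h7, h8, h9, F.x3, rfl, h.sig, rfl, hc.sig, t2, ht, k⟩))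
    · exact Or.inr (Or.inr (Or.inr
        ⟨h0, h1, h2, h3, h4, h5, h6, h7, h8, h9, F.x3, rfl, h.sig, rfl, hc.sig, t2, ht, k⟩))

end

end FS

theorem exists_xt {L : Type*} [Group L] [Finite L] (π : L →* Equiv.Perm (Fin 3))
    (sj : Function.Surjective π) (hc : Nat.card L = 192) (X : Sylow 3 L)
    (hk : IsPGroup 2 π.ker) : ∃ x t : L, (X : Subgroup L) = zpowers x ∧ x * x * x = 1 ∧
      t * x * t⁻¹ = x⁻¹ ∧ t * t ∈ π.ker := by
  classical
  have c3 : Nat.card X = 3 := by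
    rw [X.card_eq_multiplicity, hc, show 192 = 3 ^ 1 * 64 by norm_num,
      Nat.factorization_mul (by norm_num) (by norm_num), Nat.prime_three.factorization_pow]
    simp [Nat.factorization_eq_zero_of_not_dvd]
  obtain ⟨x, hx, o⟩ := exists_orderOf_eq_prime X.isPGroup' (fun e => by
    rw [e] at c3; simp at c3)
  have eX : (X : Subgroup L) = zpowers x :=
    (eq_of_le_of_card_ge (zpowers_le.2 hx) (by rw [Nat.card_zpowers, o]; exact c3.le)).symm
  have x3 : x * x * x = 1 := by rw [← pow_three', ← o, pow_orderOf_eq_one]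
  have p1 : π x ≠ 1 := fun e => by
    obtain ⟨k, hk⟩ := hk ⟨x, e⟩
    have := orderOf_dvd_of_pow_eq_one (congrArg Subtype.val hk : x ^ 2 ^ k = 1)
    rw [o] at this
    exact absurd (Nat.prime_three.dvd_of_dvd_pow this) (by norm_num)
  have p3 : π x * π x * π x = 1 := by rw [← map_mul, ← map_mul, x3, map_one]
  obtain ⟨h, hh⟩ := sj (Equiv.swap 0 1)
  obtain ⟨n, hn, t, ht, e⟩ := ((isSylowIn_top X).mono (K := (Equiv.Perm.sign.comp π).ker) (by
    rw [eX, zpowers_le, MonoidHom.mem_ker, MonoidHom.comp_apply]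
    revert p3; generalize π x = σ; revert σ; decide) le_top).frattini (g := h)
    (normal_iff_top_le_normalizer.1 inferInstance (mem_top h))
  have s : Equiv.Perm.sign (π t) = -1 := by
    have := congrArg (Equiv.Perm.sign.comp π) e
    rw [map_mul, MonoidHom.mem_ker.1 hn, one_mul, MonoidHom.comp_apply, hh] at this
    exact this.symm.trans (by decide)
  refine ⟨x, t, eX, x3, ?_, by
    rw [MonoidHom.mem_ker, map_mul]; revert s; generalize π t = σ; revert σ; decide⟩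
  have := conj_mem_of_mem_normalizer ht hx
  rw [eX, mem_zpowers_iff_mem_range_orderOf, o] at this
  simp only [Finset.mem_image, Finset.mem_range] at this
  obtain ⟨k, hk, e⟩ := this
  interval_cases k
  · exact absurd (by rw [conj_eq_one_iff.1 (e.symm.trans (pow_zero x)), map_one]) p1
  · have := congrArg π e
    simp only [pow_one, map_mul, map_inv] at this
    exact absurd this ((by decide : ∀ σ τ : Equiv.Perm (Fin 3), τ ≠ 1 → τ * τ * τ = 1 →
      Equiv.Perm.sign σ = -1 → τ ≠ σ * τ * σ⁻¹) _ _ p1 p3 s)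
  · rw [← e, pow_two, inv_eq_of_mul_eq_one_left x3]

end H70.TM
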