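import Mathlib
import Cfsg.Agent.Base
import Cfsg.Agent.Lib.M12C.Frame
import Cfsg.Agent.Lib.M12C.C1E
import Cfsg.Agent.Lib.M12C.C2A

/-!
# Involution centralisers `2^{1+4}.S₃` (helper70)
-/

set_option autoImplicit false
set_option maxRecDepth 100000

namespace H70.TM

open Subgroup H69 Cfsg H95

variable {E G : Type*} [Group E] [Group G]

theorem Mod.isolated {φ : E →* G} {z : E} (M : Mod φ z)
    (h1 : ∀ w : E, w * w = 1 → w ≠ 1 → w ≠ z → ∃ u, u * w = w * u ∧ u * u = 1 ∧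
      ∃ u', u' * w = w * u' ∧ u' * u' = 1 ∧ u * u' * (u * u') = z)
    (h2 : ∀ y : E, y * y = 1 → ∀ y', y' * y' = 1 → y * y' * (y * y') = 1 ∨ y * y' * (y * y') = z)
    {v : E} (h : Cj (φ z) (φ v)) : v = z := by
  obtain ⟨g, h⟩ := h
  obtain ⟨w, k⟩ := M.swap h
  by_contra hv
  obtain ⟨u, a, b, u', a', b', c⟩ := h1 w (M.act_eq' (k.mul k) (M.sq ▸ Act.one φ g))
    (fun e => M.ne (M.act_eq k (e ▸ Act.one φ g))) fun e => hv (M.act_eq h (e ▸ k))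
  obtain ⟨y, e⟩ := M.act k a
  obtain ⟨y', e'⟩ := M.act k a'
  have := M.act_eq ((e.mul e').mul (e.mul e')) (c ▸ h)
  rcases h2 y (M.act_eq (e.mul e) (b ▸ Act.one φ g)) y' (M.act_eq (e'.mul e') (b' ▸ Act.one φ g))
    with d | d
  · exact M.ne (M.act_eq' h (this.symm.trans d ▸ Act.one φ g))
  · exact hv (this.symm.trans d)

open H3 in
theorem h3_isolated [Finite G] {a' b' c' d' x' t' y : G} (h : Rel a' b' c' d' x' t')
    (h1 : a' * a' ≠ 1) (hc : Nat.card 𝐂₀(a' * a') ≤ 192) (hy : y ∈ 𝐂₀(a' * a'))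
    (e : Cj (a' * a') y) : y = a' * a' := by
  obtain ⟨φ, e1, -⟩ := model h
  have e' : φ (a * a) = a' * a' := by rw [map_mul, e1]
  have M : Mod φ (a * a) := mod_of (inj_of (L := [a, b, c, d, x]) (by decide +kernel) (e' ▸ h1))
    (by decide +kernel) (by rwa [e', card])
  rw [← e'] at hy e ⊢
  obtain ⟨u, rfl⟩ := M.ran y (mem_c.1 hy)
  rw [M.isolated (by decide +kernel) (by decide +kernel) e]

open H4 in
theorem h4_isolated [Finite G] {a' b' c' d' x' t' y : G} (h : Rel a' b' c' d' x' t')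
    (h1 : a' * a' ≠ 1) (hc : Nat.card 𝐂₀(a' * a') ≤ 192) (hy : y ∈ 𝐂₀(a' * a'))
    (e : Cj (a' * a') y) : y = a' * a' := by
  obtain ⟨φ, e1, -⟩ := model h
  have e' : φ (a * a) = a' * a' := by rw [map_mul, e1]
  have M : Mod φ (a * a) := mod_of (inj_of (L := [a, b, c, d, x]) (by decide +kernel) (e' ▸ h1))
    (by decide +kernel) (by rwa [e', card])
  rw [← e'] at hy e ⊢
  obtain ⟨u, rfl⟩ := M.ran y (mem_c.1 hy)
  rw [M.isolated (by decide +kernel) (by decide +kernel) e]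

/-- the four possible shapes of the centraliser -/
theorem exists_rel [Finite G] {s : G} (hs : orderOf s = 2)
    (hQex : IsExtraspecial 2 ((pCore 2 𝐂₀(s)).map (𝐂₀(s)).subtype))
    (hQcard : Nat.card ((pCore 2 𝐂₀(s)).map (𝐂₀(s)).subtype) = 32)
    (e : 𝐂₀(s) ⧸ pCore 2 𝐂₀(s) ≃* Equiv.Perm (Fin 3)) (X : Sylow 3 𝐂₀(s))
    (hCQX : (pCore 2 𝐂₀(s)).map (𝐂₀(s)).subtype ⊓
      𝐂((X : Subgroup 𝐂₀(s)).map (𝐂₀(s)).subtype) = zpowers s) :
    Nat.card 𝐂₀(s) = 192 ∧ ∃ a b c d x t, a * a = s ∧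
      (H1.Rel a b c d x t ∨ H2.Rel a b c d x t ∨ H3.Rel a b c d x t ∨ H4.Rel a b c d x t) := by
  let π := e.toMonoidHom.comp (QuotientGroup.mk' (pCore 2 𝐂₀(s)))
  have hk : π.ker = pCore 2 𝐂₀(s) := by
    rw [← MonoidHom.comap_ker, (MonoidHom.ker_eq_bot_iff _).2 e.injective, MonoidHom.comap_bot,
      QuotientGroup.ker_mk']
  have hc : Nat.card 𝐂₀(s) = 192 := by
    rw [card_subtype] at hQcard
    rw [card_eq_card_quotient_mul_card_subgroup (pCore 2 𝐂₀(s)), hQcard, Nat.card_congr e.toEquiv,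
      Nat.card_perm]
    simp [Nat.factorial]
  obtain ⟨x, t, eX, x3, tx, t2⟩ := exists_xt π (e.surjective.comp (QuotientGroup.mk'_surjective _))
    hc X (hk ▸ H1.isPGroup_pCore)
  set Q := (pCore 2 𝐂₀(s)).map (𝐂₀(s)).subtype
  have n : ∀ g : 𝐂₀(s), ∀ q ∈ Q, g * q * (g : G)⁻¹ ∈ Q := by
    rintro g _ ⟨q, hq, rfl⟩
    exact ⟨_, Normal.conj_mem inferInstance q hq g, rfl⟩
  have fx : ∀ q ∈ Q, x * q * (x : G)⁻¹ = q → q = 1 ∨ q = s := fun q hq c => by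
    rw [← mem_zpowers_iff_of_sq (mul_self_of_ord2 hs), ← hCQX, eX, MonoidHom.map_zpowers,
      centralizer_zpowers]
    exact ⟨hq, mem_c.2 (cj_eq_iff'.1 c).symm⟩
  have tx' : (t : G) * x * (t : G)⁻¹ = (x : G)⁻¹ := congrArg Subtype.val tx
  obtain ⟨a, b, c, d, h⟩ := FS.frame (Q := Q) (z := s) (x := x) ⟨ES_of_central hQex
    (hCQX.ge (mem_zpowers s)).1 (ne_one_of_ord2 hs) (by rintro _ ⟨q, -, rfl⟩; exact mem_c.1 q.2),
    congrArg Subtype.val x3, cj_eq_iff'.2 (mem_c.1 x.2), n x, fx, hQcard⟩ tx'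
    (cj_eq_iff'.2 (mem_c.1 t.2)) (n t) (fx _ ⟨t * t, hk ▸ t2, rfl⟩ (cj_eq_iff'.2 (cj_eq_iff'.1 (by
      have := cj_trans tx' (show (t : G) * (x : G)⁻¹ * (t : G)⁻¹ = x by rw [← conj_inv, tx', inv_inv])
      exact this)).symm))
  exact ⟨hc, a, b, c, d, x, t, h⟩

theorem main [Finite G] {s : G} (hs : orderOf s = 2)
    (hQex : IsExtraspecial 2 ((pCore 2 𝐂₀(s)).map (𝐂₀(s)).subtype))
    (hQcard : Nat.card ((pCore 2 𝐂₀(s)).map (𝐂₀(s)).subtype) = 32)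
    (e : 𝐂₀(s) ⧸ pCore 2 𝐂₀(s) ≃* Equiv.Perm (Fin 3)) (X : Sylow 3 𝐂₀(s))
    (hCQX : (pCore 2 𝐂₀(s)).map (𝐂₀(s)).subtype ⊓
      𝐂((X : Subgroup 𝐂₀(s)).map (𝐂₀(s)).subtype) = zpowers s)
    (hnwc : ∃ g : G, g * s * g⁻¹ ∈ (pCore 2 𝐂₀(s)).map (𝐂₀(s)).subtype ∧ g * s * g⁻¹ ≠ s) :
    E8 G ∨ Nonempty (G ≃* alternatingGroup (Fin 8)) ∨ Nonempty (G ≃* alternatingGroup (Fin 9)) ∨
      Spor.IsoM12 G := by
  obtain ⟨hc, a, b, c, d, x, t, rfl, h⟩ := exists_rel hs hQex hQcard e X hCQX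
  obtain ⟨g, hg, ne⟩ := hnwc
  have s1 := ne_one_of_ord2 hs
  have y2 := mul_self_of_ord2 (ord2_cj hs g)
  have y1 := ne_one_of_ord2 (ord2_cj hs g)
  have k : Cj (a * a) (g * (a * a) * g⁻¹) := ⟨g, rfl⟩
  generalize g * (a * a) * g⁻¹ = y at *
  rcases h with h | h | h | h
  · obtain ⟨φ, M, e⟩ := H1.mod_of_rel h s1 hc.le
    rw [← e] at hg ne k
    obtain ⟨u, rfl⟩ := M.ran y (mem_c.1 (map_subtype_le _ hg))
    have : Cj (φ H1.z) (φ H1.v) := by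
      rcases H1.cls u (M.inj (by rw [map_mul, y2, map_one])) (fun c => y1 (by rw [c, map_one])) with
        rfl | c | c | c
      exacts [absurd rfl ne, k.trans (c.map φ).symm, absurd k (H1.nq' M c.symm),
        H1.cj_v_of_t M (k.trans (c.map φ).symm)]
    exact (H1.main M this).imp_right fun h => Or.inr (Or.inr h)
  · obtain ⟨φ, M, e⟩ := H2.mod_of_rel h s1 hc.le
    rw [← e] at hg ne k
    obtain ⟨u, rfl⟩ := M.ran y (mem_c.1 (map_subtype_le _ hg))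
    refine (H2.main M ((by decide +kernel : ∀ u : H2.E, u * u = 1 → u ≠ 1 → u ≠ H2.z →
      (u * H2.x * u⁻¹ * H2.x⁻¹) ^ 4 = 1 → Cj H2.v1 u ∨ Cj H2.v2 u ∨ Cj H2.v3 u) u
      (M.inj (by rw [map_mul, y2, map_one])) (fun c => y1 (by rw [c, map_one]))
      (fun c => ne (by rw [c])) (M.inj ?_)) k).imp_right (Or.imp_right Or.inl)
    obtain ⟨z, hz⟩ := exists_ES hQex
    obtain ⟨q, hq, eq⟩ := hg
    rw [map_pow, map_one]
    refine hz.pow_four (e ▸ ⟨q * (⟨φ H2.x, mem_c.2 (M.comm _)⟩ * q⁻¹ * (⟨φ H2.x, mem_c.2 (M.comm _)⟩)⁻¹),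
      mul_mem hq (Normal.conj_mem inferInstance _ (inv_mem hq) _), ?_⟩)
    simp only [map_mul, map_inv, eq, mul_assoc, coe_subtype]
  · exact absurd (h3_isolated h s1 hc.le (map_subtype_le _ hg) k) ne
  · exact absurd (h4_isolated h s1 hc.le (map_subtype_le _ hg) k) ne

end H70.TM
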