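import Mathlib
import Cfsg.Agent.Base
import Cfsg.Agent.Lib.M12C.Tab

/-! the Sylow `2`-subgroup of `M₁₂`, order 64 (helper70; generated) -/

set_option autoImplicit false
set_option maxRecDepth 100000

namespace H70.S64E
open H54 (Tr force band)
open H18.TC
noncomputable def T_0 : Tr := (.node (nat_lit 3) (.node (nat_lit 1) (.node (nat_lit 0) (.leaf (nat_lit 0xb0c458e2063f82bd424cc17e557b4ce9a81ade09f0003b80001bec6dde30e730779440ea1eff603622fac42e45f7100000000250c92be4153289f9852fe26f54575b0bb0bfe225f20011000014acea3e79f752c5a582d88ceb173a8b3fc78e633f400198000132d098685974cf1a914d6c1ec157f8afd466e83973000000000d2da686d043803fbc44e460f1193a0ebcc08ea01ff000880000cadc646e07b7823c0bce223f21d398c5d001fe037500000000060ec2f76033b82fe03ef228fa16bd8adf004fa017e)) (.leaf (nat_lit 0x1faa6fbd304bf01ff436ae14d685ac0db6414f006f70022000019aa8cbd431ab98958c2fa5dfe422d9eb68bdf2607a000000001b0aad6d512ab08b5c48fc21fd3c2d2136c4cf420f9003b800007cbe3d5f1becc336106b679da1dbe8e7f871f83bfb00198000098c04ae0862c0d564f2b4865b187f0c7f468f632fc00088000082b8405c05bc015dc4ef41ff9163e0b7ec05fc03fd004c800005dfe2fff296e9177a4cc8dce31faf93380ccdc6aed003b800020ac303e1027a817fc2eca11669cb52b9a40ee00e6f)))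 (.node (nat_lit 2) (.leaf (nat_lit 0x4c800012ff898fc54e426f258a9acfcc4ef6a6bb939be99e0001980001ec94f6ca587dacdf16c9cb24f56fbabbe212b0afd900088000280973ccb9dfe4fdee759f3e4e9cfc4e3de6db337d8000000001a498d0cc4727ae3391af689fc463ca2de911b487db003b800018e9ac7cd5de72f33d84f8c0fb61bd2ffe57bb6beda004c80000cffa68fd37a8c754194a8d5d55133a79a0d6ec69dc004c80000c7fc64fe8e281bf45aaaacad44db428b9ccdb865f60000000022aa515d2083e83bf828ac1bd71b2cc3d601bee0cf8)) (.leaf (nat_lit 0x3b8000096e84bf4246113d0dc68eecc626bb1277134d0a06700000000208ef04f7923240b8e0cbd01dd9922c031222a4ffd3002a80000b2f057f87031c8d90adba59de2da24d315fca71052000000001bcf2def981b0b7f89baecdbdc70a3bbb19b5a8d9d5003b8000258f527fa917148f8652b925f695234ab1e49ab26d4000000000acba54dd0f3c8a7e830f016f748e7adb3832ae15d6002a8000088bc435e143d075e421ee11f85a272413c26ac1a57003b8000148f6a4fb4f64aa5219e98c44d51b7287b53fc0a0df)))) (.node (nat_lit 5) (.node (nat_lit 4) (.leaf (nat_lit 0x4c800020d8907c486b9c2fd21c8109c18777c2bc270d508e9003b80002668b35c51a7a0e1cce9827dc01bb80d7bd60d3376a003b80001dc8cefc63b609f100f4e678f43db89dfc97ed8896b003b80001d08ee6c740e021d050be882f342b920fc510d6be6c004c800007fea40f522af14975b8c728e425301077cd4da676e001980000aaca55e528ee14dda04c2576228619510a3ca07151004c8000085cc43e6233b11370b4c505e124211390cdca31b50004c8000079e63df327e191d09d68ce5c7212e0fbd942ce9d68))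 (.leaf (nat_lit 0x2a8000244ad1fd68e76c6fba31a519d390a447b2635bd1ddd004c80000d7ae6cd738371bbb5f2a713524b24aa120e1ba6dde0008800022cdf14ef89eac5b5225a3195088e54612e1fc510e1001100001f8e0fcf07daa3e75634a0f8d17fa5bdf2a00c2fde200110000198e2ccf18ba93eb4d96dcc9ed6726323364ec8db63001100001aee4d7f27d29c5149acdad4ee6ca6b4f31b4c7256400000000240a121d030f8893c82ae013ef39a09fb002cca12e6000000000daa26c5111b918bc438de1af03ea01c90433cc18e5))) (.node (nat_lit 6) (.leaf (nat_lit 0x880001769cb9ce5473aa9a1e494ab4b53e8c83414b86a6c2004c80001259e93cf4e3427d9d5896f3ca8fa8257452e8494c3000000001eed2f5e97aa6bcb31e892f1c87c29c494a628af0c4002a800027ad53fea69a6319355590abc98be93fb4d5a892f45001100001a2d6d1eb79a534b2da0d0cee76a2ab3751c48eea46002a8000190d8c6ec62e5bd32987cec4e864aa36355d88ce4c70011000017490bac85cb5af1b27bd4b5e95bb2acf997080b4c1003300001289293495eb6237ad63d33b6a47f3249951d829140)) (.leaf (nat_lit 0x3b8000102847fc23ded2096cfcb30dd83fab1f35d219eb7ce001980000ec8673c3436d9dd6a14b0755938eb9cb596a9c8f4f003b80001008080c0236f92580b88933c529ee91f794e9096c9001980000e88275c127701417e608a5cc426ef145752a92a64800110000210b107587223ba518ba865bc280b096b89e294accb003b800026cb332d996634b71e68852fc39ab14c7865d9730ca003b80001e0b4edda74624b515dac0eadf77b1ca791d398ebcd001100001ceb6e7db9722b8f11ccbee2e095b23838dca9ae1cc)))))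
noncomputable def J_0 : Tr := (.node (nat_lit 3) (.node (nat_lit 1) (.node (nat_lit 0) (.leaf (nat_lit 0x2000001000000200000000020020000000016002004000000800000500000000000000018000004000002000800200480080000000030010000000001000400400000500000000000010000000005001001800000000000000000000010000010000001000400400000000000000020000008000001001000000000000000000040000010000000000000)) (.leaf (nat_lit 0x4000000800000200000080020020000000008000000000400400000100300000000000010000002000000800000200080080000000008008008000002000000400200500000000040000000000001001001800000a00000000000000000000008000004800800800100100080040060000008000004000001000000000580080100000000000000000000))) (.node (nat_lit 2) (.leaf (nat_lit 0x4004002002001800000600200100080020000000004002000000000200200300000140000000028008000002000000800b0010010000000002000001400000100000000070010000000003001002000000e00000080040080008008004000000000000c00000000000040010010008000004000001800000800300080000000010000008000001000000000b001))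 (.leaf (nat_lit 0x300100000000040000008000000000000000400000200000100000040004004000000002000000100100300000020000000000000001000000c0000010000018007001000000000d00100200000040000018004008000000001c0000010000010002004000400400000000000000010010028000000000000000000000180080000000000000004002004)))) (.node (nat_lit 5) (.node (nat_lit 4) (.leaf (nat_lit 0x4004002000001800000c0010010000002000000000600200000080080000010000000000000000c004000000003800000200000000000000038008000002002000000400000000040040020000000000004000001000000000000000040020000000002002000000000000100100080000060000030000000000000000200200100080000000030000008000000)) (.leaf (nat_lit 0x8003003400400a000003001c00c000800800400000300000000000000010004000000002800800600200000080010010010000000001000001400000300040040000010000000002000002800000600080080000000000000004000000000000c0010010000000000000000800c0020000008000002000800800000000000000180000040000000009001))) (.node (nat_lit 6) (.leaf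 (nat_lit 0x6002000000000000200340040040008008004000000000000400000200000040000000030000004000002000000000080080000000060000002002005000801400000000000000020000038000006000800800000000000000100060018008014000002000000c00000000080000000020018002002000001800000000000040040020000008000004000)) (.leaf (nat_lit 0xf00100000000100000008008006000000000c00200000000020020030000000000000000c004000000001000400200000180000000010008000000003800800000000000000000000000000000006000800800000c000000001a0020040000008000001000801000000000240040000000010000002001002000000000100000140000030004004000003)))))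
noncomputable def F_0 : Tr := (.node (nat_lit 4) (.node (nat_lit 1) (.node (nat_lit 0) (.leaf (nat_lit 0xc70db7d35cb3f7cefae78fbf8a179d71b65a59551346ebd762cb6aae9a207e69e49632472051840c24903ce34b300281)) (.leaf (nat_lit 0xc31df6d74cf2f3debbe39ffe86275e6dc6995564d44afb985edb2baa8a5f8279a59098c81c614310144f40d38c2ca002))) (.node (nat_lit 2) (.leaf (nat_lit 0xa2986275e6dcbeeb6caea65adb7d35cb3ffe3d034e83df098fbeb9e31c124472051976279a59010847d65544c028c2c3)) (.node (nat_lit 3) (.leaf (nat_lit 0xa688a179d71bbafb2daab699df6d74cf2fbf40f38d7fcf6327aef8e70c514881c61585e69e494204381559350a00b304)) (.leaf (nat_lit 0x9e6ebbf7c81fd35df6617595b2dbee49140ffbf2cc6dd7b8e628632481f2cf0c4312aae8a410a59067196802944ce345))))) (.node (nat_lit 6) (.node (nat_lit 5) (.leaf (nat_lit 0x9a7efaf3d7e0d74db75d8556b6cbaf4523d0ffe30b71e779e218898c7233cb1c040ebaa9a020649456da64a01350d386)) (.leaf (nat_lit 0x9257e0e78ebb5d8cf2d354d4452aeab2d34e2ccffe8898fdf1c6dd7851b7d83131c2fb810a9a2798884029a6565503c7)))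 (.node (nat_lit 7) (.leaf (nat_lit 0x96481fe39efa617cb3d74513491aabb6c38d30bfbf86327cf5b71e746176dc40f0c6ebc2068a669c788a01969558f408)) (.node (nat_lit 8) (.leaf (nat_lit 0xf7cffe9e6964c70595513df6a6840f38dbeeefae7829a64c2c81c61628440f5d33c8206db2baa07e301e75c6d85d2449)) (.leaf (nat_lit 0xf7cffe9e6964c70595513df6a6840f38dbeeefae7829a64c2c81c61628440f5d33c8206db2baa07e301e75c6d85d2449))))))
noncomputable def T : Tr := T_0
noncomputable def J : Tr := J_0
noncomputable def F : Tr := F_0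
noncomputable def row (u : ℕ) : ℕ := Nat.land (Nat.shiftRight (force (Nat.shiftRight u (nat_lit 3)) T.get) (Nat.mul (Nat.land u (nat_lit 7)) (nat_lit 204))) (nat_lit 0xfffffffffffffffffffffffffffffffffffffffffffffffffff)
noncomputable def jrow (u : ℕ) : ℕ := Nat.land (Nat.shiftRight (force (Nat.shiftRight u (nat_lit 3)) J.get) (Nat.mul (Nat.land u (nat_lit 7)) (nat_lit 143))) (nat_lit 0x7fffffffffffffffffffffffffffffffffff)
noncomputable def fget (k fx : ℕ) : ℕ := F.get (Nat.add k fx)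
noncomputable def wt0 : LT := (.node (nat_lit 3) (.node (nat_lit 1) (.node (nat_lit 0) (.leaf 23 0 [nat_lit 153, nat_lit 17, nat_lit 153])
(.leaf 1 0 [nat_lit 17, nat_lit 17, nat_lit 17]))
(.node (nat_lit 2) (.leaf 9 3 [nat_lit 34, nat_lit 17, nat_lit 51])
(.leaf 15 1 [nat_lit 119, nat_lit 0, nat_lit 102])))
(.node (nat_lit 5) (.node (nat_lit 4) (.leaf 9 1 [nat_lit 51, nat_lit 17, nat_lit 34])
(.leaf 13 1 [nat_lit 85, nat_lit 0, nat_lit 68]))
(.leaf 0 0 [])))
noncomputable def wt1 : LT := (.node (nat_lit 2) (.node (nat_lit 0) (.leaf 7 0 [nat_lit 119, nat_lit 119, nat_lit 0])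
(.node (nat_lit 1) (.leaf 15 3 [nat_lit 102, nat_lit 17, nat_lit 119])
(.leaf 3 3 [nat_lit 0, nat_lit 51, nat_lit 51])))
(.node (nat_lit 6) (.node (nat_lit 3) (.leaf 5 3 [nat_lit 0, nat_lit 85, nat_lit 85])
(.node (nat_lit 4) (.leaf 7 3 [nat_lit 0, nat_lit 119, nat_lit 119])
(.node (nat_lit 5) (.leaf 13 3 [nat_lit 68, nat_lit 17, nat_lit 85])
(.leaf 5 0 [nat_lit 85, nat_lit 85, nat_lit 0]))))
(.leaf 0 0 [])))
noncomputable def wt2 : LT := (.node (nat_lit 1) (.node (nat_lit 0) (.leaf 19 1 [nat_lit 119, nat_lit 34, nat_lit 102])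
(.leaf 27 2 [nat_lit 153, nat_lit 17, nat_lit 51, nat_lit 153]))
(.node (nat_lit 4) (.node (nat_lit 2) (.leaf 3 1 [nat_lit 51, nat_lit 0, nat_lit 0])
(.node (nat_lit 3) (.leaf 3 2 [nat_lit 0, nat_lit 0, nat_lit 51])
(.leaf 9 2 [nat_lit 17, nat_lit 34, nat_lit 17])))
(.node (nat_lit 5) (.leaf 17 1 [nat_lit 85, nat_lit 34, nat_lit 68])
(.leaf 0 0 []))))
noncomputable def wt3 : LT := (.node (nat_lit 1) (.node (nat_lit 0) (.leaf 19 3 [nat_lit 102, nat_lit 51, nat_lit 119])
(.leaf 9 0 [nat_lit 17, nat_lit 51, nat_lit 17]))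
(.leaf 0 0 []))
noncomputable def wt4 : LT := (.node (nat_lit 1) (.node (nat_lit 0) (.leaf 13 2 [nat_lit 0, nat_lit 68, nat_lit 17])
(.leaf 11 1 [nat_lit 119, nat_lit 85, nat_lit 102]))
(.node (nat_lit 2) (.leaf 17 2 [nat_lit 34, nat_lit 68, nat_lit 51])
(.node (nat_lit 4) (.node (nat_lit 3) (.leaf 5 2 [nat_lit 0, nat_lit 0, nat_lit 85])
(.leaf 5 1 [nat_lit 85, nat_lit 0, nat_lit 0]))
(.node (nat_lit 5) (.leaf 25 0 [nat_lit 153, nat_lit 85, nat_lit 153])
(.node (nat_lit 6) (.leaf 29 4 [nat_lit 119, nat_lit 153, nat_lit 119, nat_lit 153])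
(.node (nat_lit 7) (.leaf 11 3 [nat_lit 102, nat_lit 85, nat_lit 119])
(.leaf 0 0 [])))))))
noncomputable def wt5 : LT := (.node (nat_lit 1) (.node (nat_lit 0) (.leaf 17 0 [nat_lit 51, nat_lit 85, nat_lit 34])
(.leaf 13 0 [nat_lit 17, nat_lit 85, nat_lit 0]))
(.leaf 0 0 []))
noncomputable def wt6 : LT := (.node (nat_lit 1) (.node (nat_lit 0) (.leaf 15 2 [nat_lit 0, nat_lit 102, nat_lit 17])
(.leaf 7 2 [nat_lit 0, nat_lit 0, nat_lit 119]))
(.node (nat_lit 3) (.node (nat_lit 2) (.leaf 29 2 [nat_lit 153, nat_lit 85, nat_lit 119, nat_lit 153])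
(.leaf 7 1 [nat_lit 119, nat_lit 0, nat_lit 0]))
(.node (nat_lit 4) (.leaf 19 2 [nat_lit 34, nat_lit 102, nat_lit 51])
(.node (nat_lit 5) (.leaf 11 2 [nat_lit 85, nat_lit 102, nat_lit 85])
(.node (nat_lit 6) (.leaf 29 0 [nat_lit 153, nat_lit 119, nat_lit 153, nat_lit 85])
(.leaf 0 0 []))))))
noncomputable def wt7 : LT := (.node (nat_lit 2) (.node (nat_lit 0) (.leaf 19 0 [nat_lit 51, nat_lit 119, nat_lit 34])
(.node (nat_lit 1) (.leaf 15 0 [nat_lit 17, nat_lit 119, nat_lit 0])
(.leaf 11 0 [nat_lit 85, nat_lit 119, nat_lit 85])))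
(.leaf 0 0 []))
noncomputable def wt8 : LT := (.node (nat_lit 0) (.leaf 21 0 [nat_lit 153])
(.node (nat_lit 3) (.node (nat_lit 1) (.leaf 27 3 [nat_lit 17, nat_lit 51, nat_lit 153, nat_lit 51])
(.node (nat_lit 2) (.leaf 27 1 [nat_lit 51, nat_lit 153, nat_lit 17, nat_lit 51])
(.leaf 25 3 [nat_lit 85, nat_lit 153, nat_lit 85])))
(.node (nat_lit 4) (.leaf 23 3 [nat_lit 17, nat_lit 153, nat_lit 17])
(.node (nat_lit 5) (.leaf 29 1 [nat_lit 119, nat_lit 153, nat_lit 85, nat_lit 119])
(.node (nat_lit 6) (.leaf 29 3 [nat_lit 85, nat_lit 119, nat_lit 153, nat_lit 119])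
(.leaf 0 0 []))))))
noncomputable def wt9 : LT := (.leaf 0 0 [])
noncomputable def wt10 : LT := (.leaf 0 0 [])
noncomputable def sl : List (ℕ × ℕ × List ℕ × List ℕ) := []
/-- the inverse column -/
noncomputable def icol (x : ℕ) : ℕ := List.getD [nat_lit 1, nat_lit 0, nat_lit 3, nat_lit 2, nat_lit 5, nat_lit 4, nat_lit 7, nat_lit 6, nat_lit 9, nat_lit 8] x x
noncomputable def inv (x : ℕ) : ℕ := Nat.mul (icol (Nat.div x (nat_lit 17))) (nat_lit 17)
def cols : List ℕ := [nat_lit 170, nat_lit 0, nat_lit 17, nat_lit 34, nat_lit 51, nat_lit 68, nat_lit 85, nat_lit 102, nat_lit 119, nat_lit 136, nat_lit 153]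
noncomputable def cl : CL := (.cons (nat_lit 0) (nat_lit 17) (nat_lit 0) (nat_lit 0) wt0
(.cons (nat_lit 17) (nat_lit 0) (nat_lit 13) (nat_lit 1) wt1
(.cons (nat_lit 34) (nat_lit 51) (nat_lit 26) (nat_lit 2) wt2
(.cons (nat_lit 51) (nat_lit 34) (nat_lit 39) (nat_lit 3) wt3
(.cons (nat_lit 68) (nat_lit 85) (nat_lit 52) (nat_lit 4) wt4
(.cons (nat_lit 85) (nat_lit 68) (nat_lit 65) (nat_lit 5) wt5
(.cons (nat_lit 102) (nat_lit 119) (nat_lit 78) (nat_lit 6) wt6
(.cons (nat_lit 119) (nat_lit 102) (nat_lit 91) (nat_lit 7) wt7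
(.cons (nat_lit 136) (nat_lit 153) (nat_lit 104) (nat_lit 8) wt8
(.cons (nat_lit 153) (nat_lit 136) (nat_lit 117) (nat_lit 9) wt9
.nil))))))))))
def rels : List (List ℕ) := [[0, 0, 0, 0],
[1, 1, 2, 2],
[1, 1, 4, 4],
[1, 1, 6, 6],
[3, 0, 2, 0],
[7, 4, 6, 4],
[5, 1, 4, 0],
[7, 1, 6, 0],
[5, 3, 4, 2],
[7, 3, 6, 2],
[8, 8],
[0, 8, 0, 8],
[4, 8, 4, 8],
[2, 0, 8, 2, 8],
[6, 4, 8, 6, 8]]
def subs : List (List ℕ) := []
noncomputable def chk : ℕ → Bool := rowChk row jrow fget sl cols (nat_lit 64) (nat_lit 64) (nat_lit 131071) (nat_lit 127) (nat_lit 131072) (nat_lit 170) (nat_lit 187) (nat_lit 8191) (nat_lit 6) (nat_lit 63) (nat_lit 6) (nat_lit 63) cl (nat_lit 130) wt10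
theorem p0 : allB chk 6 0 = true := by decide +kernel
theorem all_chk : AllLt chk 64 := by
  have h := AllLt.zero chk
  have h := h.step 64 p0 (by decide +kernel)
  exact h
/-- column `x` of the final table -/
noncomputable def tab (x u : ℕ) : ℕ := ft fget (nat_lit 6) (nat_lit 63) (nat_lit 6) (nat_lit 63) (Nat.mul x (nat_lit 1)) u
theorem enum {G Ω : Type*} [Group G] [MulAction G Ω] (g : ℕ → G) (ω : Ω)
    (hinv : ∀ x, g (icol x) = (g x)⁻¹) (h1 : g 10 = 1)
    (hrels : ∀ R ∈ rels, ev g R = 1) (hsubs : ∀ S ∈ subs, ev g S • ω = ω) :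
    ∃ pt : ℕ → Ω, pt 0 = ω ∧ (∀ K : Subgroup G, (∀ x, g x ∈ K) → ∀ v, ∃ k ∈ K, pt v = k • ω) ∧
      ∀ x, x < 10 → ∀ u, u < 64 → tab x u < 64 ∧ g x • pt u = pt (tab x u) :=
  sound_scaled g ω row jrow fget sl inv icol cols (nat_lit 64) (nat_lit 64) (nat_lit 131071) (nat_lit 127) (nat_lit 131072) (nat_lit 170) (nat_lit 187) (nat_lit 8191) (nat_lit 6) (nat_lit 63) (nat_lit 6) (nat_lit 63) 7 cl (nat_lit 130) wt10 rels subs 17 (nat_lit 1) 10
    (fun _ => Nat.mul_div_cancel _ (by decide)) hinv h1 hrels hsubs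
    (by decide +kernel) (by decide +kernel) all_chk
end H70.S64E

namespace H70.S64
open H70.TM H18.TC Subgroup

noncomputable def rt : RT := ⟨nat_lit 64, nat_lit 6, nat_lit 63,
  (.node (nat_lit 31) (.node (nat_lit 15) (.node (nat_lit 7) (.node (nat_lit 3) (.node (nat_lit 1) (.node (nat_lit 0) (.leaf (nat_lit 0xffef7cefae78df6d74cf2c70beeb6caeaa689e69648e28607de75c6da6585d65544d24503ce34c2ca2481c61440c2040))
(.leaf (nat_lit 0xb6bffeaa875c103f69c3cbe486cd74cbabbb3b9e1656748f41134c2b7d870337e26f18237949a56056990974c920b181)))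
(.node (nat_lit 2) (.leaf (nat_lit 0x592cf17a01039a5c10b6fafff9592384f7d114923da53f3bb3adf69f9e002f5d1b3b2aaea0a69906275c5d850d3061c2))
(.leaf (nat_lit 0xcbfafd99da02781fa7875cd2c14f22b7938dbba1f14e9937289ecb40f038daf6f47d668512ca9896381771955118c203))))
(.node (nat_lit 5) (.node (nat_lit 4) (.leaf (nat_lit 0x5343ac7250aa0609f22ae8c557e8aba4cf38fc7ed387d7c8c762fac00479ddb4b5cd00ef66d6289a45de75a5863cd244))
(.leaf (nat_lit 0xee6ab9ff5f2cc63ea581ddd169ca3837d32d2fed1ed98273224cae1af5624cf6475c4c03582ae99c185f51b01240e285)))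
(.node (nat_lit 6) (.leaf (nat_lit 0xd72b6bebb34c248fee93e8564b4f69f28b2a51d7337cec5e8e09a51440c20704272af3d5462e781d3df62c06da6585c6))
(.leaf (nat_lit 0x9215923d1df634ccdfff1fbdf23c10be055e2840f5d05ca8baa6998a69570adb139ebee9e9b248014e7818b39d701607)))))
(.node (nat_lit 11) (.node (nat_lit 9) (.node (nat_lit 8) (.leaf (nat_lit 0xf2dcbfe4decb446ace4bdc31922fa7d5d526b280af6ee58415aa988de05c0e12a9433dd3274e87e153c03367e05e5648))
(.leaf (nat_lit 0x8a95343382fa18f3bc16c5537eb9f2ba5f9cb42a9b4bf419bc362890181d10ac7dc23221db51fbe56011377cd77a6689)))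
(.node (nat_lit 10) (.leaf (nat_lit 0xa0dee6f6dcae490a8c47969e278ea577573f0bcb0f64b1160f0ae90718d41602181b7cf6907fb4880bd53935e17e76ca))
(.leaf (nat_lit 0xcf1c2f44f248e78923d61cadadf59549e4204da67fb9bfaad2810339d70163da4a53ceacec5df61a734c0078a695708b))))
(.node (nat_lit 13) (.node (nat_lit 12) (.leaf (nat_lit 0xbd6873277446e87485f30b72fdbc5390429a5605eb39ff6689d781ba808397e9d0b35e543633c0229ecbdb8d2a61970c))
(.leaf (nat_lit 0x6d02a3d8818f1fb16f895a54d124e17d9c4359778ef33b1cae5060fc2a849a7cb0b6e33ee2401127d2fadf9d58a1a74d)))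
(.node (nat_lit 14) (.leaf (nat_lit 0x3c4837933490fb4443a1a37b9997b62562300217ea317e7fe35c632fcb059fa94609df5cb41bd5298cae4e21eba5b50e))
(.leaf (nat_lit 0xb94a4e1cbe0dd89d3f7e7290175b3d882b58fa5763cfc4c1917726bd912a815c32c5b0161ab339ee1237e914836a878f))))))
(.node (nat_lit 23) (.node (nat_lit 19) (.node (nat_lit 17) (.node (nat_lit 16) (.leaf (nat_lit 0x77b36afb2b4e90a98b27a804447e58a3c0ab7355375cc7b1061fe70d616c8da1a520fbc04b8f62d36cd3b956706e97d0))
(.leaf (nat_lit 0xd27b222c7339237bb58d44d56ffa6d398f42c9c99f92b297cc195d4836a87905be8451b003ce0deb1d89ecfbd912a811)))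
(.node (nat_lit 18) (.leaf (nat_lit 0x1e50b8bb43bd2b32dd05cd8066660d329e6ced4fd726a21fde39f5445c3cc4613a80341a5688adf9e4e4caf3db5ab852))
(.leaf (nat_lit 0xab9e9db7dfb4bd5a383cd120dccedc9bf97562ba510c76b0656f2c5e17e76ded82009908ccbcae38649088a0718d4153))))
(.node (nat_lit 21) (.node (nat_lit 20) (.leaf (nat_lit 0x7893c45b0c63ae9808ef79aae764436b366405243a94076d73dbd563ed133a8e172cdfccd4685f147f2c6e70b2b8a894))
(.leaf (nat_lit 0x9bae68cbef62cd3747dfb79a3cb342aab63c97f9c90788215f1d546706e97c401cd91486bccb4eb8890ad100d616c8d5)))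
(.node (nat_lit 22) (.leaf (nat_lit 0x707302527b2b8e197b20b04303ae2a60ea229b4cb68395ca793bbe6954bdcd945ddc614f6cda7cfc97f1d70110bed916))
(.leaf (nat_lit 0xf7cd72a2a9a5699b6c5ab4b3c69feefbbd3a88d330414bd154fe784c920b1a48ce16179f82775c09b1036012b7d87017)))))
(.node (nat_lit 27) (.node (nat_lit 25) (.node (nat_lit 24) (.leaf (nat_lit 0xc2f92181e69975c595f52f35c90cdfc518cf6f7dadb0aafaa7b24850d3061ffb858bea34a931035ce9a50429f9e002d8))
(.leaf (nat_lit 0xfb5f2d766a98817c94c7f92f5a7acef4d8b9d3b2e12accc94f7e8755118c21216e8f011b6a9a0271f78194340f038d99)))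
(.node (nat_lit 26) (.leaf (nat_lit 0x9ee8a995c6285de53e4f47db4323bcb38accd4be8ac6d8f68481fb5863cd245bff9156520fd0aa773060984c00479dda))
(.leaf (nat_lit 0xe9da0dd7fae985fedc7a624f125a8ce6de3d1f2ba0202de4db3fb401240e2910cb05a599c18f2c517c639c51af5624db))))
(.node (nat_lit 29) (.node (nat_lit 28) (.leaf (nat_lit 0xc64bd611a781a9884acb3febf53485c376c98d11be9d5d4d5393c0a7a1f633c89fbad98e7508170f4a02665b3b2c8e1c))
(.leaf (nat_lit 0x4df6d06430606282b1523d0eb2116f5484b69063e7c96bb8f8c011f47ef7362af3fe973c9705de1350aa6a6b4be89e5d)))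
(.node (nat_lit 30) (.leaf (nat_lit 0xb22b940987260daa6d40e1634fdd3f9cbd47af8355c3e6c658033987627a3df93cbca0735f295da92644a20c48dfb45e))
(.leaf (nat_lit 0xe6877bf2bfe7c1b34212a47779898beb21fee2d39a19c3d202ff62da42ae40904c0e0c57865d54b19585a632334f455f)))))))
(.node (nat_lit 47) (.node (nat_lit 39) (.node (nat_lit 35) (.node (nat_lit 33) (.node (nat_lit 32) (.leaf (nat_lit 0xa4ed2760295d644b3d5626df2adbb5507fcbf0ce505b2140c06e0dc48dfb463ceb4935e407e726a2f0daa9e87627a3e0))
(.leaf (nat_lit 0x60c1e5a6c9f56d60b903865720d2dd7349aea0ef4613b0d56908ad78acf2481dea4767c98fa53ff0f170af181393ebe1)))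
(.node (nat_lit 34) (.leaf (nat_lit 0x45a789ce4bd5cae3d9a84e7a743808df0d961b18e8e0137533f85f1eba5b53b700626b65f574904c2fb428e2fcb059e2))
(.leaf (nat_lit 0x36a9baafcd54585e586a83c9802747efe2f233d88402546f192b4e2334f45775f865e841c5cfe7a43c1bb1fda42ae423))))
(.node (nat_lit 37) (.node (nat_lit 36) (.leaf (nat_lit 0xe187073a2bbe42f3280c20365ea97b2e7e9436cad946619b3c5a7c2638755887b96812a04ddd32f44552b73ddfc7fc24))
(.leaf (nat_lit 0x8734b0684817a02c53fa4d7cb4abdb5891777cf032510ff99cd446b3b2c8e2b3a3d3d76299578166ea980dca7a1f6325)))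
(.node (nat_lit 38) (.leaf (nat_lit 0x2a31550d95de0aa4e19dfba2a716d2436bc8cc0454fb0d0ccb818fb4be89e4ef24d6c96b7160606bf62811df47ef7366))
(.leaf (nat_lit 0x83745ac1685ff2c7b6e897683483d91240f35ef57b7069bd96d4900b2b8a8aa3011f9d78fc0c636cbae915463ed133a7)))))
(.node (nat_lit 43) (.node (nat_lit 41) (.node (nat_lit 40) (.leaf (nat_lit 0x55b7ca5c10da95d416b058ae5308f34c6900488de9b71387f4bd89fb834fef4fefae70b56216447bc72682ac8ce51ea8))
(.leaf (nat_lit 0x68f260871c1bd54100e51a1dec6dd779206f6734cd088abe63290a72d390d262c3e3af07af65857ccfe78ec97d895ba9)))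
(.node (nat_lit 42) (.leaf (nat_lit 0x4058d3057644726570a5b3b49d67e4280cc6bf626cf6188bb47237c8ce51eaed52f1463f0b10da82b95d7a8fb834feea))
(.leaf (nat_lit 0x1830768df6d653f01a6193079445c9215dd03d3902e60e2e3742b3ecef52f8b751a1ca66b1e17086a9f5c7cea2b6fcab))))
(.node (nat_lit 45) (.node (nat_lit 44) (.leaf (nat_lit 0x111ddec61585fe768634faa6e8024182f5d20e42b9636a320becd397d895b9d1d933bacbf08c1b8f8d547e972d390d2c))
(.leaf (nat_lit 0x6462014ca42fd320cfe0061c1d1da05db78511fc4ca37094aa78e19acad6fe5eda34b3ba889552939bbecfd769f30d6d)))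
(.node (nat_lit 46) (.leaf (nat_lit 0xdde68f4af90af62241760ecda971004711a1db06e62d9eab1fc585335523a79608728f82c83cd3425b4e574e3f9dfb2e))
(.leaf (nat_lit 0x2dc60cd2e8ad4e41e65e52060dd0b9e2c369ea7d41de8da325f53f3db5ab8406bb79954442a3bdca02b3f92445c3cc6f))))))
(.node (nat_lit 55) (.node (nat_lit 51) (.node (nat_lit 49) (.node (nat_lit 48) (.leaf (nat_lit 0x94be189d4a7c7f173ad875d91bb3280a2a8e76ef8878d05380ad32110bed9033e62406d1179b2bd778e1fd66954bdcf0))
(.leaf (nat_lit 0xb82dcb2953f17060d18c0c1db91e696e774aa2b406ba6501153bd81393ebd72683c88f77fb9f5ad16d6f2178acf24b1)))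
(.node (nat_lit 50) (.leaf (nat_lit 0x5c81835502b38ad0771f6942e0901a65f12379b58b74f72c9a9170a94ff1ad8360eccbb9d114e44ba3bdbfea27d61f32))
(.leaf (nat_lit 0x30294b88ed32552e2a65818806873a1d4ee7e69f033dd00545bb2bddfc7fc3680d1174de2a6bbeb5a42ff642638755b3))))
(.node (nat_lit 53) (.node (nat_lit 52) (.leaf (nat_lit 0x260111bd2cd3b4edd799eeb9a016863e103121615d1c3efc2ebc1be3f9dfb0d0b696ac98f9990a55cf6242e335523a74))
(.leaf (nat_lit 0xd976466c58e1a7c21e7011cc0a00cf00a453250be5ec42e2e8e552e74cb3b78ab79985289da7f159db2bc3f36efa4f75)))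
(.node (nat_lit 54) (.leaf (nat_lit 0xafdfb5379e873c0f22bed5a1ccec94fe69dda6a612174c1a6c4a027e05e56714ec56424adeeecb310446e088de05c0f6))
(.leaf (nat_lit 0x3ac9eee0c1fb0118ab6e940a8fc53ed1cca5f58a05bf55434990aacd77a669386d59fdb123f2fa37018fe4990181d137)))))
(.node (nat_lit 59) (.node (nat_lit 57) (.node (nat_lit 56) (.leaf (nat_lit 0x4b0c64dc93c0ecbbdbad6f7ed4584acda4c441e07c8a3b5d3a6817d2a619732515a7f367e5f446dace8720cba8083978))
(.leaf (nat_lit 0x1554df2360112fa6d2390b27baf2b18c3859c01822ae4a65f1c5ded58a1a754f96f74e3233318fded1fb24dfc2a849b9)))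
(.node (nat_lit 58) (.leaf (nat_lit 0x8d355b180d893397e4b8a5293b3416141c178436b4fd29d8d42644f25760a2cf71fa21ed2ef2373f2e0d47badc99eaba))
(.leaf (nat_lit 0x7ca405006237e0d8f3d139ec8a45706d7581c5912ed6f502fd80daadc99eaa9b61c8e2fd1d2d8947e3393faf25760a3b))))
(.node (nat_lit 61) (.node (nat_lit 60) (.leaf (nat_lit 0x195c87e31709f5184083e0b71a077d9025544acd835e334e6e4e4ea2b6fc8798faa5b1da606d6c6853f86becef52fbc))
(.leaf (nat_lit 0xc0d97293552bbe6513060a52cf21e04581b6a3878a89627a147f1769f30d5ce84e478bb3b742fccdd3292d9acad6ffd)))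
(.node (nat_lit 62) (.leaf (nat_lit 0x760194154e43bd5c92c87183371840e369f805c0799196976c6d6a27d61f02e5eeb8d0db8f2b3bfb8ad4b2a94ff1afe))
(.leaf (nat_lit 0x2010c015b7f1b2bda09572f861e6511933cadd549ce9a1ceee242f36efa4f4ca097429ea5048e1c26a7c5b5e74cb3b7f)))))))),
  (nat_lit 0xf3dfbfefae78df6ae986d9125accaed6ad283a69718d4ce07de75c6c40c206f5624f03d046734c1ca2482c615a6585c0),
  (nat_lit 0x9e68a175c6185d75144d249141038e34d30c2cb2ca28a2492081c71861861851451441030c2082081041041000000000),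
  (nat_lit 0x1051020c41031031031020451021031431441440c40c21431441031440c20440c20450c51051030451030811440c2041),
  [nat_lit 1, nat_lit 2, nat_lit 3, nat_lit 4, nat_lit 5]⟩

theorem okA0 : rt.chkA 1 = true := by decide +kernel
theorem okA1 : rt.chkA 2 = true := by decide +kernel
theorem okA2 : rt.chkA 3 = true := by decide +kernel
theorem okA3 : rt.chkA 4 = true := by decide +kernel
theorem okA4 : rt.chkA 5 = true := by decide +kernel
theorem okB : rt.chkB = true := by decide +kernel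
noncomputable def tb : GT := ⟨rt, List.forall_mem_cons.2 ⟨okA0, List.forall_mem_cons.2 ⟨okA1, List.forall_mem_cons.2 ⟨okA2, List.forall_mem_cons.2 ⟨okA3, List.forall_mem_cons.2 ⟨okA4, fun _ h => absurd h List.not_mem_nil⟩⟩⟩⟩⟩, okB⟩

theorem hom_chk : homChk tb (nat_lit 0xf7bdf5ffe59440ef39bfab627b8db3d31cb082796ead8b29aa89a48c81840a171f49d69b6575533113cd2ca247143040) 64 S64E.tab = true := by decide +kernel

/-- the group -/
abbrev E : Type := El tb

noncomputable def a : E := El.of tb 1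
noncomputable def b : E := El.of tb 2
noncomputable def c : E := El.of tb 3
noncomputable def d : E := El.of tb 4
noncomputable def t : E := El.of tb 5

theorem card : Nat.card E = 64 := El.card tb

theorem eq_top {K : Subgroup E} (h0 : a ∈ K) (h1 : b ∈ K) (h2 : c ∈ K) (h3 : d ∈ K) (h4 : t ∈ K) : K = ⊤ :=
  El.eq_top (List.forall_mem_cons.2 ⟨h0, List.forall_mem_cons.2 ⟨h1, List.forall_mem_cons.2 ⟨h2, List.forall_mem_cons.2 ⟨h3, List.forall_mem_cons.2 ⟨h4, fun _ h => absurd h List.not_mem_nil⟩⟩⟩⟩⟩)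

/-- the relations -/
def Rel {G : Type*} [Group G] (a b c d t : G) : Prop :=
  a * a * a * a = 1 ∧
  b * b = a * a ∧
  c * c = a * a ∧
  d * d = a * a ∧
  a * b * a = b ∧
  c * d * c = d ∧
  a * c = c * a ∧
  a * d = d * a ∧
  b * c = c * b ∧
  b * d = d * b ∧
  t * t = 1 ∧
  t * a * t = a⁻¹ ∧
  t * c * t = c⁻¹ ∧
  t * b * t = (a * b)⁻¹ ∧
  t * d * t = (c * d)⁻¹

instance {G : Type*} [Group G] [DecidableEq G] (a b c d t : G) : Decidable (Rel a b c d t) := by
  unfold Rel; infer_instance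

theorem Rel.map {G G' : Type*} [Group G] [Group G'] (f : G →* G') {a b c d t : G}
    (h : Rel a b c d t) : Rel (f a) (f b) (f c) (f d) (f t) := by
  obtain ⟨h0, h1, h2, h3, h4, h5, h6, h7, h8, h9, h10, h11, h12, h13, h14⟩ := h
  exact ⟨by simpa only [map_mul, map_inv, map_one] using congrArg f h0,
    by simpa only [map_mul, map_inv, map_one] using congrArg f h1,
    by simpa only [map_mul, map_inv, map_one] using congrArg f h2,
    by simpa only [map_mul, map_inv, map_one] using congrArg f h3,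
    by simpa only [map_mul, map_inv, map_one] using congrArg f h4,
    by simpa only [map_mul, map_inv, map_one] using congrArg f h5,
    by simpa only [map_mul, map_inv, map_one] using congrArg f h6,
    by simpa only [map_mul, map_inv, map_one] using congrArg f h7,
    by simpa only [map_mul, map_inv, map_one] using congrArg f h8,
    by simpa only [map_mul, map_inv, map_one] using congrArg f h9,
    by simpa only [map_mul, map_inv, map_one] using congrArg f h10,
    by simpa only [map_mul, map_inv, map_one] using congrArg f h11,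
    by simpa only [map_mul, map_inv, map_one] using congrArg f h12,
    by simpa only [map_mul, map_inv, map_one] using congrArg f h13,
    by simpa only [map_mul, map_inv, map_one] using congrArg f h14⟩

theorem Rel.of_map {G G' : Type*} [Group G] [Group G'] {f : G →* G'} (hf : Function.Injective f)
    {a b c d t : G} (h : Rel (f a) (f b) (f c) (f d) (f t)) : Rel a b c d t := by
  obtain ⟨h0, h1, h2, h3, h4, h5, h6, h7, h8, h9, h10, h11, h12, h13, h14⟩ := h
  exact ⟨hf (by simpa only [map_mul, map_inv, map_one] using h0),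
    hf (by simpa only [map_mul, map_inv, map_one] using h1),
    hf (by simpa only [map_mul, map_inv, map_one] using h2),
    hf (by simpa only [map_mul, map_inv, map_one] using h3),
    hf (by simpa only [map_mul, map_inv, map_one] using h4),
    hf (by simpa only [map_mul, map_inv, map_one] using h5),
    hf (by simpa only [map_mul, map_inv, map_one] using h6),
    hf (by simpa only [map_mul, map_inv, map_one] using h7),
    hf (by simpa only [map_mul, map_inv, map_one] using h8),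
    hf (by simpa only [map_mul, map_inv, map_one] using h9),
    hf (by simpa only [map_mul, map_inv, map_one] using h10),
    hf (by simpa only [map_mul, map_inv, map_one] using h11),
    hf (by simpa only [map_mul, map_inv, map_one] using h12),
    hf (by simpa only [map_mul, map_inv, map_one] using h13),
    hf (by simpa only [map_mul, map_inv, map_one] using h14)⟩

theorem Rel.prod {G G' : Type*} [Group G] [Group G'] {a b c d t : G} {a' b' c' d' t' : G'}
    (h : Rel a b c d t) (k : Rel a' b' c' d' t') :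
    Rel (a, a') (b, b') (c, c') (d, d') (t, t') := by
  obtain ⟨h0, h1, h2, h3, h4, h5, h6, h7, h8, h9, h10, h11, h12, h13, h14⟩ := h
  obtain ⟨k0, k1, k2, k3, k4, k5, k6, k7, k8, k9, k10, k11, k12, k13, k14⟩ := k
  exact ⟨Prod.ext h0 k0, Prod.ext h1 k1, Prod.ext h2 k2, Prod.ext h3 k3, Prod.ext h4 k4, Prod.ext h5 k5, Prod.ext h6 k6, Prod.ext h7 k7, Prod.ext h8 k8, Prod.ext h9 k9, Prod.ext h10 k10, Prod.ext h11 k11, Prod.ext h12 k12, Prod.ext h13 k13, Prod.ext h14 k14⟩

theorem Rel.sat {G : Type*} [Group G] {a b c d t : G} (h : Rel a b c d t) :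
    ∀ R ∈ S64E.rels, ev (lt [a, b, c, d, t]) R = 1 := by
  obtain ⟨h0, h1, h2, h3, h4, h5, h6, h7, h8, h9, h10, h11, h12, h13, h14⟩ := h
  exact List.forall_mem_cons.2 ⟨show a * (a * (a * (a * 1))) = 1 by
      simpa only [mul_assoc, mul_inv_rev, inv_inv, inv_one, mul_one, one_mul] using mul_inv_eq_one.2 h0,
    List.forall_mem_cons.2 ⟨show b * (b * (a⁻¹ * (a⁻¹ * 1))) = 1 by
      simpa only [mul_assoc, mul_inv_rev, inv_inv, inv_one, mul_one, one_mul] using mul_inv_eq_one.2 h1,
    List.forall_mem_cons.2 ⟨show c * (c * (a⁻¹ * (a⁻¹ * 1))) = 1 by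
      simpa only [mul_assoc, mul_inv_rev, inv_inv, inv_one, mul_one, one_mul] using mul_inv_eq_one.2 h2,
    List.forall_mem_cons.2 ⟨show d * (d * (a⁻¹ * (a⁻¹ * 1))) = 1 by
      simpa only [mul_assoc, mul_inv_rev, inv_inv, inv_one, mul_one, one_mul] using mul_inv_eq_one.2 h3,
    List.forall_mem_cons.2 ⟨show a * (b * (a * (b⁻¹ * 1))) = 1 by
      simpa only [mul_assoc, mul_inv_rev, inv_inv, inv_one, mul_one, one_mul] using mul_inv_eq_one.2 h4,
    List.forall_mem_cons.2 ⟨show c * (d * (c * (d⁻¹ * 1))) = 1 by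
      simpa only [mul_assoc, mul_inv_rev, inv_inv, inv_one, mul_one, one_mul] using mul_inv_eq_one.2 h5,
    List.forall_mem_cons.2 ⟨show a * (c * (a⁻¹ * (c⁻¹ * 1))) = 1 by
      simpa only [mul_assoc, mul_inv_rev, inv_inv, inv_one, mul_one, one_mul] using mul_inv_eq_one.2 h6,
    List.forall_mem_cons.2 ⟨show a * (d * (a⁻¹ * (d⁻¹ * 1))) = 1 by
      simpa only [mul_assoc, mul_inv_rev, inv_inv, inv_one, mul_one, one_mul] using mul_inv_eq_one.2 h7,
    List.forall_mem_cons.2 ⟨show b * (c * (b⁻¹ * (c⁻¹ * 1))) = 1 by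
      simpa only [mul_assoc, mul_inv_rev, inv_inv, inv_one, mul_one, one_mul] using mul_inv_eq_one.2 h8,
    List.forall_mem_cons.2 ⟨show b * (d * (b⁻¹ * (d⁻¹ * 1))) = 1 by
      simpa only [mul_assoc, mul_inv_rev, inv_inv, inv_one, mul_one, one_mul] using mul_inv_eq_one.2 h9,
    List.forall_mem_cons.2 ⟨show t * (t * 1) = 1 by
      simpa only [mul_assoc, mul_inv_rev, inv_inv, inv_one, mul_one, one_mul] using mul_inv_eq_one.2 h10,
    List.forall_mem_cons.2 ⟨show t * (a * (t * (a * 1))) = 1 by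
      simpa only [mul_assoc, mul_inv_rev, inv_inv, inv_one, mul_one, one_mul] using mul_inv_eq_one.2 h11,
    List.forall_mem_cons.2 ⟨show t * (c * (t * (c * 1))) = 1 by
      simpa only [mul_assoc, mul_inv_rev, inv_inv, inv_one, mul_one, one_mul] using mul_inv_eq_one.2 h12,
    List.forall_mem_cons.2 ⟨show t * (b * (t * (a * (b * 1)))) = 1 by
      simpa only [mul_assoc, mul_inv_rev, inv_inv, inv_one, mul_one, one_mul] using mul_inv_eq_one.2 h13,
    List.forall_mem_cons.2 ⟨show t * (d * (t * (c * (d * 1)))) = 1 by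
      simpa only [mul_assoc, mul_inv_rev, inv_inv, inv_one, mul_one, one_mul] using mul_inv_eq_one.2 h14,
    fun _ h => absurd h List.not_mem_nil⟩⟩⟩⟩⟩⟩⟩⟩⟩⟩⟩⟩⟩⟩⟩

theorem Rel.of_sat {G : Type*} [Group G] {a b c d t : G}
    (h : ∀ R ∈ S64E.rels, ev (lt [a, b, c, d, t]) R = 1) : Rel a b c d t := by
  obtain ⟨h0, h⟩ := List.forall_mem_cons.1 h
  obtain ⟨h1, h⟩ := List.forall_mem_cons.1 h
  obtain ⟨h2, h⟩ := List.forall_mem_cons.1 h
  obtain ⟨h3, h⟩ := List.forall_mem_cons.1 h
  obtain ⟨h4, h⟩ := List.forall_mem_cons.1 h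
  obtain ⟨h5, h⟩ := List.forall_mem_cons.1 h
  obtain ⟨h6, h⟩ := List.forall_mem_cons.1 h
  obtain ⟨h7, h⟩ := List.forall_mem_cons.1 h
  obtain ⟨h8, h⟩ := List.forall_mem_cons.1 h
  obtain ⟨h9, h⟩ := List.forall_mem_cons.1 h
  obtain ⟨h10, h⟩ := List.forall_mem_cons.1 h
  obtain ⟨h11, h⟩ := List.forall_mem_cons.1 h
  obtain ⟨h12, h⟩ := List.forall_mem_cons.1 h
  obtain ⟨h13, h⟩ := List.forall_mem_cons.1 h
  obtain ⟨h14, h⟩ := List.forall_mem_cons.1 h
  exact ⟨mul_inv_eq_one.1 (by simpa only [mul_assoc, mul_inv_rev, inv_inv, inv_one, mul_one, one_mul] using (show a * (a * (a * (a * 1))) = 1 from h0)),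
    mul_inv_eq_one.1 (by simpa only [mul_assoc, mul_inv_rev, inv_inv, inv_one, mul_one, one_mul] using (show b * (b * (a⁻¹ * (a⁻¹ * 1))) = 1 from h1)),
    mul_inv_eq_one.1 (by simpa only [mul_assoc, mul_inv_rev, inv_inv, inv_one, mul_one, one_mul] using (show c * (c * (a⁻¹ * (a⁻¹ * 1))) = 1 from h2)),
    mul_inv_eq_one.1 (by simpa only [mul_assoc, mul_inv_rev, inv_inv, inv_one, mul_one, one_mul] using (show d * (d * (a⁻¹ * (a⁻¹ * 1))) = 1 from h3)),
    mul_inv_eq_one.1 (by simpa only [mul_assoc, mul_inv_rev, inv_inv, inv_one, mul_one, one_mul] using (show a * (b * (a * (b⁻¹ * 1))) = 1 from h4)),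
    mul_inv_eq_one.1 (by simpa only [mul_assoc, mul_inv_rev, inv_inv, inv_one, mul_one, one_mul] using (show c * (d * (c * (d⁻¹ * 1))) = 1 from h5)),
    mul_inv_eq_one.1 (by simpa only [mul_assoc, mul_inv_rev, inv_inv, inv_one, mul_one, one_mul] using (show a * (c * (a⁻¹ * (c⁻¹ * 1))) = 1 from h6)),
    mul_inv_eq_one.1 (by simpa only [mul_assoc, mul_inv_rev, inv_inv, inv_one, mul_one, one_mul] using (show a * (d * (a⁻¹ * (d⁻¹ * 1))) = 1 from h7)),
    mul_inv_eq_one.1 (by simpa only [mul_assoc, mul_inv_rev, inv_inv, inv_one, mul_one, one_mul] using (show b * (c * (b⁻¹ * (c⁻¹ * 1))) = 1 from h8)),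
    mul_inv_eq_one.1 (by simpa only [mul_assoc, mul_inv_rev, inv_inv, inv_one, mul_one, one_mul] using (show b * (d * (b⁻¹ * (d⁻¹ * 1))) = 1 from h9)),
    mul_inv_eq_one.1 (by simpa only [mul_assoc, mul_inv_rev, inv_inv, inv_one, mul_one, one_mul] using (show t * (t * 1) = 1 from h10)),
    mul_inv_eq_one.1 (by simpa only [mul_assoc, mul_inv_rev, inv_inv, inv_one, mul_one, one_mul] using (show t * (a * (t * (a * 1))) = 1 from h11)),
    mul_inv_eq_one.1 (by simpa only [mul_assoc, mul_inv_rev, inv_inv, inv_one, mul_one, one_mul] using (show t * (c * (t * (c * 1))) = 1 from h12)),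
    mul_inv_eq_one.1 (by simpa only [mul_assoc, mul_inv_rev, inv_inv, inv_one, mul_one, one_mul] using (show t * (b * (t * (a * (b * 1)))) = 1 from h13)),
    mul_inv_eq_one.1 (by simpa only [mul_assoc, mul_inv_rev, inv_inv, inv_one, mul_one, one_mul] using (show t * (d * (t * (c * (d * 1)))) = 1 from h14))⟩

theorem rel : Rel a b c d t := by decide +kernel

theorem model {G : Type*} [Group G] {a' b' c' d' t' : G} (h : Rel a' b' c' d' t') :
    ∃ φ : E →* G, φ a = a' ∧ φ b = b' ∧ φ c = c' ∧ φ d = d' ∧ φ t = t' := by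
  obtain ⟨pt, h0, -, hT⟩ := S64E.enum (lt [a', b', c', d', t']) (1 : G)
    (lt_icol _ _ (k := 5) rfl (by decide +kernel)) (lt_ge le_rfl) h.sat
    (fun _ h => absurd h List.not_mem_nil)
  obtain ⟨φ, hφ⟩ := exists_hom tb (l := [a', b', c', d', t']) rfl h0 hT hom_chk
  exact ⟨φ, by simpa only [List.cons.injEq, and_true] using
    (show [φ a, φ b, φ c, φ d, φ t] = [a', b', c', d', t'] from hφ)⟩

end H70.S64
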