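import Mathlib
import Cfsg.Agent.Base
import Cfsg.Agent.Lib.M12C.Tab

/-! a group of order 32 (helper70; generated) -/

set_option autoImplicit false
set_option maxRecDepth 100000

namespace H70.FN0E
open H54 (Tr force band)
open H18.TC
noncomputable def T_0 : Tr := (.node (nat_lit 1) (.node (nat_lit 0) (.leaf (nat_lit 0x11800029f8afe32b8cee76b1bad007000030b8bae14f83fe28c047c003800064bd8af26c093021f96b1011800015fc5ff1ed07f452c92b300a80001cd06b405fc1ff12e42b6000000040d4fb50ed833636dc0ff00380002ce0ab810e44f901fc8ba000000018ec5bb08f01bc04f40be)) (.leaf (nat_lit 0xa800068919a423e897a60949f9003800089ca2f25e9572559ea02600000008cc62b158a15a890b547b00380009bae0eb4e9d32749ee5af011800019f06fc20ec77b509d52801180003df4ffd46a51e988be52c003800044a50a90bf437d09f0e2a000000086b662d3ca8eaa7eacd7d))) (.node (nat_lit 2) (.leaf (nat_lit 0x380008e9692555c95f253d2462011800041d90f648d5175a98ea2400380009a8a86239dcef737dac61000000084ce733ae86b218299f7700000009d9a7e67c8dea393d5d78003800097de1777289c226de23f201180002de4bf934e0c787489e23011800061e98fa6a91ae495ce1f5))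 (.leaf (nat_lit 0x38000c08ef63b79ae66b586ee500a8000b49ebe7abaeb6bb2aada000a8000a2aa66a6fb5c6d92a1cee0038000be82fe079b1eec77baaa9011800065c19f06cbda6fa7a696700a8000a3a23685bc5771bc817f00038000a0b27acba82e207fc606b00a8000b086ce14bcd373a6913f4))))
noncomputable def J_0 : Tr := (.node (nat_lit 1) (.node (nat_lit 0) (.leaf (nat_lit 0x40040020000008000000000000000000100100000080000000000000001001000000200200100000040000000000000001001000800000000000000000000000004004000000000000000300100000000000000000000000000)) (.leaf (nat_lit 0x10010008000002000000800400000080080000000000000000000000800800000200200000020020000004004002000001800000000080080040000010000000000000000000400500100000000000000000000001001))) (.node (nat_lit 2) (.leaf (nat_lit 0x10014004004000800800400000300200000000000008004005001000800000000000000000010010000004002000000000600200000080080000008008010001001000800000600000000020020010000004004004)) (.leaf (nat_lit 0x40010014004006000000000e0020010000000000000001c0040020000008000000002000800a0020000004004002000001800c004000000800e0020010000004000000000000000100100180000000028008004000001))))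
noncomputable def F_0 : Tr := (.node (nat_lit 2) (.node (nat_lit 0) (.leaf (nat_lit 0xd7e36c3e8beefc83b78a36490bcea290dcc480a1)) (.node (nat_lit 1) (.leaf (nat_lit 0xf56f1b7ddb5f13951facd1644c40749bc2d32002)) (.leaf (nat_lit 0xcd25383bec6a91ee74fb2eaf825855885eb024c3)))) (.node (nat_lit 3) (.leaf (nat_lit 0xcd25383bec6a91ee74fb2eaf825855885eb024c3)) (.node (nat_lit 4) (.leaf (nat_lit 0xe62bf7de7ed27acca0c5db5d418ad20c6005a8e4)) (.leaf (nat_lit 0xe62bf7de7ed27acca0c5db5d418ad20c6005a8e4)))))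
noncomputable def T : Tr := T_0
noncomputable def J : Tr := J_0
noncomputable def F : Tr := F_0
noncomputable def row (u : ℕ) : ℕ := Nat.land (Nat.shiftRight (force (Nat.shiftRight u (nat_lit 3)) T.get) (Nat.mul (Nat.land u (nat_lit 7)) (nat_lit 112))) (nat_lit 0xffffffffffffffffffffffffffff)
noncomputable def jrow (u : ℕ) : ℕ := Nat.land (Nat.shiftRight (force (Nat.shiftRight u (nat_lit 3)) J.get) (Nat.mul (Nat.land u (nat_lit 7)) (nat_lit 91))) (nat_lit 0x7ffffffffffffffffffffff)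
noncomputable def fget (k fx : ℕ) : ℕ := F.get (Nat.add k fx)
noncomputable def wt0 : LT := (.node (nat_lit 1) (.node (nat_lit 0) (.leaf 3 0 [nat_lit 42, nat_lit 14, nat_lit 28])
(.leaf 3 2 [nat_lit 28, nat_lit 14, nat_lit 42]))
(.node (nat_lit 3) (.node (nat_lit 2) (.leaf 1 0 [nat_lit 14, nat_lit 14, nat_lit 14, nat_lit 14, nat_lit 14, nat_lit 14, nat_lit 14])
(.leaf 5 2 [nat_lit 56, nat_lit 0, nat_lit 0, nat_lit 0, nat_lit 0, nat_lit 0, nat_lit 70]))
(.leaf 0 0 [])))
noncomputable def wt1 : LT := (.node (nat_lit 3) (.node (nat_lit 1) (.node (nat_lit 0) (.leaf 5 5 [nat_lit 0, nat_lit 0, nat_lit 0, nat_lit 70, nat_lit 14, nat_lit 56, nat_lit 0])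
(.leaf 5 0 [nat_lit 70, nat_lit 14, nat_lit 56, nat_lit 0, nat_lit 0, nat_lit 0, nat_lit 0]))
(.node (nat_lit 2) (.leaf 5 4 [nat_lit 0, nat_lit 0, nat_lit 0, nat_lit 0, nat_lit 70, nat_lit 14, nat_lit 56])
(.leaf 5 7 [nat_lit 0, nat_lit 70, nat_lit 14, nat_lit 56, nat_lit 0, nat_lit 0, nat_lit 0])))
(.leaf 0 0 []))
noncomputable def wt2 : LT := (.node (nat_lit 0) (.leaf 9 0 [nat_lit 42])
(.node (nat_lit 1) (.leaf 3 1 [nat_lit 14, nat_lit 28, nat_lit 14])
(.node (nat_lit 2) (.leaf 11 3 [nat_lit 70, nat_lit 42, nat_lit 70])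
(.leaf 0 0 []))))
noncomputable def wt3 : LT := (.node (nat_lit 0) (.leaf 3 3 [nat_lit 14, nat_lit 42, nat_lit 14])
(.leaf 0 0 []))
noncomputable def wt4 : LT := (.node (nat_lit 0) (.leaf 7 0 [nat_lit 70])
(.node (nat_lit 1) (.leaf 5 1 [nat_lit 14, nat_lit 56, nat_lit 0, nat_lit 0, nat_lit 0, nat_lit 0, nat_lit 0])
(.node (nat_lit 2) (.leaf 11 0 [nat_lit 42, nat_lit 70, nat_lit 42])
(.leaf 0 0 []))))
noncomputable def wt5 : LT := (.node (nat_lit 0) (.leaf 5 3 [nat_lit 0, nat_lit 0, nat_lit 0, nat_lit 0, nat_lit 0, nat_lit 70, nat_lit 14])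
(.leaf 0 0 []))
noncomputable def wt6 : LT := (.leaf 0 0 [])
noncomputable def sl : List (ℕ × ℕ × List ℕ × List ℕ) := []
/-- the inverse column -/
noncomputable def icol (x : ℕ) : ℕ := List.getD [nat_lit 1, nat_lit 0, nat_lit 3, nat_lit 2, nat_lit 5, nat_lit 4] x x
noncomputable def inv (x : ℕ) : ℕ := Nat.mul (icol (Nat.div x (nat_lit 14))) (nat_lit 14)
def cols : List ℕ := [nat_lit 84, nat_lit 0, nat_lit 14, nat_lit 28, nat_lit 42, nat_lit 56, nat_lit 70]
noncomputable def cl : CL := (.cons (nat_lit 0) (nat_lit 14) (nat_lit 0) (nat_lit 0) wt0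
(.cons (nat_lit 14) (nat_lit 0) (nat_lit 13) (nat_lit 1) wt1
(.cons (nat_lit 28) (nat_lit 42) (nat_lit 26) (nat_lit 2) wt2
(.cons (nat_lit 42) (nat_lit 28) (nat_lit 39) (nat_lit 3) wt3
(.cons (nat_lit 56) (nat_lit 70) (nat_lit 52) (nat_lit 4) wt4
(.cons (nat_lit 70) (nat_lit 56) (nat_lit 65) (nat_lit 5) wt5
.nil))))))
def rels : List (List ℕ) := [[0, 0, 0, 0, 0, 0, 0, 0],
[0, 3, 0, 2],
[1, 1, 1, 1, 1, 5, 0, 4],
[4, 4],
[2, 2],
[4, 2, 4, 2]]
def subs : List (List ℕ) := []
noncomputable def chk : ℕ → Bool := rowChk row jrow fget sl cols (nat_lit 32) (nat_lit 32) (nat_lit 16383) (nat_lit 63) (nat_lit 16384) (nat_lit 84) (nat_lit 98) (nat_lit 8191) (nat_lit 6) (nat_lit 63) (nat_lit 5) (nat_lit 31) cl (nat_lit 78) wt6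
theorem p0 : allB chk 5 0 = true := by decide +kernel
theorem all_chk : AllLt chk 32 := by
  have h := AllLt.zero chk
  have h := h.step 32 p0 (by decide +kernel)
  exact h
/-- column `x` of the final table -/
noncomputable def tab (x u : ℕ) : ℕ := ft fget (nat_lit 6) (nat_lit 63) (nat_lit 5) (nat_lit 31) (Nat.mul x (nat_lit 1)) u
theorem enum {G Ω : Type*} [Group G] [MulAction G Ω] (g : ℕ → G) (ω : Ω)
    (hinv : ∀ x, g (icol x) = (g x)⁻¹) (h1 : g 6 = 1)
    (hrels : ∀ R ∈ rels, ev g R = 1) (hsubs : ∀ S ∈ subs, ev g S • ω = ω) :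
    ∃ pt : ℕ → Ω, pt 0 = ω ∧ (∀ K : Subgroup G, (∀ x, g x ∈ K) → ∀ v, ∃ k ∈ K, pt v = k • ω) ∧
      ∀ x, x < 6 → ∀ u, u < 32 → tab x u < 32 ∧ g x • pt u = pt (tab x u) :=
  sound_scaled g ω row jrow fget sl inv icol cols (nat_lit 32) (nat_lit 32) (nat_lit 16383) (nat_lit 63) (nat_lit 16384) (nat_lit 84) (nat_lit 98) (nat_lit 8191) (nat_lit 6) (nat_lit 63) (nat_lit 5) (nat_lit 31) 6 cl (nat_lit 78) wt6 rels subs 14 (nat_lit 1) 6
    (fun _ => Nat.mul_div_cancel _ (by decide)) hinv h1 hrels hsubs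
    (by decide +kernel) (by decide +kernel) all_chk
end H70.FN0E

namespace H70.FN0
open H70.TM H18.TC Subgroup

noncomputable def rt : RT := ⟨nat_lit 32, nat_lit 5, nat_lit 31,
  (.node (nat_lit 15) (.node (nat_lit 7) (.node (nat_lit 3) (.node (nat_lit 1) (.node (nat_lit 0) (.leaf (nat_lit 0xffbbcdeb38bdab49ca307b9ac5a928398a418820))
(.leaf (nat_lit 0x35bd06c7f31ae9c46f00edf592d5927b84a49c81)))
(.node (nat_lit 2) (.leaf (nat_lit 0xd568f77e2c92bdd4df27e6cd825a638342b400a2))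
(.leaf (nat_lit 0xaea6e7fa0b54be9ed8f9df0a4c5e82885ac020c3))))
(.node (nat_lit 5) (.node (nat_lit 4) (.leaf (nat_lit 0x72ec0d60c84979093661f0e3f1533bedcf563d44))
(.leaf (nat_lit 0x6aaa736749413af1b982a4bf10fb17e6c169c165)))
(.node (nat_lit 6) (.leaf (nat_lit 0xcb5929ebd0612e13d639abd06fc96df117a4586))
(.leaf (nat_lit 0x8d39db9b19dd6de60fef835d352d090688590447)))))
(.node (nat_lit 11) (.node (nat_lit 9) (.node (nat_lit 8) (.leaf (nat_lit 0xf7d3be54e4b5f53a2a1173c2b64ba0c94d810da8))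
(.leaf (nat_lit 0xa4517ed805aecccf2dff6c04a98f87c13590c9c9)))
(.node (nat_lit 10) (.leaf (nat_lit 0xb95618cdd260a00de904b27063f3edf0df4cf6aa))
(.leaf (nat_lit 0xd9142fb1a3985e7b9925aa33a0762ea4a1ec72cb))))
(.node (nat_lit 13) (.node (nat_lit 12) (.leaf (nat_lit 0xe6243f2c22a35d9b17a6d00f54260f9aa3f26eec))
(.leaf (nat_lit 0x2dff10c3d41327b070884daa73696a73c72ee70d)))
(.node (nat_lit 14) (.leaf (nat_lit 0x26e3f13e9e0cd973f4a9456c0d194b6c243e632e))
(.leaf (nat_lit 0xc721e1ba7f6d176ca4dd06ae8a964c0c542d90ef))))))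
(.node (nat_lit 23) (.node (nat_lit 19) (.node (nat_lit 17) (.node (nat_lit 16) (.leaf (nat_lit 0xcf5f49359177955c235c39b69b107317d61b9410))
(.leaf (nat_lit 0x3a5d3505707fe5a202bbc979dbe0541f98db1911)))
(.node (nat_lit 18) (.leaf (nat_lit 0xb198d851ea58e28e5418bf485cefc1f89d33a752))
(.leaf (nat_lit 0xee472a2841f39b8a939a31c164a1f062ff12df73))))
(.node (nat_lit 21) (.node (nat_lit 20) (.leaf (nat_lit 0x49c4a9c86dfbc24d63752e517e81d15b3d035b94))
(.leaf (nat_lit 0x188a4c22fbc9c016c64a5b26e7c0dab27bcffa95)))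
(.node (nat_lit 22) (.leaf (nat_lit 0x90485ca777c00e277c6b54d8d83f46aa39d8d3d6))
(.leaf (nat_lit 0x537063f796223237f84c951618baa5d036984ff7)))))
(.node (nat_lit 27) (.node (nat_lit 25) (.node (nat_lit 24) (.leaf (nat_lit 0x7b2e8a90a0e9b715068df8a1e1ccfc4db3a5ba58))
(.leaf (nat_lit 0x84f69b1487e6aff58bce885f49301d4570653479)))
(.node (nat_lit 26) (.leaf (nat_lit 0x10cd8202dc3e50d0c15262e8f744b5bf53bf7e7a))
(.leaf (nat_lit 0x5bb3a073b52a712850331f942fb6c431ee87b23b))))
(.node (nat_lit 29) (.node (nat_lit 28) (.leaf (nat_lit 0x63cf546d3a3748a8cdb417e43f06f82e6c072e1c))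
(.leaf (nat_lit 0x9c0164dd06d70abfb1de0c472a0b79262a76a9fd)))
(.node (nat_lit 30) (.leaf (nat_lit 0x4002b60e4e8c045366f62613be1dbf54e8fd57be))
(.leaf (nat_lit 0x21ac5894f8446629ed7c13bcde43e9526eae93f))))))),
  (nat_lit 0xffba4de93835aaa6c6417b26e5d3283dcbc18a00),
  (nat_lit 0xad5ee7358b529494a0e7398a4210621042100000),
  (nat_lit 0x18823104231882310462084631042308c4118821),
  [nat_lit 1, nat_lit 2, nat_lit 3]⟩

theorem okA0 : rt.chkA 1 = true := by decide +kernel
theorem okA1 : rt.chkA 2 = true := by decide +kernel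
theorem okA2 : rt.chkA 3 = true := by decide +kernel
theorem okB : rt.chkB = true := by decide +kernel
noncomputable def tb : GT := ⟨rt, List.forall_mem_cons.2 ⟨okA0, List.forall_mem_cons.2 ⟨okA1, List.forall_mem_cons.2 ⟨okA2, fun _ h => absurd h List.not_mem_nil⟩⟩⟩, okB⟩

theorem hom_chk : homChk tb (nat_lit 0x9ffc8ef15b6eb34c5ec2aca307b98b49cc520c20) 32 FN0E.tab = true := by decide +kernel

/-- the group -/
abbrev E : Type := El tb

noncomputable def r : E := El.of tb 1
noncomputable def x : E := El.of tb 2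
noncomputable def y : E := El.of tb 3

theorem card : Nat.card E = 32 := El.card tb

theorem eq_top {K : Subgroup E} (h0 : r ∈ K) (h1 : x ∈ K) (h2 : y ∈ K) : K = ⊤ :=
  El.eq_top (List.forall_mem_cons.2 ⟨h0, List.forall_mem_cons.2 ⟨h1, List.forall_mem_cons.2 ⟨h2, fun _ h => absurd h List.not_mem_nil⟩⟩⟩)

/-- the relations -/
def Rel {G : Type*} [Group G] (r x y : G) : Prop :=
  r * r * r * r * (r * r * r * r) = 1 ∧
  x * r * x⁻¹ = r⁻¹ ∧
  y * r * y⁻¹ = r * (r * r * r * r) ∧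
  y * y = 1 ∧
  x * x = 1 ∧
  x * y * (x * y) = 1

instance {G : Type*} [Group G] [DecidableEq G] (r x y : G) : Decidable (Rel r x y) := by
  unfold Rel; infer_instance

theorem Rel.map {G G' : Type*} [Group G] [Group G'] (f : G →* G') {r x y : G}
    (h : Rel r x y) : Rel (f r) (f x) (f y) := by
  obtain ⟨h0, h1, h2, h3, h4, h5⟩ := h
  exact ⟨by simpa only [map_mul, map_inv, map_one] using congrArg f h0,
    by simpa only [map_mul, map_inv, map_one] using congrArg f h1,
    by simpa only [map_mul, map_inv, map_one] using congrArg f h2,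
    by simpa only [map_mul, map_inv, map_one] using congrArg f h3,
    by simpa only [map_mul, map_inv, map_one] using congrArg f h4,
    by simpa only [map_mul, map_inv, map_one] using congrArg f h5⟩

theorem Rel.of_map {G G' : Type*} [Group G] [Group G'] {f : G →* G'} (hf : Function.Injective f)
    {r x y : G} (h : Rel (f r) (f x) (f y)) : Rel r x y := by
  obtain ⟨h0, h1, h2, h3, h4, h5⟩ := h
  exact ⟨hf (by simpa only [map_mul, map_inv, map_one] using h0),
    hf (by simpa only [map_mul, map_inv, map_one] using h1),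
    hf (by simpa only [map_mul, map_inv, map_one] using h2),
    hf (by simpa only [map_mul, map_inv, map_one] using h3),
    hf (by simpa only [map_mul, map_inv, map_one] using h4),
    hf (by simpa only [map_mul, map_inv, map_one] using h5)⟩

theorem Rel.prod {G G' : Type*} [Group G] [Group G'] {r x y : G} {r' x' y' : G'}
    (h : Rel r x y) (k : Rel r' x' y') :
    Rel (r, r') (x, x') (y, y') := by
  obtain ⟨h0, h1, h2, h3, h4, h5⟩ := h
  obtain ⟨k0, k1, k2, k3, k4, k5⟩ := k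
  exact ⟨Prod.ext h0 k0, Prod.ext h1 k1, Prod.ext h2 k2, Prod.ext h3 k3, Prod.ext h4 k4, Prod.ext h5 k5⟩

theorem Rel.sat {G : Type*} [Group G] {r x y : G} (h : Rel r x y) :
    ∀ R ∈ FN0E.rels, ev (lt [r, x, y]) R = 1 := by
  obtain ⟨h0, h1, h2, h3, h4, h5⟩ := h
  exact List.forall_mem_cons.2 ⟨show r * (r * (r * (r * (r * (r * (r * (r * 1))))))) = 1 by
      simpa only [mul_assoc, mul_inv_rev, inv_inv, inv_one, mul_one, one_mul] using mul_inv_eq_one.2 h0,
    List.forall_mem_cons.2 ⟨show x * (r * (x⁻¹ * (r * 1))) = 1 by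
      simpa only [mul_assoc, mul_inv_rev, inv_inv, inv_one, mul_one, one_mul] using mul_inv_eq_one.2 h1,
    List.forall_mem_cons.2 ⟨show y * (r * (y⁻¹ * (r⁻¹ * (r⁻¹ * (r⁻¹ * (r⁻¹ * (r⁻¹ * 1))))))) = 1 by
      simpa only [mul_assoc, mul_inv_rev, inv_inv, inv_one, mul_one, one_mul] using mul_inv_eq_one.2 h2,
    List.forall_mem_cons.2 ⟨show y * (y * 1) = 1 by
      simpa only [mul_assoc, mul_inv_rev, inv_inv, inv_one, mul_one, one_mul] using mul_inv_eq_one.2 h3,
    List.forall_mem_cons.2 ⟨show x * (x * 1) = 1 by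
      simpa only [mul_assoc, mul_inv_rev, inv_inv, inv_one, mul_one, one_mul] using mul_inv_eq_one.2 h4,
    List.forall_mem_cons.2 ⟨show x * (y * (x * (y * 1))) = 1 by
      simpa only [mul_assoc, mul_inv_rev, inv_inv, inv_one, mul_one, one_mul] using mul_inv_eq_one.2 h5,
    fun _ h => absurd h List.not_mem_nil⟩⟩⟩⟩⟩⟩

theorem Rel.of_sat {G : Type*} [Group G] {r x y : G}
    (h : ∀ R ∈ FN0E.rels, ev (lt [r, x, y]) R = 1) : Rel r x y := by
  obtain ⟨h0, h⟩ := List.forall_mem_cons.1 h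
  obtain ⟨h1, h⟩ := List.forall_mem_cons.1 h
  obtain ⟨h2, h⟩ := List.forall_mem_cons.1 h
  obtain ⟨h3, h⟩ := List.forall_mem_cons.1 h
  obtain ⟨h4, h⟩ := List.forall_mem_cons.1 h
  obtain ⟨h5, h⟩ := List.forall_mem_cons.1 h
  exact ⟨mul_inv_eq_one.1 (by simpa only [mul_assoc, mul_inv_rev, inv_inv, inv_one, mul_one, one_mul] using (show r * (r * (r * (r * (r * (r * (r * (r * 1))))))) = 1 from h0)),
    mul_inv_eq_one.1 (by simpa only [mul_assoc, mul_inv_rev, inv_inv, inv_one, mul_one, one_mul] using (show x * (r * (x⁻¹ * (r * 1))) = 1 from h1)),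
    mul_inv_eq_one.1 (by simpa only [mul_assoc, mul_inv_rev, inv_inv, inv_one, mul_one, one_mul] using (show y * (r * (y⁻¹ * (r⁻¹ * (r⁻¹ * (r⁻¹ * (r⁻¹ * (r⁻¹ * 1))))))) = 1 from h2)),
    mul_inv_eq_one.1 (by simpa only [mul_assoc, mul_inv_rev, inv_inv, inv_one, mul_one, one_mul] using (show y * (y * 1) = 1 from h3)),
    mul_inv_eq_one.1 (by simpa only [mul_assoc, mul_inv_rev, inv_inv, inv_one, mul_one, one_mul] using (show x * (x * 1) = 1 from h4)),
    mul_inv_eq_one.1 (by simpa only [mul_assoc, mul_inv_rev, inv_inv, inv_one, mul_one, one_mul] using (show x * (y * (x * (y * 1))) = 1 from h5))⟩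

theorem rel : Rel r x y := by decide +kernel

theorem model {G : Type*} [Group G] {r' x' y' : G} (h : Rel r' x' y') :
    ∃ φ : E →* G, φ r = r' ∧ φ x = x' ∧ φ y = y' := by
  obtain ⟨pt, h0, -, hT⟩ := FN0E.enum (lt [r', x', y']) (1 : G)
    (lt_icol _ _ (k := 3) rfl (by decide +kernel)) (lt_ge le_rfl) h.sat
    (fun _ h => absurd h List.not_mem_nil)
  obtain ⟨φ, hφ⟩ := exists_hom tb (l := [r', x', y']) rfl h0 hT hom_chk
  exact ⟨φ, by simpa only [List.cons.injEq, and_true] using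
    (show [φ r, φ x, φ y] = [r', x', y'] from hφ)⟩

end H70.FN0
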