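import Mathlib
import Cfsg.Agent.Base
import Cfsg.Agent.Lib.M12C.Tab

/-! a group of order 32 (helper70; generated) -/

set_option autoImplicit false
set_option maxRecDepth 100000

namespace H70.FN1E
open H54 (Tr force band)
open H18.TC
noncomputable def T_0 : Tr := (.node (nat_lit 1) (.node (nat_lit 0) (.leaf (nat_lit 0xa8000a49e9e707f90e81aac27c00380008aa62e936a88eb21f89ac01180001dfc7ff60c2b2f48b662e0070000b0bed2f30c43ff14dc5b300a80005ec173005fcbb10ae0334000000054c957218cc3b43ad40ff00380005ad963612dc23801fc8b9000000020e87ba10ec1bc04f40be)) (.leaf (nat_lit 0x1180005bf177c6e917fa78998a200380007091c642df0bfb2bb102800a800056f54fd518da6288a5b24003800066899e228b05fd15ec72b00380004e8d3e30df4a6c0bf0d2a007000093965653cacdea3ea0e7d011800057f967ea69dda6749242500700007a99ee642a047e32a84fb))) (.node (nat_lit 2) (.leaf (nat_lit 0x9eba7ee44e10773fc4f7500a80008ce62798586f609cba1f20000000bf82f2038d4d7933d0c77000000081860e124e4ef51bcc678003800046b526d2ad09f325e4b3100e00004ab116c64893238e951fa0038000a0a2768999a8a797ea6e90038000b3eebfbabeab64a99eca3))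 (.leaf (nat_lit 0xbbab02abea6e65b78ad67000000084ae0ab91961a97f8df66003800068cd9736ac98ed61c2e2000a800050d13744bb54b2b1be021003800072c5bf1aebdb706bc9cf6000000096d6535ba824a18fda36d00a80007cdde7775da6ae7e85df000a8000a8e28f8a1ba976b682aaf))))
noncomputable def J_0 : Tr := (.node (nat_lit 1) (.node (nat_lit 0) (.leaf (nat_lit 0x50010008000002000000000400000180080000010010008000000000000000000000000040040000000000000001001000000000000000000040000000004004000000000000000100100000000000000000000000000)) (.leaf (nat_lit 0x40040020000020000000000000000400200180080000000000014004008000000000000000100000060020000000000002001001c00400000000080040010010000008001001000800000000000000000000010004004000002))) (.node (nat_lit 2) (.leaf (nat_lit 0x60000010006002000000000a00200100000040000010000000004002800800000200100000080030010000000002000000c0040000000004004000000000000c000000001800400100100200000020030008006002000)) (.leaf (nat_lit 0x400000000100060020000000000002000001c0040000000018000003001000000000000280080000040000000000006000000c0040060000000000000000000c00400000000140040000000008000000002800800c000000))))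
noncomputable def F_0 : Tr := (.node (nat_lit 2) (.node (nat_lit 0) (.leaf (nat_lit 0xc67fe4c9f053507716dcedf74a8b441ce2c580c1)) (.node (nat_lit 1) (.leaf (nat_lit 0xef1f06a7df7456c368b8ccec41df75a06483a802)) (.leaf (nat_lit 0xd5a4d7fa2947cca6731b293a29d721bd20072ce3)))) (.node (nat_lit 3) (.leaf (nat_lit 0xb69b287d313f9465f725d8f93153170d5ee03104)) (.node (nat_lit 4) (.leaf (nat_lit 0xad18b7290789bfe94ee41ec5de6839c58107b525)) (.leaf (nat_lit 0xad18b7290789bfe94ee41ec5de6839c58107b525)))))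
noncomputable def T : Tr := T_0
noncomputable def J : Tr := J_0
noncomputable def F : Tr := F_0
noncomputable def row (u : ℕ) : ℕ := Nat.land (Nat.shiftRight (force (Nat.shiftRight u (nat_lit 3)) T.get) (Nat.mul (Nat.land u (nat_lit 7)) (nat_lit 112))) (nat_lit 0xffffffffffffffffffffffffffff)
noncomputable def jrow (u : ℕ) : ℕ := Nat.land (Nat.shiftRight (force (Nat.shiftRight u (nat_lit 3)) J.get) (Nat.mul (Nat.land u (nat_lit 7)) (nat_lit 91))) (nat_lit 0x7ffffffffffffffffffffff)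
noncomputable def fget (k fx : ℕ) : ℕ := F.get (Nat.add k fx)
noncomputable def wt0 : LT := (.node (nat_lit 3) (.node (nat_lit 0) (.leaf 3 0 [nat_lit 42, nat_lit 14, nat_lit 28])
(.node (nat_lit 1) (.leaf 3 2 [nat_lit 28, nat_lit 14, nat_lit 42])
(.node (nat_lit 2) (.leaf 5 2 [nat_lit 56, nat_lit 0, nat_lit 0, nat_lit 0, nat_lit 0, nat_lit 0, nat_lit 70])
(.leaf 1 0 [nat_lit 14, nat_lit 14, nat_lit 14, nat_lit 14, nat_lit 14, nat_lit 14, nat_lit 14]))))
(.leaf 0 0 []))
noncomputable def wt1 : LT := (.node (nat_lit 2) (.node (nat_lit 0) (.leaf 9 5 [nat_lit 0, nat_lit 42, nat_lit 42, nat_lit 0, nat_lit 0])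
(.node (nat_lit 1) (.leaf 9 4 [nat_lit 0, nat_lit 0, nat_lit 42, nat_lit 42, nat_lit 0])
(.leaf 9 3 [nat_lit 0, nat_lit 0, nat_lit 0, nat_lit 42, nat_lit 42])))
(.leaf 0 0 []))
noncomputable def wt2 : LT := (.node (nat_lit 0) (.leaf 3 1 [nat_lit 14, nat_lit 28, nat_lit 14])
(.node (nat_lit 2) (.node (nat_lit 1) (.leaf 9 2 [nat_lit 0, nat_lit 0, nat_lit 0, nat_lit 0, nat_lit 42])
(.leaf 9 1 [nat_lit 42, nat_lit 0, nat_lit 0, nat_lit 0, nat_lit 0]))
(.node (nat_lit 3) (.leaf 11 3 [nat_lit 70, nat_lit 42, nat_lit 70])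
(.leaf 0 0 []))))
noncomputable def wt3 : LT := (.node (nat_lit 0) (.leaf 3 3 [nat_lit 14, nat_lit 42, nat_lit 14])
(.leaf 0 0 []))
noncomputable def wt4 : LT := (.node (nat_lit 0) (.leaf 7 0 [nat_lit 70])
(.node (nat_lit 1) (.leaf 11 0 [nat_lit 42, nat_lit 70, nat_lit 42])
(.node (nat_lit 2) (.leaf 5 1 [nat_lit 14, nat_lit 56, nat_lit 0, nat_lit 0, nat_lit 0, nat_lit 0, nat_lit 0])
(.leaf 0 0 []))))
noncomputable def wt5 : LT := (.node (nat_lit 0) (.leaf 5 3 [nat_lit 0, nat_lit 0, nat_lit 0, nat_lit 0, nat_lit 0, nat_lit 70, nat_lit 14])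
(.leaf 0 0 []))
noncomputable def wt6 : LT := (.leaf 0 0 [])
noncomputable def sl : List (ℕ × ℕ × List ℕ × List ℕ) := []
/-- the inverse column -/
noncomputable def icol (x : ℕ) : ℕ := List.getD [nat_lit 1, nat_lit 0, nat_lit 3, nat_lit 2, nat_lit 5, nat_lit 4] x x
noncomputable def inv (x : ℕ) : ℕ := Nat.mul (icol (Nat.div x (nat_lit 14))) (nat_lit 14)
def cols : List ℕ := [nat_lit 84, nat_lit 0, nat_lit 14, nat_lit 28, nat_lit 42, nat_lit 56, nat_lit 70]
noncomputable def cl : CL := (.cons (nat_lit 0) (nat_lit 14) (nat_lit 0) (nat_lit 0) wt0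
(.cons (nat_lit 14) (nat_lit 0) (nat_lit 13) (nat_lit 1) wt1
(.cons (nat_lit 28) (nat_lit 42) (nat_lit 26) (nat_lit 2) wt2
(.cons (nat_lit 42) (nat_lit 28) (nat_lit 39) (nat_lit 3) wt3
(.cons (nat_lit 56) (nat_lit 70) (nat_lit 52) (nat_lit 4) wt4
(.cons (nat_lit 70) (nat_lit 56) (nat_lit 65) (nat_lit 5) wt5
.nil))))))
def rels : List (List ℕ) := [[0, 0, 0, 0, 0, 0, 0, 0],
[0, 3, 0, 2],
[1, 1, 1, 1, 1, 5, 0, 4],
[4, 4],
[1, 1, 1, 1, 2, 2],
[4, 2, 4, 2]]
def subs : List (List ℕ) := []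
noncomputable def chk : ℕ → Bool := rowChk row jrow fget sl cols (nat_lit 32) (nat_lit 32) (nat_lit 16383) (nat_lit 63) (nat_lit 16384) (nat_lit 84) (nat_lit 98) (nat_lit 8191) (nat_lit 6) (nat_lit 63) (nat_lit 5) (nat_lit 31) cl (nat_lit 78) wt6
theorem p0 : allB chk 5 0 = true := by decide +kernel
theorem all_chk : AllLt chk 32 := by
  have h := AllLt.zero chk
  have h := h.step 32 p0 (by decide +kernel)
  exact h
/-- column `x` of the final table -/
noncomputable def tab (x u : ℕ) : ℕ := ft fget (nat_lit 6) (nat_lit 63) (nat_lit 5) (nat_lit 31) (Nat.mul x (nat_lit 1)) u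
theorem enum {G Ω : Type*} [Group G] [MulAction G Ω] (g : ℕ → G) (ω : Ω)
    (hinv : ∀ x, g (icol x) = (g x)⁻¹) (h1 : g 6 = 1)
    (hrels : ∀ R ∈ rels, ev g R = 1) (hsubs : ∀ S ∈ subs, ev g S • ω = ω) :
    ∃ pt : ℕ → Ω, pt 0 = ω ∧ (∀ K : Subgroup G, (∀ x, g x ∈ K) → ∀ v, ∃ k ∈ K, pt v = k • ω) ∧
      ∀ x, x < 6 → ∀ u, u < 32 → tab x u < 32 ∧ g x • pt u = pt (tab x u) :=
  sound_scaled g ω row jrow fget sl inv icol cols (nat_lit 32) (nat_lit 32) (nat_lit 16383) (nat_lit 63) (nat_lit 16384) (nat_lit 84) (nat_lit 98) (nat_lit 8191) (nat_lit 6) (nat_lit 63) (nat_lit 5) (nat_lit 31) 6 cl (nat_lit 78) wt6 rels subs 14 (nat_lit 1) 6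
    (fun _ => Nat.mul_div_cancel _ (by decide)) hinv h1 hrels hsubs
    (by decide +kernel) (by decide +kernel) all_chk
end H70.FN1E

namespace H70.FN1
open H70.TM H18.TC Subgroup

noncomputable def rt : RT := ⟨nat_lit 32, nat_lit 5, nat_lit 31,
  (.node (nat_lit 15) (.node (nat_lit 7) (.node (nat_lit 3) (.node (nat_lit 1) (.node (nat_lit 0) (.leaf (nat_lit 0xffbbcdeb38bdab49ca307b9ac5a928398a418820))
(.leaf (nat_lit 0x561697c6de9b1bf272bd70a8a3aef9c44c51c81)))
(.node (nat_lit 2) (.leaf (nat_lit 0x3863774e9fca41c22b66f7758b4075649ed5a0a2))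
(.leaf (nat_lit 0xe4a7f6c597c2167efb4551379abc56a060e024c3))))
(.node (nat_lit 5) (.node (nat_lit 4) (.leaf (nat_lit 0xe16648145845b2adc74fd84fdf3baf64e874d84))
(.leaf (nat_lit 0x100c951d7a8cbee08e969ddf5e773e26d18831a5)))
(.node (nat_lit 6) (.leaf (nat_lit 0x1aca8f701b986ed909958fe163930aee9397d1c6))
(.leaf (nat_lit 0x9933de7b601dc3663a51ac3ed32d5842745a3c47)))))
(.node (nat_lit 11) (.node (nat_lit 9) (.node (nat_lit 8) (.leaf (nat_lit 0x61779e9387a0c576c1d20c67f49960c2bdab55e8))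
(.leaf (nat_lit 0xa1b58274fc6087f73da194e374140bcf95bada09)))
(.node (nat_lit 10) (.leaf (nat_lit 0xb27c02e51d6be93857e273243c68e6d917c0de2a))
(.leaf (nat_lit 0xba887d6f19fd6cc8866f835d407909e14dd10e4b))))
(.node (nat_lit 13) (.node (nat_lit 12) (.leaf (nat_lit 0x23691b85c25e4a9c755b018fa95a1fa8e6fe790c))
(.leaf (nat_lit 0x2fed218a0f36f4a0657c3a51e75e330d195e930d)))
(.node (nat_lit 14) (.leaf (nat_lit 0x35ea110df02eb7e5e007e212a6fe71932962772e))
(.leaf (nat_lit 0x40a43832d3da8fd2af89267c0bc6816babf3634f))))))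
(.node (nat_lit 23) (.node (nat_lit 19) (.node (nat_lit 17) (.node (nat_lit 16) (.leaf (nat_lit 0x48c227d2b1d7b84300e8ee14bfcd92736d72e770))
(.leaf (nat_lit 0x5504fad832f13a549d18c81669b1ae87ee3d6f91)))
(.node (nat_lit 18) (.leaf (nat_lit 0x5d9f50dc4e2173a52300d9cc9637f08cc74f73b2))
(.leaf (nat_lit 0xf3070b56415748647139c2c058d1cd7dfe2de8f3))))
(.node (nat_lit 21) (.node (nat_lit 20) (.leaf (nat_lit 0xeb993fc9a3060c8c93da5979b0d5f7b0a303a934))
(.leaf (nat_lit 0xc3dd48b6ece2d19d1baa2ec871cac2fc033483d5)))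
(.node (nat_lit 22) (.leaf (nat_lit 0xcc1ac9bbf438138d949e36bbc106a3bbe5142d56))
(.leaf (nat_lit 0xdc7ed6427641d40e68a44fb3d788341d5d2c1977)))))
(.node (nat_lit 27) (.node (nat_lit 25) (.node (nat_lit 24) (.leaf (nat_lit 0x6eb9bc97a8b51e3fc60e14993524c702c9eb86b8))
(.leaf (nat_lit 0x76cfac1889ab202bcded18691f20bc583aafcad9)))
(.node (nat_lit 26) (.leaf (nat_lit 0x79d2a5a0de93a70152d760ea1ee7642f3008b7fa))
(.leaf (nat_lit 0x8711e024aa0b62f1b2bfa0ad22635d31f2b9bafb))))
(.node (nat_lit 29) (.node (nat_lit 28) (.leaf (nat_lit 0x8f7043ab4b17e55a3433b3eee283d94a3666407c))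
(.leaf (nat_lit 0x9640542fc67cdc1b7c4cbd470d1c9b563896c69d)))
(.node (nat_lit 30) (.leaf (nat_lit 0xaa14b36124741917dae36d022cef85d740797e7e))
(.leaf (nat_lit 0xd4eeea3e354f3cb3ecdd42b0480e4c159a1c941f))))))),
  (nat_lit 0x97aad90c7a58576c1d26466f5f128c67da1d7e0),
  (nat_lit 0xc3dce6b58c4a107398c52908418c421042100000),
  (nat_lit 0x108411886208c430882310c411046208c4118821),
  [nat_lit 1, nat_lit 2, nat_lit 3]⟩

theorem okA0 : rt.chkA 1 = true := by decide +kernel
theorem okA1 : rt.chkA 2 = true := by decide +kernel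
theorem okA2 : rt.chkA 3 = true := by decide +kernel
theorem okB : rt.chkB = true := by decide +kernel
noncomputable def tb : GT := ⟨rt, List.forall_mem_cons.2 ⟨okA0, List.forall_mem_cons.2 ⟨okA1, List.forall_mem_cons.2 ⟨okA2, fun _ h => absurd h List.not_mem_nil⟩⟩⟩, okB⟩

theorem hom_chk : homChk tb (nat_lit 0x123edf2a4ceec9cae758bda93845ee5a4e628c20) 32 FN1E.tab = true := by decide +kernel

/-- the group -/
abbrev E : Type := El tb

noncomputable def r : E := El.of tb 1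
noncomputable def x : E := El.of tb 2
noncomputable def y : E := El.of tb 3

theorem card : Nat.card E = 32 := El.card tb

theorem eq_top {K : Subgroup E} (h0 : r ∈ K) (h1 : x ∈ K) (h2 : y ∈ K) : K = ⊤ :=
  El.eq_top (List.forall_mem_cons.2 ⟨h0, List.forall_mem_cons.2 ⟨h1, List.forall_mem_cons.2 ⟨h2, fun _ h => absurd h List.not_mem_nil⟩⟩⟩)

/-- the relations -/
def Rel {G : Type*} [Group G] (r x y : G) : Prop :=
  r * r * r * r * (r * r * r * r) = 1 ∧
  x * r * x⁻¹ = r⁻¹ ∧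
  y * r * y⁻¹ = r * (r * r * r * r) ∧
  y * y = 1 ∧
  x * x = r * r * r * r ∧
  x * y * (x * y) = 1

instance {G : Type*} [Group G] [DecidableEq G] (r x y : G) : Decidable (Rel r x y) := by
  unfold Rel; infer_instance

theorem Rel.map {G G' : Type*} [Group G] [Group G'] (f : G →* G') {r x y : G}
    (h : Rel r x y) : Rel (f r) (f x) (f y) := by
  obtain ⟨h0, h1, h2, h3, h4, h5⟩ := h
  exact ⟨by simpa only [map_mul, map_inv, map_one] using congrArg f h0,
    by simpa only [map_mul, map_inv, map_one] using congrArg f h1,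
    by simpa only [map_mul, map_inv, map_one] using congrArg f h2,
    by simpa only [map_mul, map_inv, map_one] using congrArg f h3,
    by simpa only [map_mul, map_inv, map_one] using congrArg f h4,
    by simpa only [map_mul, map_inv, map_one] using congrArg f h5⟩

theorem Rel.of_map {G G' : Type*} [Group G] [Group G'] {f : G →* G'} (hf : Function.Injective f)
    {r x y : G} (h : Rel (f r) (f x) (f y)) : Rel r x y := by
  obtain ⟨h0, h1, h2, h3, h4, h5⟩ := h
  exact ⟨hf (by simpa only [map_mul, map_inv, map_one] using h0),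
    hf (by simpa only [map_mul, map_inv, map_one] using h1),
    hf (by simpa only [map_mul, map_inv, map_one] using h2),
    hf (by simpa only [map_mul, map_inv, map_one] using h3),
    hf (by simpa only [map_mul, map_inv, map_one] using h4),
    hf (by simpa only [map_mul, map_inv, map_one] using h5)⟩

theorem Rel.prod {G G' : Type*} [Group G] [Group G'] {r x y : G} {r' x' y' : G'}
    (h : Rel r x y) (k : Rel r' x' y') :
    Rel (r, r') (x, x') (y, y') := by
  obtain ⟨h0, h1, h2, h3, h4, h5⟩ := h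
  obtain ⟨k0, k1, k2, k3, k4, k5⟩ := k
  exact ⟨Prod.ext h0 k0, Prod.ext h1 k1, Prod.ext h2 k2, Prod.ext h3 k3, Prod.ext h4 k4, Prod.ext h5 k5⟩

theorem Rel.sat {G : Type*} [Group G] {r x y : G} (h : Rel r x y) :
    ∀ R ∈ FN1E.rels, ev (lt [r, x, y]) R = 1 := by
  obtain ⟨h0, h1, h2, h3, h4, h5⟩ := h
  exact List.forall_mem_cons.2 ⟨show r * (r * (r * (r * (r * (r * (r * (r * 1))))))) = 1 by
      simpa only [mul_assoc, mul_inv_rev, inv_inv, inv_one, mul_one, one_mul] using mul_inv_eq_one.2 h0,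
    List.forall_mem_cons.2 ⟨show x * (r * (x⁻¹ * (r * 1))) = 1 by
      simpa only [mul_assoc, mul_inv_rev, inv_inv, inv_one, mul_one, one_mul] using mul_inv_eq_one.2 h1,
    List.forall_mem_cons.2 ⟨show y * (r * (y⁻¹ * (r⁻¹ * (r⁻¹ * (r⁻¹ * (r⁻¹ * (r⁻¹ * 1))))))) = 1 by
      simpa only [mul_assoc, mul_inv_rev, inv_inv, inv_one, mul_one, one_mul] using mul_inv_eq_one.2 h2,
    List.forall_mem_cons.2 ⟨show y * (y * 1) = 1 by
      simpa only [mul_assoc, mul_inv_rev, inv_inv, inv_one, mul_one, one_mul] using mul_inv_eq_one.2 h3,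
    List.forall_mem_cons.2 ⟨show x * (x * (r⁻¹ * (r⁻¹ * (r⁻¹ * (r⁻¹ * 1))))) = 1 by
      simpa only [mul_assoc, mul_inv_rev, inv_inv, inv_one, mul_one, one_mul] using mul_inv_eq_one.2 h4,
    List.forall_mem_cons.2 ⟨show x * (y * (x * (y * 1))) = 1 by
      simpa only [mul_assoc, mul_inv_rev, inv_inv, inv_one, mul_one, one_mul] using mul_inv_eq_one.2 h5,
    fun _ h => absurd h List.not_mem_nil⟩⟩⟩⟩⟩⟩

theorem Rel.of_sat {G : Type*} [Group G] {r x y : G}
    (h : ∀ R ∈ FN1E.rels, ev (lt [r, x, y]) R = 1) : Rel r x y := by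
  obtain ⟨h0, h⟩ := List.forall_mem_cons.1 h
  obtain ⟨h1, h⟩ := List.forall_mem_cons.1 h
  obtain ⟨h2, h⟩ := List.forall_mem_cons.1 h
  obtain ⟨h3, h⟩ := List.forall_mem_cons.1 h
  obtain ⟨h4, h⟩ := List.forall_mem_cons.1 h
  obtain ⟨h5, h⟩ := List.forall_mem_cons.1 h
  exact ⟨mul_inv_eq_one.1 (by simpa only [mul_assoc, mul_inv_rev, inv_inv, inv_one, mul_one, one_mul] using (show r * (r * (r * (r * (r * (r * (r * (r * 1))))))) = 1 from h0)),
    mul_inv_eq_one.1 (by simpa only [mul_assoc, mul_inv_rev, inv_inv, inv_one, mul_one, one_mul] using (show x * (r * (x⁻¹ * (r * 1))) = 1 from h1)),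
    mul_inv_eq_one.1 (by simpa only [mul_assoc, mul_inv_rev, inv_inv, inv_one, mul_one, one_mul] using (show y * (r * (y⁻¹ * (r⁻¹ * (r⁻¹ * (r⁻¹ * (r⁻¹ * (r⁻¹ * 1))))))) = 1 from h2)),
    mul_inv_eq_one.1 (by simpa only [mul_assoc, mul_inv_rev, inv_inv, inv_one, mul_one, one_mul] using (show y * (y * 1) = 1 from h3)),
    mul_inv_eq_one.1 (by simpa only [mul_assoc, mul_inv_rev, inv_inv, inv_one, mul_one, one_mul] using (show x * (x * (r⁻¹ * (r⁻¹ * (r⁻¹ * (r⁻¹ * 1))))) = 1 from h4)),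
    mul_inv_eq_one.1 (by simpa only [mul_assoc, mul_inv_rev, inv_inv, inv_one, mul_one, one_mul] using (show x * (y * (x * (y * 1))) = 1 from h5))⟩

theorem rel : Rel r x y := by decide +kernel

theorem model {G : Type*} [Group G] {r' x' y' : G} (h : Rel r' x' y') :
    ∃ φ : E →* G, φ r = r' ∧ φ x = x' ∧ φ y = y' := by
  obtain ⟨pt, h0, -, hT⟩ := FN1E.enum (lt [r', x', y']) (1 : G)
    (lt_icol _ _ (k := 3) rfl (by decide +kernel)) (lt_ge le_rfl) h.sat
    (fun _ h => absurd h List.not_mem_nil)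
  obtain ⟨φ, hφ⟩ := exists_hom tb (l := [r', x', y']) rfl h0 hT hom_chk
  exact ⟨φ, by simpa only [List.cons.injEq, and_true] using
    (show [φ r, φ x, φ y] = [r', x', y'] from hφ)⟩

end H70.FN1
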