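import Mathlib
import Cfsg.Agent.Base
import Cfsg.Agent.Lib.M12C.Tab

/-! a group of order 64 (helper70; generated) -/

set_option autoImplicit false
set_option maxRecDepth 100000

namespace H70.FP0E
open H54 (Tr force band)
open H18.TC
noncomputable def T_0 : Tr := (.node (nat_lit 3) (.node (nat_lit 1) (.node (nat_lit 0) (.leaf (nat_lit 0x11000004dc826641c328eb9414fc07fe1234023f000220000243311d988cce456711b4089a041fcc13f003b8000021fe11ff0cf6865b428d4136a53358a1b000aa00000c3685db415fe0bff07b883fc54adc7b6f0019800003ce01ef00738835c405fe03ff04bc015d0000000002cb916bc8d8e66ef303ba019d09eea01ff00088000060ec2f76173b8b5dc10f009f8007f885e400000000093d045e818f60b7b023e00df004fa017e)) (.leaf (nat_lit 0x19800003ef81dfc1035073a835da1bed402a9716000aa00000ab5057a819f80dfc083d83becfcacac57003300000b6fa58fd34ac9a764bcb05d586b30967b400cc0000372c9ab64defa6bfd382d9b36d90cedee2000880000c8b4635a312d9856c0bfa06fd027e141740000000038ae1cb7140c6a2e3292e9457588bc4efd003b800005dfc2ffe18760c9b068be335f74b01018400ee000015760afb059fc2dfe1cb28ef95bec4c6e3)))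 (.node (nat_lit 2) (.leaf (nat_lit 0x19800007a9a3ecd2a2715b3843f222f968a788fe0006600005da8af74574dcb8ee5b67adf3d93f2c9500019800002ce214f10eb807fc025f413fa12b22a5480000000053772a1b978a2bed155a92a949aecca5fa00088000058ee2b7718fb0c5d851c829e413fd3557000ee00000b7d85fec31f41a7a0e3806dc0b4e482530000000014fd6a76b5cb4ae7a55caead5766b1a93ec00220000452a2255110bc875e3eab1f158f5f6ca67)) (.leaf (nat_lit 0x2a80001d1c4e662722339519d78eeac773a8ba7d800220000223390d9c93cc49662066907347fecd6f2002a80001cdc0e8606e2837541f396f6cb6f39b7fdc00cc0000512427b2146ea9ff55225283298eeecdee0000000004bf027781aaf8d77c54d8296c6a64893a800cc00001d2f8db7c76f037f81e3b8e3dda694f5cb003b800008df247f924709298498984b4c662a35fac00ee0000217090f8489f245f92aa715f3995dec7f3)))) (.node (nat_lit 5) (.node (nat_lit 4) (.leaf (nat_lit 0x880000c0b65f5b32ed19568b9e45df22df8365340066000035b99b7ccd4e468f2336d19f68e4b8e0c6003b80000c5e863f4326c19960d0b267597f219d12400ee00002f6c17f60c1e861f436b99bfcdef96d2ce003300000e6ea70f54ea427720ec9275496af61c764002200004c2225d10f494794a287a947d49fe8c4c5003b8000109a685d34377a1fbd268a95c5612830fd4006600001bb28e7946cc834e4197b0cfd87c9aed47))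 (.leaf (nat_lit 0x1c38ce3c66ef137389e180f240615fb077800cc00005f34aeba57ed6bbeb60212f3099d90e7e0000880001689eb34f59212c50953d6aaeb54753613000220000432f2157917a88b54416aa0f5503dac648003b8000111de89ef4569a314d1c828d4171633339800cc000040ab1fb591e828fc14229a0d4db4887ff0001980000feaa80d54922a5314f7de7cef65e71f7c40022000058212bd096b9eb54f56772b7b957e2cf4a))) (.node (nat_lit 6) (.leaf (nat_lit 0x19800013ec6a1e34f2e2737135889bc462e9b3944002200003c251dd29338899443a6e1d770e7b4d464003b80000ed9277c93c6e9e77542c6a3e367ebb4f94008800007de1beb0df180f4407b313e589eacaf75b001980000a69c55ce27269333495cc4be66c6936f0400cc00001fb40f3a09a984dcc213090585b3b03ddf003300000ac9852cc2bb414fa0b0ce54e7692db2d5800ee000059692cf4969aeb6575c34adda5df80d1e8)) (.node (nat_lit 7) (.leaf (nat_lit 0x3300001e38eee477a65be12de5a0f05079e2bbd3c0066000048a2a4f1520aa8ed5466a23751b6990143003b800015daeafd758692c7497aa2bfd17663b431000ee00007d25bed2df88efdc780633ff1a0382feda003b800012dba97dd4c64a692538909b48682136b5400cc00004a20a43052aac91d64b2f24b798abaf340000880001c6a0e15072f039381fe870043702cb89500066000077603c501fa86fcc375303ad81dbbeec42))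 (.leaf (nat_lit 0x22c8e90000000000000000000000000181f2c350))))))
noncomputable def J_0 : Tr := (.node (nat_lit 3) (.node (nat_lit 1) (.node (nat_lit 0) (.leaf (nat_lit 0x400000000100020020000008000000000000000000000080080000010010008004000000000000000000000000020020010000004000000000000000200000040040020000000000000001000000800000000040040000000000000000000000c00400000000000000000000000000000000)) (.leaf (nat_lit 0x4000001c0040020000000000000001800800400000400000000000008008000002000000000800400000040040000020000008000000000000000000000000040070010000000000001000000800000000040040010010008004000000000000c00000080080040040010000008006003))) (.node (nat_lit 2) (.leaf (nat_lit 0x200000140040020030020000000001000000e00200190148080000000010000005001000800000000000080000000020000000005001000000000000100000040070010008002002001000800000000000000000000010000000002000000000a00200000000000000000000002002003)) (.leaf (nat_lit 0x70010008000000004000000000000000080000020038008000000000001c004002000000406c00000000040040000020000008000000000000400000000080000000008008000001001000000800000200200000010010008004000000000000400000080080040040010000008000003))))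 (.node (nat_lit 5) (.node (nat_lit 4) (.leaf (nat_lit 0x100000040070010018000000001000000e00200100000000010010008004000000000000400000080080040040010000008000000000000200200000080000000000010000000000000000000200380080040010010008008002000001000000a00000000040000038008004000004)) (.leaf (nat_lit 0x20058008000001001000000800000200000000000000000000000001001c0040020000000000002000000800e00200000040040020010000000000000000000000100100000040000000010008000000000800000500100080000080000000000002000000800e002001))) (.node (nat_lit 6) (.leaf (nat_lit 0x2000001c00400200100100000000000008000002003800800800100100080080020000010000000000000000000100100100100020030000000002000001c0040020000000000001001000000400000000000080000008008000004000001000c00200080080040020000000000000000)) (.node (nat_lit 7) (.leaf (nat_lit 0x200200000080000040000010000000001000000e00200100200040010010008008002000001000000000080080040020000000000000000000400400200100000000000010000000001001000000800000200000040000010020000000002000c00400a00000000040020008008004000004))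 (.leaf (nat_lit 0x100000000000000000002002000))))))
noncomputable def F_0 : Tr := (.node (nat_lit 3) (.node (nat_lit 1) (.node (nat_lit 0) (.leaf (nat_lit 0xc3cee5abfafdb9b6a4fa0a5785fcf764f3b5cb9db19ba2b824d21157450c1efb458ec1189e849d88279c0d64d02c0181)) (.leaf (nat_lit 0xeb3e3ef629a0b25a1ab6793f5b7552e7bc4e3e3f344cbbf2b89308db5ad0c066d914d704aa97980e17dd5c15111ca002))) (.node (nat_lit 2) (.leaf (nat_lit 0xbebbb9de1f1fee371d65e616ffd52afac41136598cd8ae89e32d354c8cf11b016d6cfa294849e40a281a05754e00b1c3)) (.leaf (nat_lit 0xbebbb9de1f1fee371d65e616ffd52afac41136598cd8ae89e32d354c8cf11b016d6cfa294849e40a281a05754e00b1c3)))) (.node (nat_lit 5) (.node (nat_lit 4) (.leaf (nat_lit 0xd2ab78da97fc8fb8bfcb35e8754f6bb3eeb094d9cbdf541be59bca807786c513ee2455a154398291c4c169848038c204)) (.leaf (nat_lit 0xd2ab78da97fc8fb8bfcb35e8754f6bb3eeb094d9cbdf541be59bca807786c513ee2455a154398291c4c169848038c204))) (.node (nat_lit 6) (.leaf (nat_lit 0xe3aa348bebff735dbcc57cede56c21429abd90c2e72bbb1a7587f71e019ecae39120452b0d50a69630536d90123cd245))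 (.leaf (nat_lit 0xe3aa348bebff735dbcc57cede56c21429abd90c2e72bbb1a7587f71e019ecae39120452b0d50a69630536d90123cd245)))))
noncomputable def T : Tr := T_0
noncomputable def J : Tr := J_0
noncomputable def F : Tr := F_0
noncomputable def row (u : ℕ) : ℕ := Nat.land (Nat.shiftRight (force (Nat.shiftRight u (nat_lit 3)) T.get) (Nat.mul (Nat.land u (nat_lit 7)) (nat_lit 170))) (nat_lit 0x3ffffffffffffffffffffffffffffffffffffffffff)
noncomputable def jrow (u : ℕ) : ℕ := Nat.land (Nat.shiftRight (force (Nat.shiftRight u (nat_lit 3)) J.get) (Nat.mul (Nat.land u (nat_lit 7)) (nat_lit 117))) (nat_lit 0x1fffffffffffffffffffffffffffff)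
noncomputable def fget (k fx : ℕ) : ℕ := F.get (Nat.add k fx)
noncomputable def wt0 : LT := (.node (nat_lit 1) (.node (nat_lit 0) (.leaf 3 2 [nat_lit 34, nat_lit 17, nat_lit 51])
(.leaf 13 2 [nat_lit 102, nat_lit 0, nat_lit 68, nat_lit 119]))
(.node (nat_lit 3) (.node (nat_lit 2) (.leaf 5 2 [nat_lit 68, nat_lit 0, nat_lit 0, nat_lit 0, nat_lit 0, nat_lit 0, nat_lit 85])
(.leaf 3 0 [nat_lit 51, nat_lit 17, nat_lit 34]))
(.node (nat_lit 4) (.leaf 1 0 [nat_lit 17, nat_lit 17, nat_lit 17, nat_lit 17, nat_lit 17, nat_lit 17, nat_lit 17])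
(.leaf 0 0 []))))
noncomputable def wt1 : LT := (.node (nat_lit 3) (.node (nat_lit 1) (.node (nat_lit 0) (.leaf 13 4 [nat_lit 68, nat_lit 119, nat_lit 17, nat_lit 102])
(.leaf 5 5 [nat_lit 0, nat_lit 0, nat_lit 0, nat_lit 85, nat_lit 17, nat_lit 68, nat_lit 0]))
(.node (nat_lit 2) (.leaf 5 4 [nat_lit 0, nat_lit 0, nat_lit 0, nat_lit 0, nat_lit 85, nat_lit 17, nat_lit 68])
(.leaf 5 0 [nat_lit 85, nat_lit 17, nat_lit 68, nat_lit 0, nat_lit 0, nat_lit 0, nat_lit 0])))
(.node (nat_lit 4) (.leaf 5 7 [nat_lit 0, nat_lit 85, nat_lit 17, nat_lit 68, nat_lit 0, nat_lit 0, nat_lit 0])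
(.leaf 0 0 [])))
noncomputable def wt2 : LT := (.node (nat_lit 0) (.leaf 9 0 [nat_lit 51])
(.node (nat_lit 1) (.leaf 15 2 [nat_lit 102, nat_lit 34, nat_lit 68, nat_lit 119])
(.node (nat_lit 2) (.leaf 3 1 [nat_lit 17, nat_lit 34, nat_lit 17])
(.node (nat_lit 3) (.leaf 11 3 [nat_lit 85, nat_lit 51, nat_lit 85])
(.leaf 0 0 [])))))
noncomputable def wt3 : LT := (.node (nat_lit 1) (.node (nat_lit 0) (.leaf 3 3 [nat_lit 17, nat_lit 51, nat_lit 17])
(.leaf 15 4 [nat_lit 68, nat_lit 119, nat_lit 51, nat_lit 102]))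
(.leaf 0 0 []))
noncomputable def wt4 : LT := (.node (nat_lit 0) (.leaf 7 0 [nat_lit 85])
(.node (nat_lit 1) (.leaf 17 2 [nat_lit 102, nat_lit 68, nat_lit 119])
(.node (nat_lit 2) (.leaf 11 0 [nat_lit 51, nat_lit 85, nat_lit 51])
(.leaf 0 0 []))))
noncomputable def wt5 : LT := (.node (nat_lit 0) (.leaf 17 0 [nat_lit 119, nat_lit 85, nat_lit 102])
(.node (nat_lit 1) (.leaf 13 0 [nat_lit 119, nat_lit 17, nat_lit 102, nat_lit 0])
(.leaf 0 0 [])))
noncomputable def wt6 : LT := (.node (nat_lit 0) (.leaf 19 0 [nat_lit 119])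
(.node (nat_lit 3) (.node (nat_lit 1) (.leaf 15 1 [nat_lit 51, nat_lit 102, nat_lit 34, nat_lit 68])
(.node (nat_lit 2) (.leaf 17 1 [nat_lit 85, nat_lit 102, nat_lit 68])
(.leaf 13 1 [nat_lit 17, nat_lit 102, nat_lit 0, nat_lit 68])))
(.leaf 0 0 [])))
noncomputable def wt7 : LT := (.node (nat_lit 0) (.leaf 13 3 [nat_lit 0, nat_lit 68, nat_lit 119, nat_lit 17])
(.leaf 0 0 []))
noncomputable def wt8 : LT := (.node (nat_lit 0) (.leaf 5 3 [nat_lit 0, nat_lit 0, nat_lit 0, nat_lit 0, nat_lit 0, nat_lit 85, nat_lit 17, nat_lit 68])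
(.leaf 0 0 []))
noncomputable def sl : List (ℕ × ℕ × List ℕ × List ℕ) := []
/-- the inverse column -/
noncomputable def icol (x : ℕ) : ℕ := List.getD [nat_lit 1, nat_lit 0, nat_lit 3, nat_lit 2, nat_lit 5, nat_lit 4, nat_lit 7, nat_lit 6] x x
noncomputable def inv (x : ℕ) : ℕ := Nat.mul (icol (Nat.div x (nat_lit 17))) (nat_lit 17)
def cols : List ℕ := [nat_lit 136, nat_lit 0, nat_lit 17, nat_lit 34, nat_lit 51, nat_lit 68, nat_lit 85, nat_lit 102, nat_lit 119]
noncomputable def cl : CL := (.cons (nat_lit 0) (nat_lit 17) (nat_lit 0) (nat_lit 0) wt0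
(.cons (nat_lit 17) (nat_lit 0) (nat_lit 13) (nat_lit 1) wt1
(.cons (nat_lit 34) (nat_lit 51) (nat_lit 26) (nat_lit 2) wt2
(.cons (nat_lit 51) (nat_lit 34) (nat_lit 39) (nat_lit 3) wt3
(.cons (nat_lit 68) (nat_lit 85) (nat_lit 52) (nat_lit 4) wt4
(.cons (nat_lit 85) (nat_lit 68) (nat_lit 65) (nat_lit 5) wt5
(.cons (nat_lit 102) (nat_lit 119) (nat_lit 78) (nat_lit 6) wt6
(.cons (nat_lit 119) (nat_lit 102) (nat_lit 91) (nat_lit 7) wt7
.nil))))))))
def rels : List (List ℕ) := [[0, 0, 0, 0, 0, 0, 0, 0],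
[0, 3, 0, 2],
[1, 1, 1, 1, 1, 5, 0, 4],
[4, 4],
[2, 2],
[4, 2, 4, 2],
[5, 1, 7, 0, 6],
[5, 3, 7, 2, 6],
[5, 7, 4, 6],
[6, 6]]
def subs : List (List ℕ) := []
noncomputable def chk : ℕ → Bool := rowChk row jrow fget sl cols (nat_lit 64) (nat_lit 65) (nat_lit 131071) (nat_lit 127) (nat_lit 131072) (nat_lit 136) (nat_lit 153) (nat_lit 8191) (nat_lit 6) (nat_lit 63) (nat_lit 6) (nat_lit 63) cl (nat_lit 104) wt8
theorem p0 : allB chk 7 0 = true := by decide +kernel
theorem all_chk : AllLt chk 65 := by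
  have h := AllLt.zero chk
  have h := h.step 65 p0 (by decide +kernel)
  exact h
/-- column `x` of the final table -/
noncomputable def tab (x u : ℕ) : ℕ := ft fget (nat_lit 6) (nat_lit 63) (nat_lit 6) (nat_lit 63) (Nat.mul x (nat_lit 1)) u
theorem enum {G Ω : Type*} [Group G] [MulAction G Ω] (g : ℕ → G) (ω : Ω)
    (hinv : ∀ x, g (icol x) = (g x)⁻¹) (h1 : g 8 = 1)
    (hrels : ∀ R ∈ rels, ev g R = 1) (hsubs : ∀ S ∈ subs, ev g S • ω = ω) :
    ∃ pt : ℕ → Ω, pt 0 = ω ∧ (∀ K : Subgroup G, (∀ x, g x ∈ K) → ∀ v, ∃ k ∈ K, pt v = k • ω) ∧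
      ∀ x, x < 8 → ∀ u, u < 64 → tab x u < 64 ∧ g x • pt u = pt (tab x u) :=
  sound_scaled g ω row jrow fget sl inv icol cols (nat_lit 64) (nat_lit 65) (nat_lit 131071) (nat_lit 127) (nat_lit 131072) (nat_lit 136) (nat_lit 153) (nat_lit 8191) (nat_lit 6) (nat_lit 63) (nat_lit 6) (nat_lit 63) 7 cl (nat_lit 104) wt8 rels subs 17 (nat_lit 1) 8
    (fun _ => Nat.mul_div_cancel _ (by decide)) hinv h1 hrels hsubs
    (by decide +kernel) (by decide +kernel) all_chk
end H70.FP0E

namespace H70.FP0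
open H70.TM H18.TC Subgroup

noncomputable def rt : RT := ⟨nat_lit 64, nat_lit 6, nat_lit 63,
  (.node (nat_lit 31) (.node (nat_lit 15) (.node (nat_lit 7) (.node (nat_lit 3) (.node (nat_lit 1) (.node (nat_lit 0) (.leaf (nat_lit 0xffef7cefae78df6d74cf2c70beeb6caeaa689e69648e28607de75c6da6585d65544d24503ce34c2ca2481c61440c2040))
(.leaf (nat_lit 0x7088479bf2f5f55e7be0da1a51be84f187fe0d182ddf14f02aabf6a40d33ca73eeb2b1a592389279d65758240e309141)))
(.node (nat_lit 2) (.leaf (nat_lit 0xf73fee9618a8723c60f9ed595bc4e46d74b8750eecdb9eb43329f7ac9c08aaf387b691661152df34369850144f280182))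
(.leaf (nat_lit 0xcfdfa5bb9ea4cb5d9fff78d667baa86ad46c41df38c6188cd1c99e26bbd54f06065c5a672c81203c26ce05448d00a1c3))))
(.node (nat_lit 5) (.node (nat_lit 4) (.leaf (nat_lit 0xbbc97ecf47ddaef67aeda5a3dbfa67dd1b50b24f66c20322e5be097b2d544b1198157aa82870e108f7013954c034b204))
(.leaf (nat_lit 0xd974d645c7b984f2e6d62f80ba9fce1f3288306c3af68b1a7585157c1ef834391b13c0a0b77c6baafd329c9963499405)))
(.node (nat_lit 6) (.leaf (nat_lit 0xdd8e9443d371fce8a5a0be091eb84fb88333285d13735b590d75a348283e79d13c91b07bb36e69ca7c2abc09957da446))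
(.leaf (nat_lit 0x78e8817733f6f98eae904b2b189e4d955d3d02932aca35d60ad6754437ffdd02fba1a53ce31845726bd3c0a9c881b487)))))
(.node (nat_lit 11) (.node (nat_lit 9) (.node (nat_lit 8) (.leaf (nat_lit 0x24130e92e0999467f374343261ed00f94e7c36a8a9ad61633d1dafb44ebb6ac2bf9f757d9b08176f8d52c4ba0785c4c8))
(.leaf (nat_lit 0x87871b813c7edb7a3022ae749c7b2da72af5be598454bffb48d0fdf196976148d6e9f41138f78a88c033b851a4741089)))
(.node (nat_lit 10) (.leaf (nat_lit 0xfbfcfbf2286c7b18ccf5cdafc255f82531649a7ba8d7ae5f83743269b58eb59201a9149d3583f4100ad5187a4b08350a))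
(.leaf (nat_lit 0x97bbbff4c8102705a2f1b675c7e1667925dde28ce7bdfd3a85ab2bddc8c14761cea6d4e40060b90cdc94608a8a3c454b))))
(.node (nat_lit 13) (.node (nat_lit 12) (.leaf (nat_lit 0xe212206cbfed37954a73dde7d2663e03a18496f1f5a13c52ef646a67c50fb1acc2c907c37973b0909a6316eae205d58c))
(.leaf (nat_lit 0xee5f3dfdfd26699bf9babc31d73450ca9aa7a38f9d58c821e8991b737d86163515493b6c08102228b7872185c310f38d)))
(.node (nat_lit 14) (.leaf (nat_lit 0x6c7808e3b2aff14d3f9809f755c7c3f46ea512d8516b04b12e9d59a8de6eae80b343263e756313264d858cfb0189e5ce))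
(.leaf (nat_lit 0xf2eef3fa03276d6c21949bf68fd49d7054e692cfd06747f98aba1ac9ec47a7504846a5f80d42ba004dc654eb422cd60f))))))
(.node (nat_lit 23) (.node (nat_lit 19) (.node (nat_lit 17) (.node (nat_lit 16) (.leaf (nat_lit 0x572b271b6a8b4e4791e712016df7235b87574826bf87e100bf3b8f2859b588cb69387270ebda3c614ecd0d9837af4950))
(.leaf (nat_lit 0x8eab6f177ca2e84350c79cc2f12f5553e0d87c1661ff89099c81ce3069682cab2b3ee0344dcd5b5d681e75aef6a70991)))
(.node (nat_lit 18) (.leaf (nat_lit 0xd535f0a5e73a88b3ddda1f43ed1cc807f08e8145b9faca2b995198d07ba4100e0936528cab28dab597f741bf3116f9d2))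
(.leaf (nat_lit 0xbd2171a896df30a0a4660f04fedb873bb3c18558f49509f2e14606e48cdd0cd99e03e2e2a6b5b7476e9ab1cf705f5a13))))
(.node (nat_lit 21) (.node (nat_lit 20) (.leaf (nat_lit 0xc95e469fe123cc887cb0f91b05a88bece83f0927d77b6aaf013c3114a33d726365e091eea35e91dd05ad643758d2ba54))
(.leaf (nat_lit 0xad4d18a250d6b8783d40275c3b730afc187b3d3e85259a75352c705cb8bc6f803e99e2339ef7ed6ac8d1d84906e72a95)))
(.node (nat_lit 22) (.leaf (nat_lit 0xaa3c45bf8915233fdbb4e13c0992e280fee105f498377ca727ad3918c29cf657a6f80b87d684d0d9152c69d0d7c29ad6))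
(.leaf (nat_lit 0x6454a3b5b2748022b8bcc94dceaec122e2c7898c5ff27437906554e8efe600475c0fd3e145ac32a75e6ba1ef964f6b17)))))
(.node (nat_lit 27) (.node (nat_lit 25) (.node (nat_lit 24) (.leaf (nat_lit 0x6867d5b3c030ec133e9ca99e232802cc78ae2d7e526ef4761058d64cf8652640fd75c3bf419d2aae8c69d4de14eb7b58))
(.leaf (nat_lit 0x4f5da9c2ca0857df9a5d82fb0d613a7cdf3952044e3de726ae23211f4032ceede7fca9468e4a9dc520786d00adbc5259)))
(.node (nat_lit 26) (.leaf (nat_lit 0xea8debd2dd738dce196178a075491349e6f15bb40f38df65a4b2bfbb026a207daf84c985544c83e5f0bef1106c9c601a))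
(.leaf (nat_lit 0x8a47893178fdd72b163ade9f401a2a4776b667c74d60fcee14403e96fad3546c70e749e920b7028600ffed253898729b))))
(.node (nat_lit 29) (.node (nat_lit 28) (.leaf (nat_lit 0x31d25e8855bcbeb4230517fab0e9e9b5add9dbd900182bb35c3365fb5c92518c31d39a2a1ca6cf82113bfd3566e082dc))
(.leaf (nat_lit 0x21ce261f14c4aa8dd28765546a0cb566c42d4436fee7f2cac3d94d0299e3eb45c5606aef8b393b381f0f0967de24cb9d)))
(.node (nat_lit 30) (.leaf (nat_lit 0x8266dc852c2565a9f11e9d39a08411aabcafd7ee0350aeff4c013cf76dc51955a37fab2d04224b32236ecd761d90e3de))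
(.leaf (nat_lit 0xa3a634acdf532e2383dff71d8102330a104fed6531e2dd69963157c2e1c4909f807a630acaa559b1a4b647c6f91a7bdf)))))))
(.node (nat_lit 47) (.node (nat_lit 39) (.node (nat_lit 35) (.node (nat_lit 33) (.node (nat_lit 32) (.leaf (nat_lit 0x92238c24fcea13a6027bec907dd57d0f950df19076b178c5bb5a6dbe518ba2bfcade7d00713216e1b4714bb6a11e6c20))
(.leaf (nat_lit 0x74c062782ba90df18f265aecea453c134540f76399405597cefa91d7e60a9f2ecb6a8e4d6d21e399cb704ffde0238c61)))
(.node (nat_lit 34) (.leaf (nat_lit 0x9a01e170aed103450b6fc6a8e781a535f603fb522f9d2c13fd9b69dbd542437b8faece8424507175ea965f3c8c3a48e2))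
(.leaf (nat_lit 0xa56c17d667541eeedc4410fd3f628c842fe03ba4c601aae879fe746222dbf3e27894dcc8be74ac66d550de4105c6aca3))))
(.node (nat_lit 37) (.node (nat_lit 36) (.leaf (nat_lit 0x1db9b8230483a67693819515de1aefd90b11b44725d3b28bc7cf8036aa167f9157198cb532e77f04ef423e3e897a2ce4))
(.leaf (nat_lit 0x3cd10309561eb2da862e85c5a4adb79f5bf2ac901c4c83815386e4750479c52e9f8d665afe1f87cee9a2334c3df3b825)))
(.node (nat_lit 38) (.leaf (nat_lit 0x39e91d0635cdb6cc858b5606accdf6be89eaa4027deb33c25bef040d1431e5f4d255469987fe2e20794b2b0d1c6e0ee6))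
(.leaf (nat_lit 0x637a10535b4f5f8729ea33872747b1c2499314aaf38bd34367fecb092776860a912016d6e7eb25546b8402f33269ff27)))))
(.node (nat_lit 43) (.node (nat_lit 41) (.node (nat_lit 40) (.leaf (nat_lit 0x19a9ec56f4421666ea7d60487b9270c5de125cbcae33c004dbbfca3d3919821a6d1ce723d2543e518cc33758abdfaf68))
(.leaf (nat_lit 0xc6da994b2de1e4d1278fafca945f981bd015d07be2ce4e1b40e048814f2c3c2a1a2fb0df5ded894f031c9abbb5456769)))
(.node (nat_lit 42) (.leaf (nat_lit 0xc11a764eb6a0d000e859fecbf9794663c354e48d4cb9d99cb01387855f5008f9f72bf13a14965e4b189be32cefb6392a))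
(.leaf (nat_lit 0xe6cc9a7eadbfc5e92f55384c986e1715c263c2e9cb204fbc44f0b3ed66ed381d598a075260ddc0eb42bd9691e84140eb))))
(.node (nat_lit 45) (.node (nat_lit 44) (.leaf (nat_lit 0x52b428619a4a49d26dd301ce73a6d68e69054cfdfb8250cdd6ecc22d7e2f32246a0487b17fc9fd195fc013685acb9fac))
(.leaf (nat_lit 0x5a94755daacc7c302cc34b8ff53f14565106e8eda0ee675ea07201898fa728b4320b337949bbdc163849937fd9ab1e2d)))
(.node (nat_lit 46) (.leaf (nat_lit 0x34f2c20c83b7e174c7124b69140c5e9a3c1c26b2b2a9561406c6a841d4a1d918a0d5959bfb9fc6f659fad0cbf3efc7ee))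
(.leaf (nat_lit 0x5f6d515a8b0e63ef6b4d53ee030379d0497a18ca482dc79d6a182205f0f7ffbc90cc2f14c78b668c51e42672aa6526ef))))))
(.node (nat_lit 55) (.node (nat_lit 51) (.node (nat_lit 49) (.node (nat_lit 48) (.leaf (nat_lit 0xb718d2664e183bfcc9a883652af3e130bba21f4155132dd06f97fa52009efbc71df43ec1dac5e7d691a8ae60135916b0))
(.leaf (nat_lit 0x470593d9d98607bb9ea4703e2f50a088accc2395d40eb6ac734e9f5613c997d6e4f04fce650168bea627cb83528eddf1)))
(.node (nat_lit 50) (.leaf (nat_lit 0xd10af7ea967bc09775512822e189855db796c73a0a1c397db423eefe371104ebf632191318068d7f92fcfaa227b15132))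
(.leaf (nat_lit 0x228f10705a9854880dd46a5cdc09e16c5b7b22eba54195390de7b244e066d321bf68dc974ed8f3ea1fe62d6effdeb3))))
(.node (nat_lit 53) (.node (nat_lit 52) (.leaf (nat_lit 0xb3955f684f973e1200cb37a63273bf2a21cbbb01a392ad91f314935bb04de1bf4371d802ded62fa2b175a6527a510674))
(.leaf (nat_lit 0x159bed8e74011a5f324940b3371034e43f9f622a8729b264de084c3ba11aeffaecb8ff55c2647859721d7a82e9d93735)))
(.node (nat_lit 54) (.leaf (nat_lit 0x4af66ac509c753c9771462bf1230dfe80f74561b410896f8c8c8a023936bbb36a8ecbf9859da64c133a672c3d1d577b6))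
(.leaf (nat_lit 0x7e76b2e51bee59b9b61853219157524c97308ffb02040f3ea8a2fbcf17a91c8675822e17503ac4d3a3e5f6d390a18377)))))
(.node (nat_lit 59) (.node (nat_lit 57) (.node (nat_lit 56) (.leaf (nat_lit 0x49764396140450ad732f198ca2699d67a29a8d7bc7ee08f8e5f4312db30d3a493515df683b9b31c8f8a2f1e5b721ff8))
(.leaf (nat_lit 0x43453adc39450a01cdaee2788a807b2cc20acf161676966df704d28ff38099cf046e484f6911b59f25efabe79f56cdb9)))
(.node (nat_lit 58) (.leaf (nat_lit 0x9df1b9c80f1228c0446bb6e486c1ee3e0382fe3570991beaf965c5c7320375e94d27888bae95364374d9b7d734628d7a))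
(.leaf (nat_lit 0x10b3ca00e2329135c1378a914838dc77159e6da0b7b585461e8aec9e6162d6984cdafc09f7acd4fbc4397e067fba5d3b))))
(.node (nat_lit 61) (.node (nat_lit 60) (.leaf (nat_lit 0x2c434029855ca2ab543ec4d2442d7243667769b0de5ce2071a42789a7a7a8c5e74c70bebce2f41ffb76181f5be96e33c))
(.leaf (nat_lit 0x28300d2c651b9e9455090493b4fbebb19d9addc1091411c861d7a6e28a9f597d39c31d72b8cf0eeff92087a8e5fb38bd)))
(.node (nat_lit 62) (.leaf (nat_lit 0x800c43d4189411a582a7157a8b65aa2fd6bc9e35b48704e56671d92cb74c137fa5a3db7ee0948bb3e0c8b9c7cf7f87e))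
(.leaf (nat_lit 0xca08b3411eb75214e026a6d4c459b9308c97373da446518227c90a385ccbea822675c5ef1fb9597db34ea1dbbcfee7f)))))))),
  (nat_lit 0xcfef7cefa6388aab74fcec45beed48336a611e695c8f7a1051e6e47416795d255f4d64602f236b3ca26c9c6c040c2680),
  (nat_lit 0xba89659617dd71c6596175965944d349145041040f38d30c30b2892492482071861451451040c3082081041040000000),
  (nat_lit 0x1011030821040811010411030810810440c40c20410411030810440c20420411031030810811011030440c20440c2041),
  [nat_lit 1, nat_lit 2, nat_lit 3, nat_lit 4]⟩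

theorem okA0 : rt.chkA 1 = true := by decide +kernel
theorem okA1 : rt.chkA 2 = true := by decide +kernel
theorem okA2 : rt.chkA 3 = true := by decide +kernel
theorem okA3 : rt.chkA 4 = true := by decide +kernel
theorem okB : rt.chkB = true := by decide +kernel
noncomputable def tb : GT := ⟨rt, List.forall_mem_cons.2 ⟨okA0, List.forall_mem_cons.2 ⟨okA1, List.forall_mem_cons.2 ⟨okA2, List.forall_mem_cons.2 ⟨okA3, fun _ h => absurd h List.not_mem_nil⟩⟩⟩⟩, okB⟩

theorem hom_chk : homChk tb (nat_lit 0xf1fe5dffeabd9b6efae0ddcad74cd4332c6e470bed8ecae1a67a259028a079c6da6585d65534903ce2c9207185103040) 64 FP0E.tab = true := by decide +kernel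

/-- the group -/
abbrev E : Type := El tb

noncomputable def r : E := El.of tb 1
noncomputable def x : E := El.of tb 2
noncomputable def y : E := El.of tb 3
noncomputable def w : E := El.of tb 4

theorem card : Nat.card E = 64 := El.card tb

theorem eq_top {K : Subgroup E} (h0 : r ∈ K) (h1 : x ∈ K) (h2 : y ∈ K) (h3 : w ∈ K) : K = ⊤ :=
  El.eq_top (List.forall_mem_cons.2 ⟨h0, List.forall_mem_cons.2 ⟨h1, List.forall_mem_cons.2 ⟨h2, List.forall_mem_cons.2 ⟨h3, fun _ h => absurd h List.not_mem_nil⟩⟩⟩⟩)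

/-- the relations -/
def Rel {G : Type*} [Group G] (r x y w : G) : Prop :=
  r * r * r * r * (r * r * r * r) = 1 ∧
  x * r * x⁻¹ = r⁻¹ ∧
  y * r * y⁻¹ = r * (r * r * r * r) ∧
  y * y = 1 ∧
  x * x = 1 ∧
  x * y * (x * y) = 1 ∧
  w * r * w⁻¹ = y * r ∧
  w * x * w⁻¹ = y * x ∧
  w * y * w⁻¹ = y ∧
  w * w = 1

instance {G : Type*} [Group G] [DecidableEq G] (r x y w : G) : Decidable (Rel r x y w) := by
  unfold Rel; infer_instance

theorem Rel.map {G G' : Type*} [Group G] [Group G'] (f : G →* G') {r x y w : G}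
    (h : Rel r x y w) : Rel (f r) (f x) (f y) (f w) := by
  obtain ⟨h0, h1, h2, h3, h4, h5, h6, h7, h8, h9⟩ := h
  exact ⟨by simpa only [map_mul, map_inv, map_one] using congrArg f h0,
    by simpa only [map_mul, map_inv, map_one] using congrArg f h1,
    by simpa only [map_mul, map_inv, map_one] using congrArg f h2,
    by simpa only [map_mul, map_inv, map_one] using congrArg f h3,
    by simpa only [map_mul, map_inv, map_one] using congrArg f h4,
    by simpa only [map_mul, map_inv, map_one] using congrArg f h5,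
    by simpa only [map_mul, map_inv, map_one] using congrArg f h6,
    by simpa only [map_mul, map_inv, map_one] using congrArg f h7,
    by simpa only [map_mul, map_inv, map_one] using congrArg f h8,
    by simpa only [map_mul, map_inv, map_one] using congrArg f h9⟩

theorem Rel.of_map {G G' : Type*} [Group G] [Group G'] {f : G →* G'} (hf : Function.Injective f)
    {r x y w : G} (h : Rel (f r) (f x) (f y) (f w)) : Rel r x y w := by
  obtain ⟨h0, h1, h2, h3, h4, h5, h6, h7, h8, h9⟩ := h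
  exact ⟨hf (by simpa only [map_mul, map_inv, map_one] using h0),
    hf (by simpa only [map_mul, map_inv, map_one] using h1),
    hf (by simpa only [map_mul, map_inv, map_one] using h2),
    hf (by simpa only [map_mul, map_inv, map_one] using h3),
    hf (by simpa only [map_mul, map_inv, map_one] using h4),
    hf (by simpa only [map_mul, map_inv, map_one] using h5),
    hf (by simpa only [map_mul, map_inv, map_one] using h6),
    hf (by simpa only [map_mul, map_inv, map_one] using h7),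
    hf (by simpa only [map_mul, map_inv, map_one] using h8),
    hf (by simpa only [map_mul, map_inv, map_one] using h9)⟩

theorem Rel.prod {G G' : Type*} [Group G] [Group G'] {r x y w : G} {r' x' y' w' : G'}
    (h : Rel r x y w) (k : Rel r' x' y' w') :
    Rel (r, r') (x, x') (y, y') (w, w') := by
  obtain ⟨h0, h1, h2, h3, h4, h5, h6, h7, h8, h9⟩ := h
  obtain ⟨k0, k1, k2, k3, k4, k5, k6, k7, k8, k9⟩ := k
  exact ⟨Prod.ext h0 k0, Prod.ext h1 k1, Prod.ext h2 k2, Prod.ext h3 k3, Prod.ext h4 k4, Prod.ext h5 k5, Prod.ext h6 k6, Prod.ext h7 k7, Prod.ext h8 k8, Prod.ext h9 k9⟩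

theorem Rel.sat {G : Type*} [Group G] {r x y w : G} (h : Rel r x y w) :
    ∀ R ∈ FP0E.rels, ev (lt [r, x, y, w]) R = 1 := by
  obtain ⟨h0, h1, h2, h3, h4, h5, h6, h7, h8, h9⟩ := h
  exact List.forall_mem_cons.2 ⟨show r * (r * (r * (r * (r * (r * (r * (r * 1))))))) = 1 by
      simpa only [mul_assoc, mul_inv_rev, inv_inv, inv_one, mul_one, one_mul] using mul_inv_eq_one.2 h0,
    List.forall_mem_cons.2 ⟨show x * (r * (x⁻¹ * (r * 1))) = 1 by
      simpa only [mul_assoc, mul_inv_rev, inv_inv, inv_one, mul_one, one_mul] using mul_inv_eq_one.2 h1,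
    List.forall_mem_cons.2 ⟨show y * (r * (y⁻¹ * (r⁻¹ * (r⁻¹ * (r⁻¹ * (r⁻¹ * (r⁻¹ * 1))))))) = 1 by
      simpa only [mul_assoc, mul_inv_rev, inv_inv, inv_one, mul_one, one_mul] using mul_inv_eq_one.2 h2,
    List.forall_mem_cons.2 ⟨show y * (y * 1) = 1 by
      simpa only [mul_assoc, mul_inv_rev, inv_inv, inv_one, mul_one, one_mul] using mul_inv_eq_one.2 h3,
    List.forall_mem_cons.2 ⟨show x * (x * 1) = 1 by
      simpa only [mul_assoc, mul_inv_rev, inv_inv, inv_one, mul_one, one_mul] using mul_inv_eq_one.2 h4,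
    List.forall_mem_cons.2 ⟨show x * (y * (x * (y * 1))) = 1 by
      simpa only [mul_assoc, mul_inv_rev, inv_inv, inv_one, mul_one, one_mul] using mul_inv_eq_one.2 h5,
    List.forall_mem_cons.2 ⟨show w * (r * (w⁻¹ * (r⁻¹ * (y⁻¹ * 1)))) = 1 by
      simpa only [mul_assoc, mul_inv_rev, inv_inv, inv_one, mul_one, one_mul] using mul_inv_eq_one.2 h6,
    List.forall_mem_cons.2 ⟨show w * (x * (w⁻¹ * (x⁻¹ * (y⁻¹ * 1)))) = 1 by
      simpa only [mul_assoc, mul_inv_rev, inv_inv, inv_one, mul_one, one_mul] using mul_inv_eq_one.2 h7,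
    List.forall_mem_cons.2 ⟨show w * (y * (w⁻¹ * (y⁻¹ * 1))) = 1 by
      simpa only [mul_assoc, mul_inv_rev, inv_inv, inv_one, mul_one, one_mul] using mul_inv_eq_one.2 h8,
    List.forall_mem_cons.2 ⟨show w * (w * 1) = 1 by
      simpa only [mul_assoc, mul_inv_rev, inv_inv, inv_one, mul_one, one_mul] using mul_inv_eq_one.2 h9,
    fun _ h => absurd h List.not_mem_nil⟩⟩⟩⟩⟩⟩⟩⟩⟩⟩

theorem Rel.of_sat {G : Type*} [Group G] {r x y w : G}
    (h : ∀ R ∈ FP0E.rels, ev (lt [r, x, y, w]) R = 1) : Rel r x y w := by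
  obtain ⟨h0, h⟩ := List.forall_mem_cons.1 h
  obtain ⟨h1, h⟩ := List.forall_mem_cons.1 h
  obtain ⟨h2, h⟩ := List.forall_mem_cons.1 h
  obtain ⟨h3, h⟩ := List.forall_mem_cons.1 h
  obtain ⟨h4, h⟩ := List.forall_mem_cons.1 h
  obtain ⟨h5, h⟩ := List.forall_mem_cons.1 h
  obtain ⟨h6, h⟩ := List.forall_mem_cons.1 h
  obtain ⟨h7, h⟩ := List.forall_mem_cons.1 h
  obtain ⟨h8, h⟩ := List.forall_mem_cons.1 h
  obtain ⟨h9, h⟩ := List.forall_mem_cons.1 h
  exact ⟨mul_inv_eq_one.1 (by simpa only [mul_assoc, mul_inv_rev, inv_inv, inv_one, mul_one, one_mul] using (show r * (r * (r * (r * (r * (r * (r * (r * 1))))))) = 1 from h0)),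
    mul_inv_eq_one.1 (by simpa only [mul_assoc, mul_inv_rev, inv_inv, inv_one, mul_one, one_mul] using (show x * (r * (x⁻¹ * (r * 1))) = 1 from h1)),
    mul_inv_eq_one.1 (by simpa only [mul_assoc, mul_inv_rev, inv_inv, inv_one, mul_one, one_mul] using (show y * (r * (y⁻¹ * (r⁻¹ * (r⁻¹ * (r⁻¹ * (r⁻¹ * (r⁻¹ * 1))))))) = 1 from h2)),
    mul_inv_eq_one.1 (by simpa only [mul_assoc, mul_inv_rev, inv_inv, inv_one, mul_one, one_mul] using (show y * (y * 1) = 1 from h3)),
    mul_inv_eq_one.1 (by simpa only [mul_assoc, mul_inv_rev, inv_inv, inv_one, mul_one, one_mul] using (show x * (x * 1) = 1 from h4)),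
    mul_inv_eq_one.1 (by simpa only [mul_assoc, mul_inv_rev, inv_inv, inv_one, mul_one, one_mul] using (show x * (y * (x * (y * 1))) = 1 from h5)),
    mul_inv_eq_one.1 (by simpa only [mul_assoc, mul_inv_rev, inv_inv, inv_one, mul_one, one_mul] using (show w * (r * (w⁻¹ * (r⁻¹ * (y⁻¹ * 1)))) = 1 from h6)),
    mul_inv_eq_one.1 (by simpa only [mul_assoc, mul_inv_rev, inv_inv, inv_one, mul_one, one_mul] using (show w * (x * (w⁻¹ * (x⁻¹ * (y⁻¹ * 1)))) = 1 from h7)),
    mul_inv_eq_one.1 (by simpa only [mul_assoc, mul_inv_rev, inv_inv, inv_one, mul_one, one_mul] using (show w * (y * (w⁻¹ * (y⁻¹ * 1))) = 1 from h8)),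
    mul_inv_eq_one.1 (by simpa only [mul_assoc, mul_inv_rev, inv_inv, inv_one, mul_one, one_mul] using (show w * (w * 1) = 1 from h9))⟩

theorem rel : Rel r x y w := by decide +kernel

theorem model {G : Type*} [Group G] {r' x' y' w' : G} (h : Rel r' x' y' w') :
    ∃ φ : E →* G, φ r = r' ∧ φ x = x' ∧ φ y = y' ∧ φ w = w' := by
  obtain ⟨pt, h0, -, hT⟩ := FP0E.enum (lt [r', x', y', w']) (1 : G)
    (lt_icol _ _ (k := 4) rfl (by decide +kernel)) (lt_ge le_rfl) h.sat
    (fun _ h => absurd h List.not_mem_nil)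
  obtain ⟨φ, hφ⟩ := exists_hom tb (l := [r', x', y', w']) rfl h0 hT hom_chk
  exact ⟨φ, by simpa only [List.cons.injEq, and_true] using
    (show [φ r, φ x, φ y, φ w] = [r', x', y', w'] from hφ)⟩

end H70.FP0
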