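import Mathlib
import Cfsg.Agent.Base
import Cfsg.Agent.Lib.M12C.Tab

/-! a group of order 64 (helper70; generated) -/

set_option autoImplicit false
set_option maxRecDepth 100000

namespace H70.FP1E
open H54 (Tr force band)
open H18.TC
noncomputable def T_0 : Tr := (.node (nat_lit 3) (.node (nat_lit 1) (.node (nat_lit 0) (.leaf (nat_lit 0x88000092b8675d202f0fd7840be1f5f0eff2358000cc000064b2073fcecd0756811b088f85d4c42763003b8000021fec9e409f484da42aca16e5517339b9c00aa00003c34049a415fe0bff07b703fb9e2d4c36b001980000e4d8196d0737035b805fe03ff04bb815c80000000038b79bdc0dce26d7103b9019c884e601ff0008800005ee84175163b0add810ee09f7007f879e0000000000ebc845e818f60b7b023e00df004fa017e)) (.leaf (nat_lit 0x3b80000ddfa8ee077713b1896b9ab4cd4f6b1c1a400aa000045333c188d9fa6dfd3fe82034138bcfb57000880001069cab4f41281fd400bfa06fd027e10d440000000034ee92170beb060d822a8911457ea841fd002a8000180a82efe16718b78c64a432d24e748ed4c00ee0000207f30351c6cee5e76beab5b553bd06c56003b8000053c6e8e7157f0aff870b6365b7caba89600044000012acae16868b636db053f01ff842be08fc)))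 (.node (nat_lit 2) (.leaf (nat_lit 0x2a80001f8ae77fb3a7c9d7e4f4d876ec3cb7a79d400ee000008fdbe95c25f4147a0e36869b4dfe09d74000000001e3c4f3e67c303dd81ea96f64b796c3c3ec008800007133b198d8aa8c1d46fe53832985f6c3de0033000019f9271fc3a309cb84eed079e869aa9ed30008800000c7e3312436ca17e50cf486fa531a4b24d002a8000044c21665067e037f020f60efb6f652932c00cc000047301c3f510cc87663ea61f13134a678e8)) (.leaf (nat_lit 0x8800011ee08def7b753dfa9228e9047467c3219000cc00005524087b8e6d873ec123c88be44cb2ac4f000000001dfe2f26a75f83bdc1da9eee4f756e3a7e40022000062f58a9d85ce82d7413ec8a3644df29fdd00000000194f4c8f97febbf55da492ce4963f031b50004400000af72a12030da1aed0bbd053e96eb4a3ce002a80001e8d489f14377a1fbd189c88ce45aea8de800cc000074bb387adcceae2f5742d39369cef4e3dc)))) (.node (nat_lit 5) (.node (nat_lit 4) (.leaf (nat_lit 0x1980000c4ac5fd330b997bccb9825dc150fb3cda800cc00005da0093dc62a4305214b18a18d428625e10000000016feeba406c6ab5955cacee7e75c612db94008800001a69351546eee33f71afb0dfd94c82a948003b800008fe648f8252992b4ca0844e427233bad8800880000337c1a9ccd2ac65d633e19ab0d40c68ae6003b800007ba665561f7c0ffe0a78c54c66235a6fc4006600001ca211914a58c52460f7c07fe1248e20f7))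 (.leaf (nat_lit 0x3b80000fb98b2cd3f79207c902e2807153a426d180022000023a293110b5825a4121f9913cc85e4bc40002a80001b894355b17ec8c36466e831f41d22265b400220000302c0f97896b849dc1de20f31075e899ef00198000182eabff46135b13ad7980bdc063b22fbcc0000000069edb6929abb4d95a6bbab61d5a98ad2ec003300000c9bc61d8332e9a374c88a62c535faa7dc0000000007cf4befa1f9c900647f243fd21f5e2f8f6))) (.node (nat_lit 6) (.leaf (nat_lit 0x14fcaa9e165a4b3b25fdaefdd7546da9b400088000065f6b41b19e90cac866f2347919980d0c7003b80001b3aadbd26d6037901c2d6e06b6e6337db80088000058a6a5d312c8e93c77af53d3a94adc94c10008800012d967e50422721738f7de7cef3d762611000aa000059a82c32d5d9eafcf5ab82d9c163dab445003300001268e82f2432620f3112cc8be65232a130c00ee000055792b91d609aaf4d76f13b38957c2ad42)) (.leaf (nat_lit 0x3b8000173b4bad96ee536d297ca8bd545de8b352400ee00002c6197108b3a25b512f2c175612a96a5db002200000b782514627a2133109bb84fdc5667ae56800ee00002ae316504ad8a584535ae9a1750a9ca0d900330000097a238df26a113b087aa63c534be60e74800ee000022ef91b44af86574331ab18f59679ad555003b80000a184564328ef94d7caabc545e4d68375280066000056e7a4b39289695cb47f024381a29291df)))))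
noncomputable def J_0 : Tr := (.node (nat_lit 3) (.node (nat_lit 1) (.node (nat_lit 0) (.leaf (nat_lit 0x10010000000001001000000000000300000000010010008004000000000800800200000000020020010000004000000000000000000000040040020000000000000000000000000000000040040000000000000000000000c00400000000000000000000000000000000)) (.leaf (nat_lit 0x40040020020000004004005000000000000080080040040010000000000000000000000000100140040000000008000000002000000000100100000000050010008000002004000000200200300000080020020010000001001000800c002000000000000000000000000000010004004000002))) (.node (nat_lit 2) (.leaf (nat_lit 0x500100080000080000000002002000000800000000000080000000020018000000000000001200200000000000010010010004002004000000600200000100000060000000000002000000400400400400100000000000004004002000002000400200000040040000000000000000001)) (.leaf (nat_lit 0xa00200080000010010000000001001000000800000300000000000010000008000000000000e0020000008000000000000800a00200400000000060020000000000003800800000600000000040010010000008000000001400400200000200000000000004004000002000000c000001))))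 (.node (nat_lit 5) (.node (nat_lit 4) (.leaf (nat_lit 0x8000001c0040020010000000001001000000000000000000040000020000008000000001800e0020000008000001001001001000000000040040020000010000000000000000000200000040040040030000004001001000000c002002000800000400000000000020008008004000003)) (.leaf (nat_lit 0x40040040030018000000000000000000000000080000020028008000000000000400400200000200000000000000000000002000800a0020020000000008000000c00400200000180000040000010000000000001c00400000380080000020000018004000000001000c0040000000000007001))) (.node (nat_lit 6) (.leaf (nat_lit 0x800200000080040040038008000002000000400400400300080040010010008004000000000000800000000000000010010008008000004000000400000000100040050010000000000002800800400000000300000000008008000004000001800000200080080000000000008008004000)) (.leaf (nat_lit 0x400400200100000000000020000002002000000800000000000000080000010000002002002002000400000080080000020000000000000002000000e00200000080000000010008002002001000800000000300080000010010000004000000000000400000000100100000018008004000003)))))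
noncomputable def F_0 : Tr := (.node (nat_lit 3) (.node (nat_lit 1) (.node (nat_lit 0) (.leaf (nat_lit 0xda4966b6ad60bf847eefaf3de7f4903133c955e6b77593886f01a2af116328b121cf2d175a8b82b299c37dc6143401c1)) (.leaf (nat_lit 0xbb4c31cf2bf693fe514d269edcdecb6fa28e27cf7e61c5381e68c67e588540f9c4aadd6ca610eb597a2005d65520c002))) (.node (nat_lit 2) (.leaf (nat_lit 0xae78e2b2985fa1b51540f65d38c2fbfcaeb7f9c609f7ce47e06c26d85c654d2d355d6133caf0aeb6a90181e69100d203)) (.leaf (nat_lit 0xae78e2b2985fa1b51540f65d38c2fbfcaeb7f9c609f7ce47e06c26d85c654d2d355d6133caf0aeb6a90181e69100d203)))) (.node (nat_lit 5) (.node (nat_lit 4) (.leaf (nat_lit 0xd6eefaf7c834db7ff8c70cf237e9a352589b32da88b291f95533cba1240a1857eb79a0d9742be771806485758044e244)) (.leaf (nat_lit 0xd6eefaf7c834db7ff8c70cf237e9a352589b32da88b291f95533cba1240a1857eb79a0d9742be771806485758044e244))) (.node (nat_lit 6) (.leaf (nat_lit 0x9bde7e82ef31793b73bf4378cbb9212f59d7b08fea1cca7a4115491b739412865c0f66827ddc2306b6258806d648f285))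 (.leaf (nat_lit 0x97cfb9ba0f70692ab2d2fe0dcfad672a4856a7f22d307b3b3f7394151549a04758d8379f099c62ac17268db0174d02c6)))))
noncomputable def T : Tr := T_0
noncomputable def J : Tr := J_0
noncomputable def F : Tr := F_0
noncomputable def row (u : ℕ) : ℕ := Nat.land (Nat.shiftRight (force (Nat.shiftRight u (nat_lit 3)) T.get) (Nat.mul (Nat.land u (nat_lit 7)) (nat_lit 170))) (nat_lit 0x3ffffffffffffffffffffffffffffffffffffffffff)
noncomputable def jrow (u : ℕ) : ℕ := Nat.land (Nat.shiftRight (force (Nat.shiftRight u (nat_lit 3)) J.get) (Nat.mul (Nat.land u (nat_lit 7)) (nat_lit 117))) (nat_lit 0x1fffffffffffffffffffffffffffff)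
noncomputable def fget (k fx : ℕ) : ℕ := F.get (Nat.add k fx)
noncomputable def wt0 : LT := (.node (nat_lit 1) (.node (nat_lit 0) (.leaf 13 2 [nat_lit 102, nat_lit 0, nat_lit 68, nat_lit 119])
(.leaf 3 2 [nat_lit 34, nat_lit 17, nat_lit 51]))
(.node (nat_lit 3) (.node (nat_lit 2) (.leaf 3 0 [nat_lit 51, nat_lit 17, nat_lit 34])
(.leaf 5 2 [nat_lit 68, nat_lit 0, nat_lit 0, nat_lit 0, nat_lit 0, nat_lit 0, nat_lit 85]))
(.leaf 0 0 [])))
noncomputable def wt1 : LT := (.node (nat_lit 1) (.node (nat_lit 0) (.leaf 13 4 [nat_lit 68, nat_lit 119, nat_lit 17, nat_lit 102])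
(.leaf 19 0 [nat_lit 119, nat_lit 119, nat_lit 0, nat_lit 0, nat_lit 0]))
(.node (nat_lit 4) (.node (nat_lit 2) (.leaf 19 5 [nat_lit 0, nat_lit 119, nat_lit 119, nat_lit 0, nat_lit 0])
(.node (nat_lit 3) (.leaf 19 4 [nat_lit 0, nat_lit 0, nat_lit 119, nat_lit 119, nat_lit 0])
(.leaf 5 4 [nat_lit 0, nat_lit 0, nat_lit 0, nat_lit 0, nat_lit 85, nat_lit 17, nat_lit 68])))
(.node (nat_lit 5) (.leaf 5 0 [nat_lit 85, nat_lit 17, nat_lit 68, nat_lit 0, nat_lit 0, nat_lit 0, nat_lit 0])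
(.leaf 0 0 []))))
noncomputable def wt2 : LT := (.node (nat_lit 1) (.node (nat_lit 0) (.leaf 9 0 [nat_lit 51])
(.leaf 3 1 [nat_lit 17, nat_lit 34, nat_lit 17]))
(.node (nat_lit 2) (.leaf 15 2 [nat_lit 102, nat_lit 34, nat_lit 68, nat_lit 119])
(.node (nat_lit 3) (.leaf 11 3 [nat_lit 85, nat_lit 51, nat_lit 85])
(.leaf 0 0 []))))
noncomputable def wt3 : LT := (.node (nat_lit 0) (.leaf 3 3 [nat_lit 17, nat_lit 51, nat_lit 17])
(.node (nat_lit 1) (.leaf 15 4 [nat_lit 68, nat_lit 119, nat_lit 51, nat_lit 102])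
(.leaf 0 0 [])))
noncomputable def wt4 : LT := (.node (nat_lit 0) (.leaf 7 0 [nat_lit 85])
(.node (nat_lit 1) (.leaf 17 2 [nat_lit 102, nat_lit 68, nat_lit 119])
(.node (nat_lit 2) (.leaf 11 0 [nat_lit 51, nat_lit 85, nat_lit 51])
(.leaf 0 0 []))))
noncomputable def wt5 : LT := (.node (nat_lit 1) (.node (nat_lit 0) (.leaf 17 0 [nat_lit 119, nat_lit 85, nat_lit 102])
(.leaf 5 3 [nat_lit 0, nat_lit 0, nat_lit 0, nat_lit 0, nat_lit 0, nat_lit 85, nat_lit 17]))
(.node (nat_lit 2) (.leaf 13 0 [nat_lit 119, nat_lit 17, nat_lit 102, nat_lit 0])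
(.leaf 0 0 [])))
noncomputable def wt6 : LT := (.node (nat_lit 2) (.node (nat_lit 0) (.leaf 19 1 [nat_lit 119, nat_lit 0, nat_lit 0, nat_lit 0, nat_lit 0])
(.node (nat_lit 1) (.leaf 17 1 [nat_lit 85, nat_lit 102, nat_lit 68])
(.leaf 19 2 [nat_lit 0, nat_lit 0, nat_lit 0, nat_lit 0, nat_lit 119])))
(.node (nat_lit 4) (.node (nat_lit 3) (.leaf 15 1 [nat_lit 51, nat_lit 102, nat_lit 34, nat_lit 68])
(.leaf 13 1 [nat_lit 17, nat_lit 102, nat_lit 0, nat_lit 68]))
(.leaf 0 0 [])))
noncomputable def wt7 : LT := (.node (nat_lit 1) (.node (nat_lit 0) (.leaf 17 3 [nat_lit 68, nat_lit 119, nat_lit 85])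
(.leaf 13 3 [nat_lit 0, nat_lit 68, nat_lit 119, nat_lit 17]))
(.node (nat_lit 2) (.leaf 15 3 [nat_lit 34, nat_lit 68, nat_lit 119, nat_lit 51])
(.leaf 0 0 [])))
noncomputable def wt8 : LT := (.leaf 0 0 [])
noncomputable def sl : List (ℕ × ℕ × List ℕ × List ℕ) := []
/-- the inverse column -/
noncomputable def icol (x : ℕ) : ℕ := List.getD [nat_lit 1, nat_lit 0, nat_lit 3, nat_lit 2, nat_lit 5, nat_lit 4, nat_lit 7, nat_lit 6] x x
noncomputable def inv (x : ℕ) : ℕ := Nat.mul (icol (Nat.div x (nat_lit 17))) (nat_lit 17)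
def cols : List ℕ := [nat_lit 136, nat_lit 0, nat_lit 17, nat_lit 34, nat_lit 51, nat_lit 68, nat_lit 85, nat_lit 102, nat_lit 119]
noncomputable def cl : CL := (.cons (nat_lit 0) (nat_lit 17) (nat_lit 0) (nat_lit 0) wt0
(.cons (nat_lit 17) (nat_lit 0) (nat_lit 13) (nat_lit 1) wt1
(.cons (nat_lit 34) (nat_lit 51) (nat_lit 26) (nat_lit 2) wt2
(.cons (nat_lit 51) (nat_lit 34) (nat_lit 39) (nat_lit 3) wt3
(.cons (nat_lit 68) (nat_lit 85) (nat_lit 52) (nat_lit 4) wt4
(.cons (nat_lit 85) (nat_lit 68) (nat_lit 65) (nat_lit 5) wt5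
(.cons (nat_lit 102) (nat_lit 119) (nat_lit 78) (nat_lit 6) wt6
(.cons (nat_lit 119) (nat_lit 102) (nat_lit 91) (nat_lit 7) wt7
.nil))))))))
def rels : List (List ℕ) := [[0, 0, 0, 0, 0, 0, 0, 0],
[0, 3, 0, 2],
[1, 1, 1, 1, 1, 5, 0, 4],
[4, 4],
[2, 2],
[4, 2, 4, 2],
[5, 1, 7, 0, 6],
[5, 3, 7, 2, 6],
[5, 7, 4, 6],
[1, 1, 1, 1, 6, 6]]
def subs : List (List ℕ) := []
noncomputable def chk : ℕ → Bool := rowChk row jrow fget sl cols (nat_lit 64) (nat_lit 64) (nat_lit 131071) (nat_lit 127) (nat_lit 131072) (nat_lit 136) (nat_lit 153) (nat_lit 8191) (nat_lit 6) (nat_lit 63) (nat_lit 6) (nat_lit 63) cl (nat_lit 104) wt8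
theorem p0 : allB chk 6 0 = true := by decide +kernel
theorem all_chk : AllLt chk 64 := by
  have h := AllLt.zero chk
  have h := h.step 64 p0 (by decide +kernel)
  exact h
/-- column `x` of the final table -/
noncomputable def tab (x u : ℕ) : ℕ := ft fget (nat_lit 6) (nat_lit 63) (nat_lit 6) (nat_lit 63) (Nat.mul x (nat_lit 1)) u
theorem enum {G Ω : Type*} [Group G] [MulAction G Ω] (g : ℕ → G) (ω : Ω)
    (hinv : ∀ x, g (icol x) = (g x)⁻¹) (h1 : g 8 = 1)
    (hrels : ∀ R ∈ rels, ev g R = 1) (hsubs : ∀ S ∈ subs, ev g S • ω = ω) :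
    ∃ pt : ℕ → Ω, pt 0 = ω ∧ (∀ K : Subgroup G, (∀ x, g x ∈ K) → ∀ v, ∃ k ∈ K, pt v = k • ω) ∧
      ∀ x, x < 8 → ∀ u, u < 64 → tab x u < 64 ∧ g x • pt u = pt (tab x u) :=
  sound_scaled g ω row jrow fget sl inv icol cols (nat_lit 64) (nat_lit 64) (nat_lit 131071) (nat_lit 127) (nat_lit 131072) (nat_lit 136) (nat_lit 153) (nat_lit 8191) (nat_lit 6) (nat_lit 63) (nat_lit 6) (nat_lit 63) 7 cl (nat_lit 104) wt8 rels subs 17 (nat_lit 1) 8
    (fun _ => Nat.mul_div_cancel _ (by decide)) hinv h1 hrels hsubs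
    (by decide +kernel) (by decide +kernel) all_chk
end H70.FP1E

namespace H70.FP1
open H70.TM H18.TC Subgroup

noncomputable def rt : RT := ⟨nat_lit 64, nat_lit 6, nat_lit 63,
  (.node (nat_lit 31) (.node (nat_lit 15) (.node (nat_lit 7) (.node (nat_lit 3) (.node (nat_lit 1) (.node (nat_lit 0) (.leaf (nat_lit 0xffef7cefae78df6d74cf2c70beeb6caeaa689e69648e28607de75c6da6585d65544d24503ce34c2ca2481c61440c2040))
(.leaf (nat_lit 0x788fcbe295bcecdb1585cf449598be0d28ddc7a1f550aaaed39b40cf2df6acfa30bc641a9e691381f6d85c244e309141)))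
(.node (nat_lit 2) (.leaf (nat_lit 0xa778e4b1e9b5fa0e1769b5277584fb7d1fe5c39a3cf4c436afabc9cb322ed0e1f1b45aa11162e234371954148f280182))
(.leaf (nat_lit 0xde9f3d9f6e39ffa99b897bac7314b045ffa1ef5423933a1eaa026fd0c594c9919816dae52c811a3c274e0554cd00a1c3))))
(.node (nat_lit 5) (.node (nat_lit 4) (.leaf (nat_lit 0x28319576bb520914f9f66d2fe9bc5cc2703f245f811fcddfeea836e24897d7367262eb29a0c96384f79a39651034b204))
(.leaf (nat_lit 0xe587a0f233cbe24fa8a80fce1f728830652df695ecc1f49955688185cecd0e77449426b2c7ad6fbb4cf6ac94264db445)))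
(.node (nat_lit 6) (.leaf (nat_lit 0xe99a4dd7f3a4b0bec74098cfa08337285f6f51e578c434585e64c269bfa07c4967741873c39f2ddabcaed00a9689c486))
(.leaf (nat_lit 0x80edcfe7e67d9c4c06a2ff0d416ce902d909bb60666027f16f8483897ffa44b86c71594cef58c57aad14c8aac869d4c7)))))
(.node (nat_lit 11) (.node (nat_lit 9) (.node (nat_lit 8) (.leaf (nat_lit 0xa9a2a1480cd5765719df6190fa2f0336e1e0d2b393c8f9dbe6dc44f66091c28fefe96a642450587fbe17d4bb0c8de508))
(.leaf (nat_lit 0x8fb535fb9eac22ef2bcb3c31b76bf8d1078711674bfd368d0e995b7216195665fd8914aa38f80a90c037a051a77c1089)))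
(.node (nat_lit 10) (.leaf (nat_lit 0xfbf923c20d66a5ee7233463b254167aabdd0b3887df1a97a47671d5e23b16c806e4937e83593f3100bd6187b4b08354a))
(.leaf (nat_lit 0x21c172a1530df4b5938c8981761deec2bebedfd51a3a51c2be9e9bd69be4c3b4c549f743387c94dda2648ba83c458b))))
(.node (nat_lit 13) (.node (nat_lit 12) (.leaf (nat_lit 0xee32ffc4df167a9eb32ab67e03d18443422ae2c694d617794ae6e55533f07370b64620c78183b29c9b66168be405f5cc))
(.leaf (nat_lit 0x805462514ad2ab178f356dcdb4bafb3b0f7753a4707dfea9df7bae63cf29a2597531c3e85a424a0b80c21962510f38d)))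
(.node (nat_lit 14) (.leaf (nat_lit 0x7cc0a8b43886250bd6ffa565a73f4013105e6d12055cbef4e12b8df352abb21ddcd99fa37531d4aa7e7298fc1a92060e))
(.leaf (nat_lit 0xca047bdf4c502ab668f95dd7b25099f00a9712dc6564fabb11da0d7c334e1a21bb98eff962a3d404eb358ec612cd64f))))))
(.node (nat_lit 23) (.node (nat_lit 19) (.node (nat_lit 17) (.node (nat_lit 16) (.leaf (nat_lit 0x3cd599830c6e2ec62d185e7aaf8d36bc910a7940c83950bb7677d1481f354fd8a65db700fe3f87de8aa4333ca9961690))
(.leaf (nat_lit 0x5b6e6e2d49e0f3521d4817a65fb7d84c2c22fe3afe1341b7a0f285a80e24331b4e1c9c9cf69b2565584d0db6babf3411)))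
(.node (nat_lit 18) (.leaf (nat_lit 0x9aeeb693d10dd7cde5442a5657e0d9881c538ffd3b9eb1481ce306409b0b2b0bcfa00cdb51ee1d6176a07dc879b72a92))
(.leaf (nat_lit 0xe1481ef642cfe63a617c3dc807f08e695612f3ecb0b2ab56199cc7a2f9c403b24d40a317bb699cc5b8ba45d975174ad3))))
(.node (nat_lit 21) (.node (nat_lit 20) (.leaf (nat_lit 0xb57a9f547a214810ff9c428c3823da8d6cb1180d5cbfbba2673f08df6765349810f8b926d2b4fa6f9f51c1ea45638b14))
(.leaf (nat_lit 0xd96f849b7223c0f9c195d90b84e6bf093f1c6201b9b80ad4cb514a334a5ea8d43b247a22b38f52e915f16c37d9cefb55)))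
(.node (nat_lit 22) (.leaf (nat_lit 0xae20254ca30172174ea5e1e8fda8c23d41bacaa652d0db17d4560b9380dfed0f89808dfdbed57147099be449f3f36b96))
(.leaf (nat_lit 0xba6ee7588dffc4e1027652e468f863062d5b64d17ad89d3dcfc18c2ab7a9420abe0281d3e2c511e5257071f0d8cadbd7)))))
(.node (nat_lit 27) (.node (nat_lit 25) (.node (nat_lit 24) (.leaf (nat_lit 0x4b27ea181868b47037ecd09a20a2cc9195ee5439af727c735a2f4effa25011d7a5a4f8f56d1176d38f2bb20f93539c18))
(.leaf (nat_lit 0x4730d0142687be8248fa0061dcc90a2d85765df5ad6c4c3299350f8f902a9e5a5d78effc7121aeaecd74e0dee2f7ac59)))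
(.node (nat_lit 26) (.leaf (nat_lit 0x9e43f7b84f5983eda20915a90fc54d95b39fe703189a8278b71d101852ecbff2baaf3001794217edd4b54e17231eac9a))
(.leaf (nat_lit 0x538c2c216a7e6192c372113d88d97c55ae5738fb607afca43231f302adb7a3aaff2901929a7b9fd5307b7510b1d0525b))))
(.node (nat_lit 29) (.node (nat_lit 28) (.leaf (nat_lit 0xf6cc78de67bb65891f6da9d44e07755e1e953cebcda6dccb2bfa32250b881f9d2332a151584d83f220be952070ac601c))
(.leaf (nat_lit 0x927626a78db03b1f515e2b2e4ba7396e580135924fdc530403e434be85161b5cbccebb5f20b7828da0ff85357ba8729d)))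
(.node (nat_lit 30) (.leaf (nat_lit 0x1ddc930edadc69b5709bdbf4c51e92e69a8e433821298925340fb8db75e2645d46f2cba73287cf063102fd4589ec82de))
(.leaf (nat_lit 0x21ed5412eb3a8f959c4d5db86f0471483edafbcabf2f21e940d02daca9bdcd81591afd1d9379e138194f0978a024ca1f)))))))
(.node (nat_lit 47) (.node (nat_lit 39) (.node (nat_lit 35) (.node (nat_lit 33) (.node (nat_lit 32) (.leaf (nat_lit 0x495c501246f3341acd7c71bbabdade3e7c89627a80948d0103a79ebfcb3593995f70c7b6a1a8b1e434add865d9ce3e0))
(.leaf (nat_lit 0x10b388da751837bb9305299e7f55e075c3c3eb129958702cbf0aea146938b63339d32242a7ddd5fa547c89a6ffa10ce1)))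
(.node (nat_lit 34) (.leaf (nat_lit 0xb3d36950b90eebf79a0df2370a304f857651d7bcf1e10be6158ca81ed12727e020a8c295dae59bc1c4f94a577c1abd22))
(.leaf (nat_lit 0x74784ad25573a80afd3f0883106590a796a749c9324f782db9be3e658a2fd822d1b3c34e7d732625ec4553fe8123bd63))))
(.node (nat_lit 37) (.node (nat_lit 36) (.leaf (nat_lit 0x241a026d01a27c347c2eccc0355665fb833bb6f8d717f792c74e6959485ce8a3ebc3d108ab26b5760b93637d873a79a4))
(.leaf (nat_lit 0x2c46567acbb13f0512553e364796fa71d34281800e2062a727baabb47f6617ccf5cb4bc3de4a41fe17e36a25fe428325)))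
(.node (nat_lit 38) (.leaf (nat_lit 0xd1325d88c2826da94f7a9a078e1fc13bd179cd0611ae0e15f066642ec7c3faaec0377214b6f5f04b159cea7132d6eda6))
(.leaf (nat_lit 0x31f157974bd10528ba516aede5cc1bc44263006ec2a35203f9036eb0b4d5f32633676e1e1ca77f68ea613e6f6a824de7)))))
(.node (nat_lit 43) (.node (nat_lit 41) (.node (nat_lit 40) (.leaf (nat_lit 0x34f20eebb614127c451edd60aa6c9e26f2c0dae0966410f072c45f4d58f94a46b86d774afbcfc6a50afdcccd378658a8))
(.leaf (nat_lit 0xa25ce27efd1b85c5f1594b6bc12e51e9e40fab235a3192dd809eecb88553606f05d78d842870ce0bf9c18fd980fb7929)))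
(.node (nat_lit 42) (.leaf (nat_lit 0x3a0998371c3693866f146eb9d2caeeb409cca7d7f73d707e9440d2442d7c8944d655c6c98ffee820740b2b2cde75a86a))
(.leaf (nat_lit 0x67ae313d8edef66389b47835ca7a9414ab33de446935b57f84b0937c3e636ae48805d5eff3ec10586a0403433672296b))))
(.node (nat_lit 45) (.node (nat_lit 44) (.leaf (nat_lit 0xcd1b5b87225f5536a0b88a85d5ded760bbfc287c03439582fe83d49c44818f4c4c39e9b618073e899de537892bebda6c))
(.leaf (nat_lit 0xd71dba8fc3449bdfd0acaf991a9016cc7b859376e7ed14ce04869595dc0f0ac70b8438b4620e4953231eaafa384977ed)))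
(.node (nat_lit 46) (.leaf (nat_lit 0x15bad10464254d50beb0b033643362f08d181cae5d27051a38c8d6a5e7213efea8fc4f78caa4a05f591fef6dedc669ee))
(.leaf (nat_lit 0xf30bb9ff58275948ead0ced815e266ca8d862c8704f9288f0b7857765c4e0786e469f4eb64de80f732a942d1ec4550ef))))))
(.node (nat_lit 55) (.node (nat_lit 51) (.node (nat_lit 49) (.node (nat_lit 48) (.leaf (nat_lit 0x8ab4b4a1776a18531ec4e7d39899f250f73d081b0097864ade12d8ecdb4791bb9a220d7a543be9cd6fd01398d1dbcfb0))
(.leaf (nat_lit 0x4f446b1d59501462a9c0f0e2580133f4e6d4042e0976c60c21a919fa0be82dcda1dcdf395dfb5eca68ea9fafd2bb5ef1)))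
(.node (nat_lit 50) (.leaf (nat_lit 0xc759fb64eff7b8834a2503e330ba241f39b45844f6e9d6fc8bd55a09183e95e7e90e1045e7062be2d1acbea0145d2732))
(.leaf (nat_lit 0xc3c13e60f8c8db780c02a3bf2a41cba325ab9a78aee657354d45e105237b7690de7da086eb1674b2f178b5027d5516f3))))
(.node (nat_lit 53) (.node (nat_lit 52) (.leaf (nat_lit 0x639b30399fa95163c0be837ccc443d18ce3220b49e81c5e36a40620dfebf8764770a556dd7bc6a9851e726b2ae6d3774))
(.leaf (nat_lit 0x6c5749cda08ad0c40b83e841928dc723c4f88a552b45ee46f555a33f0a80a5f9c313f39849ccacb6e66fdbb3579b1eb5)))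
(.node (nat_lit 54) (.leaf (nat_lit 0x19cd12085a9d89707be2427261f813d77ad9a0cea5031f613cafe67a96da3ade478e752ccd044d57c2c3fae22fc16136))
(.leaf (nat_lit 0x42131a449c9795d6d822e16aed3d5f836a0daf43e2cce11ceafc27516052c478ede6678b0060990feb15f24e0afe9f77)))))
(.node (nat_lit 59) (.node (nat_lit 57) (.node (nat_lit 56) (.leaf (nat_lit 0xc92bdc6b30035e284ddb7406f25f95664b75328c5faba9818c73bd127442febc0a3e95ae1496fb4d821d82c2f4e547b8))
(.leaf (nat_lit 0x5ed72f3220c0cb3a04ebf955f50a465a34a66a1baa7f6d4790123c37bacadd1b022fe6714ddd271543897b03dbe18839)))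
(.node (nat_lit 58) (.leaf (nat_lit 0x56f6ed2937c9cf21e7e6375752a7859bf45685ad900eef282c2df583ed0c212e0193b6308a5ac41bd3c0a7139cb1937a))
(.leaf (nat_lit 0x6aa4f241b72b1edcf6619452e2fb34b8d7640d59ca866380a65131c0f146f575225bae60042277308fa82f5f1f7a3ffb))))
(.node (nat_lit 61) (.node (nat_lit 60) (.leaf (nat_lit 0x706940ca104cacaaa437b6822c7228df58ac4ddf744a9e855179bf3b140978311f9e33d945bcf8bf662dbbe8155b0e7c))
(.leaf (nat_lit 0xbd54035e81da4427e312730a3c13a1fe6cf0149f1bb7ed93632d7722e95d80036aee42d6af48b973a512c6978666ce3d)))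
(.node (nat_lit 62) (.leaf (nat_lit 0x8508b3a9c6f4a2fcae658491b2de2bda094b7d710c6963c979d9f0c4e185515f539b9e8d0810082b7ec793cd43a7f8fe))
(.leaf (nat_lit 0x96868cadd5f2409d143b14df9c59aa7ba84445b2f388836fd9cb3b6191edb81912e3580f0d5296029c06f63e42dfef3f)))))))),
  (nat_lit 0x2cd5bc808e393e3634cc5ba4331b4e1ea1289d4970d9587b75e7c16d16754fd8a65d2690decfaffca27aac6ca90c2700),
  (nat_lit 0xa258e27de79b6585d75945144d249145140f3ce34d30c2cb2892492482081c61851451441040c3082081041040000000),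
  (nat_lit 0x1040841020440411021040810440c40c21040411011021010440c20440810440c40c20440811011030440c20440c2041),
  [nat_lit 1, nat_lit 2, nat_lit 3, nat_lit 4]⟩

theorem okA0 : rt.chkA 1 = true := by decide +kernel
theorem okA1 : rt.chkA 2 = true := by decide +kernel
theorem okA2 : rt.chkA 3 = true := by decide +kernel
theorem okA3 : rt.chkA 4 = true := by decide +kernel
theorem okB : rt.chkB = true := by decide +kernel
noncomputable def tb : GT := ⟨rt, List.forall_mem_cons.2 ⟨okA0, List.forall_mem_cons.2 ⟨okA1, List.forall_mem_cons.2 ⟨okA2, List.forall_mem_cons.2 ⟨okA3, fun _ h => absurd h List.not_mem_nil⟩⟩⟩⟩, okB⟩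

theorem hom_chk : homChk tb (nat_lit 0x7979adcddf7b4cfb3efccf193bae505781b7c63a0b735db2d30bc2babaa99e59228607db69859449134a2481c5103040) 64 FP1E.tab = true := by decide +kernel

/-- the group -/
abbrev E : Type := El tb

noncomputable def r : E := El.of tb 1
noncomputable def x : E := El.of tb 2
noncomputable def y : E := El.of tb 3
noncomputable def w : E := El.of tb 4

theorem card : Nat.card E = 64 := El.card tb

theorem eq_top {K : Subgroup E} (h0 : r ∈ K) (h1 : x ∈ K) (h2 : y ∈ K) (h3 : w ∈ K) : K = ⊤ :=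
  El.eq_top (List.forall_mem_cons.2 ⟨h0, List.forall_mem_cons.2 ⟨h1, List.forall_mem_cons.2 ⟨h2, List.forall_mem_cons.2 ⟨h3, fun _ h => absurd h List.not_mem_nil⟩⟩⟩⟩)

/-- the relations -/
def Rel {G : Type*} [Group G] (r x y w : G) : Prop :=
  r * r * r * r * (r * r * r * r) = 1 ∧
  x * r * x⁻¹ = r⁻¹ ∧
  y * r * y⁻¹ = r * (r * r * r * r) ∧
  y * y = 1 ∧
  x * x = 1 ∧
  x * y * (x * y) = 1 ∧
  w * r * w⁻¹ = y * r ∧
  w * x * w⁻¹ = y * x ∧
  w * y * w⁻¹ = y ∧
  w * w = r * r * r * r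

instance {G : Type*} [Group G] [DecidableEq G] (r x y w : G) : Decidable (Rel r x y w) := by
  unfold Rel; infer_instance

theorem Rel.map {G G' : Type*} [Group G] [Group G'] (f : G →* G') {r x y w : G}
    (h : Rel r x y w) : Rel (f r) (f x) (f y) (f w) := by
  obtain ⟨h0, h1, h2, h3, h4, h5, h6, h7, h8, h9⟩ := h
  exact ⟨by simpa only [map_mul, map_inv, map_one] using congrArg f h0,
    by simpa only [map_mul, map_inv, map_one] using congrArg f h1,
    by simpa only [map_mul, map_inv, map_one] using congrArg f h2,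
    by simpa only [map_mul, map_inv, map_one] using congrArg f h3,
    by simpa only [map_mul, map_inv, map_one] using congrArg f h4,
    by simpa only [map_mul, map_inv, map_one] using congrArg f h5,
    by simpa only [map_mul, map_inv, map_one] using congrArg f h6,
    by simpa only [map_mul, map_inv, map_one] using congrArg f h7,
    by simpa only [map_mul, map_inv, map_one] using congrArg f h8,
    by simpa only [map_mul, map_inv, map_one] using congrArg f h9⟩

theorem Rel.of_map {G G' : Type*} [Group G] [Group G'] {f : G →* G'} (hf : Function.Injective f)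
    {r x y w : G} (h : Rel (f r) (f x) (f y) (f w)) : Rel r x y w := by
  obtain ⟨h0, h1, h2, h3, h4, h5, h6, h7, h8, h9⟩ := h
  exact ⟨hf (by simpa only [map_mul, map_inv, map_one] using h0),
    hf (by simpa only [map_mul, map_inv, map_one] using h1),
    hf (by simpa only [map_mul, map_inv, map_one] using h2),
    hf (by simpa only [map_mul, map_inv, map_one] using h3),
    hf (by simpa only [map_mul, map_inv, map_one] using h4),
    hf (by simpa only [map_mul, map_inv, map_one] using h5),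
    hf (by simpa only [map_mul, map_inv, map_one] using h6),
    hf (by simpa only [map_mul, map_inv, map_one] using h7),
    hf (by simpa only [map_mul, map_inv, map_one] using h8),
    hf (by simpa only [map_mul, map_inv, map_one] using h9)⟩

theorem Rel.prod {G G' : Type*} [Group G] [Group G'] {r x y w : G} {r' x' y' w' : G'}
    (h : Rel r x y w) (k : Rel r' x' y' w') :
    Rel (r, r') (x, x') (y, y') (w, w') := by
  obtain ⟨h0, h1, h2, h3, h4, h5, h6, h7, h8, h9⟩ := h
  obtain ⟨k0, k1, k2, k3, k4, k5, k6, k7, k8, k9⟩ := k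
  exact ⟨Prod.ext h0 k0, Prod.ext h1 k1, Prod.ext h2 k2, Prod.ext h3 k3, Prod.ext h4 k4, Prod.ext h5 k5, Prod.ext h6 k6, Prod.ext h7 k7, Prod.ext h8 k8, Prod.ext h9 k9⟩

theorem Rel.sat {G : Type*} [Group G] {r x y w : G} (h : Rel r x y w) :
    ∀ R ∈ FP1E.rels, ev (lt [r, x, y, w]) R = 1 := by
  obtain ⟨h0, h1, h2, h3, h4, h5, h6, h7, h8, h9⟩ := h
  exact List.forall_mem_cons.2 ⟨show r * (r * (r * (r * (r * (r * (r * (r * 1))))))) = 1 by
      simpa only [mul_assoc, mul_inv_rev, inv_inv, inv_one, mul_one, one_mul] using mul_inv_eq_one.2 h0,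
    List.forall_mem_cons.2 ⟨show x * (r * (x⁻¹ * (r * 1))) = 1 by
      simpa only [mul_assoc, mul_inv_rev, inv_inv, inv_one, mul_one, one_mul] using mul_inv_eq_one.2 h1,
    List.forall_mem_cons.2 ⟨show y * (r * (y⁻¹ * (r⁻¹ * (r⁻¹ * (r⁻¹ * (r⁻¹ * (r⁻¹ * 1))))))) = 1 by
      simpa only [mul_assoc, mul_inv_rev, inv_inv, inv_one, mul_one, one_mul] using mul_inv_eq_one.2 h2,
    List.forall_mem_cons.2 ⟨show y * (y * 1) = 1 by
      simpa only [mul_assoc, mul_inv_rev, inv_inv, inv_one, mul_one, one_mul] using mul_inv_eq_one.2 h3,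
    List.forall_mem_cons.2 ⟨show x * (x * 1) = 1 by
      simpa only [mul_assoc, mul_inv_rev, inv_inv, inv_one, mul_one, one_mul] using mul_inv_eq_one.2 h4,
    List.forall_mem_cons.2 ⟨show x * (y * (x * (y * 1))) = 1 by
      simpa only [mul_assoc, mul_inv_rev, inv_inv, inv_one, mul_one, one_mul] using mul_inv_eq_one.2 h5,
    List.forall_mem_cons.2 ⟨show w * (r * (w⁻¹ * (r⁻¹ * (y⁻¹ * 1)))) = 1 by
      simpa only [mul_assoc, mul_inv_rev, inv_inv, inv_one, mul_one, one_mul] using mul_inv_eq_one.2 h6,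
    List.forall_mem_cons.2 ⟨show w * (x * (w⁻¹ * (x⁻¹ * (y⁻¹ * 1)))) = 1 by
      simpa only [mul_assoc, mul_inv_rev, inv_inv, inv_one, mul_one, one_mul] using mul_inv_eq_one.2 h7,
    List.forall_mem_cons.2 ⟨show w * (y * (w⁻¹ * (y⁻¹ * 1))) = 1 by
      simpa only [mul_assoc, mul_inv_rev, inv_inv, inv_one, mul_one, one_mul] using mul_inv_eq_one.2 h8,
    List.forall_mem_cons.2 ⟨show w * (w * (r⁻¹ * (r⁻¹ * (r⁻¹ * (r⁻¹ * 1))))) = 1 by
      simpa only [mul_assoc, mul_inv_rev, inv_inv, inv_one, mul_one, one_mul] using mul_inv_eq_one.2 h9,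
    fun _ h => absurd h List.not_mem_nil⟩⟩⟩⟩⟩⟩⟩⟩⟩⟩

theorem Rel.of_sat {G : Type*} [Group G] {r x y w : G}
    (h : ∀ R ∈ FP1E.rels, ev (lt [r, x, y, w]) R = 1) : Rel r x y w := by
  obtain ⟨h0, h⟩ := List.forall_mem_cons.1 h
  obtain ⟨h1, h⟩ := List.forall_mem_cons.1 h
  obtain ⟨h2, h⟩ := List.forall_mem_cons.1 h
  obtain ⟨h3, h⟩ := List.forall_mem_cons.1 h
  obtain ⟨h4, h⟩ := List.forall_mem_cons.1 h
  obtain ⟨h5, h⟩ := List.forall_mem_cons.1 h
  obtain ⟨h6, h⟩ := List.forall_mem_cons.1 h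
  obtain ⟨h7, h⟩ := List.forall_mem_cons.1 h
  obtain ⟨h8, h⟩ := List.forall_mem_cons.1 h
  obtain ⟨h9, h⟩ := List.forall_mem_cons.1 h
  exact ⟨mul_inv_eq_one.1 (by simpa only [mul_assoc, mul_inv_rev, inv_inv, inv_one, mul_one, one_mul] using (show r * (r * (r * (r * (r * (r * (r * (r * 1))))))) = 1 from h0)),
    mul_inv_eq_one.1 (by simpa only [mul_assoc, mul_inv_rev, inv_inv, inv_one, mul_one, one_mul] using (show x * (r * (x⁻¹ * (r * 1))) = 1 from h1)),
    mul_inv_eq_one.1 (by simpa only [mul_assoc, mul_inv_rev, inv_inv, inv_one, mul_one, one_mul] using (show y * (r * (y⁻¹ * (r⁻¹ * (r⁻¹ * (r⁻¹ * (r⁻¹ * (r⁻¹ * 1))))))) = 1 from h2)),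
    mul_inv_eq_one.1 (by simpa only [mul_assoc, mul_inv_rev, inv_inv, inv_one, mul_one, one_mul] using (show y * (y * 1) = 1 from h3)),
    mul_inv_eq_one.1 (by simpa only [mul_assoc, mul_inv_rev, inv_inv, inv_one, mul_one, one_mul] using (show x * (x * 1) = 1 from h4)),
    mul_inv_eq_one.1 (by simpa only [mul_assoc, mul_inv_rev, inv_inv, inv_one, mul_one, one_mul] using (show x * (y * (x * (y * 1))) = 1 from h5)),
    mul_inv_eq_one.1 (by simpa only [mul_assoc, mul_inv_rev, inv_inv, inv_one, mul_one, one_mul] using (show w * (r * (w⁻¹ * (r⁻¹ * (y⁻¹ * 1)))) = 1 from h6)),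
    mul_inv_eq_one.1 (by simpa only [mul_assoc, mul_inv_rev, inv_inv, inv_one, mul_one, one_mul] using (show w * (x * (w⁻¹ * (x⁻¹ * (y⁻¹ * 1)))) = 1 from h7)),
    mul_inv_eq_one.1 (by simpa only [mul_assoc, mul_inv_rev, inv_inv, inv_one, mul_one, one_mul] using (show w * (y * (w⁻¹ * (y⁻¹ * 1))) = 1 from h8)),
    mul_inv_eq_one.1 (by simpa only [mul_assoc, mul_inv_rev, inv_inv, inv_one, mul_one, one_mul] using (show w * (w * (r⁻¹ * (r⁻¹ * (r⁻¹ * (r⁻¹ * 1))))) = 1 from h9))⟩

theorem rel : Rel r x y w := by decide +kernel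

theorem model {G : Type*} [Group G] {r' x' y' w' : G} (h : Rel r' x' y' w') :
    ∃ φ : E →* G, φ r = r' ∧ φ x = x' ∧ φ y = y' ∧ φ w = w' := by
  obtain ⟨pt, h0, -, hT⟩ := FP1E.enum (lt [r', x', y', w']) (1 : G)
    (lt_icol _ _ (k := 4) rfl (by decide +kernel)) (lt_ge le_rfl) h.sat
    (fun _ h => absurd h List.not_mem_nil)
  obtain ⟨φ, hφ⟩ := exists_hom tb (l := [r', x', y', w']) rfl h0 hT hom_chk
  exact ⟨φ, by simpa only [List.cons.injEq, and_true] using
    (show [φ r, φ x, φ y, φ w] = [r', x', y', w'] from hφ)⟩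

end H70.FP1
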