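import Mathlib
import Cfsg.Agent.Base
import Cfsg.Agent.Lib.M12C.Tab

/-! a group of order 64 (helper70; generated) -/

set_option autoImplicit false
set_option maxRecDepth 100000

namespace H70.FP2E
open H54 (Tr force band)
open H18.TC
noncomputable def T_0 : Tr := (.node (nat_lit 3) (.node (nat_lit 1) (.node (nat_lit 0) (.leaf (nat_lit 0x88000050d21b6317328bf9431c019e00bff1758400cc000028b1047fc3ac61c630a320539044ea6770003b8000021fe30e51eb30f1986ece37e719ba095bc00aa00006ef40a5a415fe0bff07b703fb89ed42a6b001980000dad8396d0737035b805fe03ff04bb815c80000000026b79adc094e24bf103b9019c884e601ff00088000064e8237520bb101d810ee09f7007f861e000000000093c845e818f60b7b023e00df004fa017e)) (.leaf (nat_lit 0x2200000d5fa6a7634a89974562bab55d337c99f980088000074a91afd098fa49fd3a6a9d75495caf7dc000880001a0a6a9543baa9d1540bfa06fd027e10d580000000023f336da0a8c4536222ab11159daae41fd003300000d8e231fe1aac0cf6175b2b9d930f18cbe800000000117f139a848de25ef41ed213684ed221f9002a80000d3e0595b1fff103f99abecc5f7aae1498800440000592e9bd7995beca5f053f01ff82cc008fc)))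 (.node (nat_lit 2) (.leaf (nat_lit 0x1100001b5e6de7b6fa438721b8d8d8ec6eb7b674400000000147d89fe0be925e494fa528b2858b026f5003b800009bea65512e3096d8522a08e50283113bec0022000016ac0abbddeaef1d73fa79f93c53f62f6500330000102966cfc6be635d31b2d0dbe856ea1c17800ee00001c7e1193473ce3ae71f330fb99a2a6b3dd002a8000026c89bce067e037f020f60efb4027a35400088000015b5933f44cea23f538ef1c37849f4dce8)) (.leaf (nat_lit 0x6cce16e43d659ef2c34f0197844a2057dc00ee00002ced98b60b5d45bea44e222b10b9f0fd45000000000c09250f9297994fccac9a54cd28fb13fa800ee00000d7c3cd7037f21cf9102308318b0b662740033000002ec012ee0fa3079182af213f95aeea17680088000018bd38f2060f02df83d259e52c5dd64b71002a80001e8b848731dfd0f3e87eda3ded34383a74800cc000061a38d78076da3a6d1c3d0dbe8dcbcb959)))) (.node (nat_lit 5) (.node (nat_lit 4) (.leaf (nat_lit 0xc6c22ceb1a3a0d3d18084be4270a40afa4000000005be23217d7884bec25d3a2edd171ceb6c6003b80001039e8844416f21d790aea8475433228728000000002c7b16985d0a4ead24b21a550cc19257e3003b80001e5c6f3e67d22be515ee8ef6477c38bd3d800aa000059a82c7dd5da8afd45a782c3c168dab664000000000ddee7355436d20d68e2de726f37f61b79c0000000063ecb394d93eecb7765fb333d9919ac6c7))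 (.leaf (nat_lit 0x22000012e86b2dd482222f111bd490ea467723b340000000032753c35ccce068f0556a2af51b4d063c9001980001d8aee8f175adb9f6dc9a6e5d3753339b2000ee000066efb3fc99d86d243732939549a698d0ed003b8000151e4a9cf582eabd7558a2ab5156a72b9b000ee0000396f30308e7e476f23b389d5c5888e784b000880001369cd44c24a691d3487e644f3217929d0400cc000078a8baf49e4d6eeeb7820bb705fd8aecf3))) (.node (nat_lit 6) (.leaf (nat_lit 0x2200001c8cafdc5713437ba1bf98e2cc73a93836000aa00007e2297f88bbd25ee94d2726538c8a2615b002a800014080a0cb4e672773946d29ee9512d2f5080022000050a5203b0f8c07b603c729e794efaa7d4f000000001a7acd5c76b76361b1c690e0486a6134b4c00ee000022f695b188dac48d62ab1157891ea0c95f00088000138dc9ad64f2527529319299c94be1ab35000220000552a209694a82a4413ef59fbacf9967fee)) (.leaf (nat_lit 0x1258c9fca62a3b171df68affc553e0a471000aa000061212970d479ea4cf772bbbf5d4daca84000220000182aac1c15facaef657bb0bfd85e6535530002200005320a5b41a3a6cf534a6da576d278c984e003b800010fb4b859462823f4116c28a6149202238000aa00007f243ef25f1b8f9dc80203eb01f9c2ff57002a80000ae9a93400ef207b9042c61fe35baca510c00cc00006b2630b9d8c80c4c07aee3db718ebec3d5)))))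
noncomputable def J_0 : Tr := (.node (nat_lit 3) (.node (nat_lit 1) (.node (nat_lit 0) (.leaf (nat_lit 0x80040050010000000001001000000000000400000000010010018000000000000800000000000100020020010000004000000000000000000000040040020000000000000000000000400000000040040000000000000000000000c00400000000000000000000000000000000)) (.leaf (nat_lit 0x400000080080000000010020000000004000400400400100280040000000000000000001001400400000000100000000000000000001001000000200200000100040040060018000002000000000400400100040040000010004004002000000000000000000000000020000004004000001))) (.node (nat_lit 2) (.leaf (nat_lit 0x80000000008002002000000800000600100000000000040004004001001000000000000000000000040000000008000002000000200200000000020020010000000002007000000200200000180040000010000008000000000c004002000001800000000000000080010010008008002001)) (.leaf (nat_lit 0x200200080000000008008002002002002000400400100200000000000008004002000001800e00200080080000060010000004000000000000200200000000000080080008000000002000400400000000080000000000004004002000001800000a00000040040000000000010000000))))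 (.node (nat_lit 5) (.node (nat_lit 4) (.leaf (nat_lit 0x200000100000000008008000002000000000400000000140040010010000008000000000000000600000080000000040000000005001000400400600000000000000000010000000004800800400200300000000000010000008000000000000a00200000080000020000010004005001)) (.leaf (nat_lit 0x400080080080060010020000002001000000400400100040040000000028000007001000800000a000800800c0040000000000000002000400400600000000000000000000002002005001000c00000000000000000000000000000001001400400000000040040000020000010006003))) (.node (nat_lit 6) (.leaf (nat_lit 0x40008008008006000002000000000480080040000000000000000000001c00400200000180000000000000004000000000800a00200000000040020010000000000002800800200200500200040000010000000000000001000000000100140040020000000000000000000800a002001)) (.leaf (nat_lit 0xc0060000010000004003800800000000480080040000040020000000000001800200200200180040000000000008002000000800a002000000400400000000080000000000010000000004800800400000300200000000000004004002000001800000000000040040000020010004000003)))))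
noncomputable def F_0 : Tr := (.node (nat_lit 3) (.node (nat_lit 1) (.node (nat_lit 0) (.leaf (nat_lit 0xeffcf17e8f2a9e4f70b20ad1cb6dd24f4f8c5b9d5c25b63823a54b94eb66b8a11a862bd7663a4214674378f4143401c1)) (.leaf (nat_lit 0xfa9d79fde9a0b6e96af6ff34457673c7837add86f63924f2ec72648943e1427744aecc0519a0e87168df04a2d520c002))) (.node (nat_lit 2) (.leaf (nat_lit 0xea89e47bf723cf159adddd9456bb2db8e33ef4b2bce0f4091fbcb91b44854f5bf05d91218aa0a99a58017db61100d203)) (.leaf (nat_lit 0xea89e47bf723cf159adddd9456bb2db8e33ef4b2bce0f4091fbcb91b44854f5bf05d91218aa0a99a58017db61100d203)))) (.node (nat_lit 5) (.node (nat_lit 4) (.leaf (nat_lit 0xe309acbe36ff5d6c5f4e9d7eecf93c88dc942fd86deab948d15306e47152df67a8cd80cab82a9d9d006069c64044e244)) (.leaf (nat_lit 0xe309acbe36ff5d6c5f4e9d7eecf93c88dc942fd86deab948d15306e47152df67a8cd80cab82a9d9d006069c64044e244))) (.node (nat_lit 6) (.leaf (nat_lit 0xd7cfaf9b6fd8e9dd13e39a658a838dc3dced520ede648aac6e71a347731f107b900f2c4224bad705592170069648f285))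 (.leaf (nat_lit 0xe7dabe977cb36baff5a5246bf15a20361c6e7bbc0972f226624d877c58f83042a7d036d40adb193813e259d0174d02c6)))))
noncomputable def T : Tr := T_0
noncomputable def J : Tr := J_0
noncomputable def F : Tr := F_0
noncomputable def row (u : ℕ) : ℕ := Nat.land (Nat.shiftRight (force (Nat.shiftRight u (nat_lit 3)) T.get) (Nat.mul (Nat.land u (nat_lit 7)) (nat_lit 170))) (nat_lit 0x3ffffffffffffffffffffffffffffffffffffffffff)
noncomputable def jrow (u : ℕ) : ℕ := Nat.land (Nat.shiftRight (force (Nat.shiftRight u (nat_lit 3)) J.get) (Nat.mul (Nat.land u (nat_lit 7)) (nat_lit 117))) (nat_lit 0x1fffffffffffffffffffffffffffff)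
noncomputable def fget (k fx : ℕ) : ℕ := F.get (Nat.add k fx)
noncomputable def wt0 : LT := (.node (nat_lit 3) (.node (nat_lit 0) (.leaf 3 2 [nat_lit 34, nat_lit 17, nat_lit 51])
(.node (nat_lit 1) (.leaf 17 0 [nat_lit 119, nat_lit 85, nat_lit 102, nat_lit 0, nat_lit 68])
(.node (nat_lit 2) (.leaf 13 2 [nat_lit 102, nat_lit 0, nat_lit 68, nat_lit 119])
(.leaf 5 2 [nat_lit 68, nat_lit 0, nat_lit 0, nat_lit 0, nat_lit 0, nat_lit 0, nat_lit 85]))))
(.node (nat_lit 4) (.leaf 3 0 [nat_lit 51, nat_lit 17, nat_lit 34])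
(.leaf 0 0 [])))
noncomputable def wt1 : LT := (.node (nat_lit 3) (.node (nat_lit 1) (.node (nat_lit 0) (.leaf 13 4 [nat_lit 68, nat_lit 119, nat_lit 17, nat_lit 102])
(.leaf 19 3 [nat_lit 0, nat_lit 68, nat_lit 119, nat_lit 119]))
(.node (nat_lit 2) (.leaf 5 4 [nat_lit 0, nat_lit 0, nat_lit 0, nat_lit 0, nat_lit 85, nat_lit 17, nat_lit 68])
(.leaf 5 0 [nat_lit 85, nat_lit 17, nat_lit 68, nat_lit 0, nat_lit 0, nat_lit 0, nat_lit 0])))
(.node (nat_lit 7) (.node (nat_lit 5) (.node (nat_lit 4) (.leaf 17 4 [nat_lit 68, nat_lit 17, nat_lit 119, nat_lit 85, nat_lit 102])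
(.leaf 5 6 [nat_lit 0, nat_lit 0, nat_lit 85, nat_lit 17, nat_lit 68, nat_lit 0, nat_lit 0]))
(.node (nat_lit 6) (.leaf 5 7 [nat_lit 0, nat_lit 85, nat_lit 17, nat_lit 68, nat_lit 0, nat_lit 0, nat_lit 0])
(.leaf 19 4 [nat_lit 68, nat_lit 119, nat_lit 119, nat_lit 0])))
(.leaf 0 0 [])))
noncomputable def wt2 : LT := (.node (nat_lit 1) (.node (nat_lit 0) (.leaf 9 0 [nat_lit 51])
(.leaf 3 1 [nat_lit 17, nat_lit 34, nat_lit 17]))
(.node (nat_lit 2) (.leaf 11 3 [nat_lit 85, nat_lit 51, nat_lit 85])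
(.node (nat_lit 3) (.leaf 15 2 [nat_lit 102, nat_lit 34, nat_lit 68, nat_lit 119])
(.leaf 0 0 []))))
noncomputable def wt3 : LT := (.node (nat_lit 0) (.leaf 3 3 [nat_lit 17, nat_lit 51, nat_lit 17])
(.node (nat_lit 1) (.leaf 15 4 [nat_lit 68, nat_lit 119, nat_lit 51, nat_lit 102])
(.leaf 0 0 [])))
noncomputable def wt4 : LT := (.node (nat_lit 0) (.leaf 7 0 [nat_lit 85])
(.node (nat_lit 2) (.node (nat_lit 1) (.leaf 17 2 [nat_lit 102, nat_lit 0, nat_lit 68, nat_lit 17, nat_lit 119])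
(.leaf 11 0 [nat_lit 51, nat_lit 85, nat_lit 51]))
(.node (nat_lit 3) (.leaf 5 1 [nat_lit 17, nat_lit 68, nat_lit 0, nat_lit 0, nat_lit 0, nat_lit 0, nat_lit 0])
(.leaf 0 0 []))))
noncomputable def wt5 : LT := (.node (nat_lit 2) (.node (nat_lit 0) (.leaf 5 3 [nat_lit 0, nat_lit 0, nat_lit 0, nat_lit 0, nat_lit 0, nat_lit 85, nat_lit 17])
(.node (nat_lit 1) (.leaf 13 0 [nat_lit 119, nat_lit 17, nat_lit 102, nat_lit 0])
(.leaf 15 0 [nat_lit 119, nat_lit 51, nat_lit 102, nat_lit 34])))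
(.node (nat_lit 3) (.leaf 19 0 [nat_lit 119, nat_lit 119, nat_lit 0, nat_lit 0])
(.leaf 0 0 [])))
noncomputable def wt6 : LT := (.node (nat_lit 1) (.node (nat_lit 0) (.leaf 19 2 [nat_lit 0, nat_lit 0, nat_lit 68, nat_lit 119])
(.leaf 13 1 [nat_lit 17, nat_lit 102, nat_lit 0, nat_lit 68]))
(.node (nat_lit 3) (.node (nat_lit 2) (.leaf 19 1 [nat_lit 119, nat_lit 0, nat_lit 0, nat_lit 68])
(.leaf 17 1 [nat_lit 85, nat_lit 102, nat_lit 0, nat_lit 68, nat_lit 17]))
(.node (nat_lit 4) (.leaf 15 1 [nat_lit 51, nat_lit 102, nat_lit 34, nat_lit 68])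
(.leaf 0 0 []))))
noncomputable def wt7 : LT := (.node (nat_lit 2) (.node (nat_lit 0) (.leaf 13 3 [nat_lit 0, nat_lit 68, nat_lit 119, nat_lit 17])
(.node (nat_lit 1) (.leaf 15 3 [nat_lit 34, nat_lit 68, nat_lit 119, nat_lit 51])
(.leaf 17 3 [nat_lit 0, nat_lit 68, nat_lit 17, nat_lit 119, nat_lit 85])))
(.leaf 0 0 []))
noncomputable def wt8 : LT := (.leaf 0 0 [])
noncomputable def sl : List (ℕ × ℕ × List ℕ × List ℕ) := []
/-- the inverse column -/
noncomputable def icol (x : ℕ) : ℕ := List.getD [nat_lit 1, nat_lit 0, nat_lit 3, nat_lit 2, nat_lit 5, nat_lit 4, nat_lit 7, nat_lit 6] x x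
noncomputable def inv (x : ℕ) : ℕ := Nat.mul (icol (Nat.div x (nat_lit 17))) (nat_lit 17)
def cols : List ℕ := [nat_lit 136, nat_lit 0, nat_lit 17, nat_lit 34, nat_lit 51, nat_lit 68, nat_lit 85, nat_lit 102, nat_lit 119]
noncomputable def cl : CL := (.cons (nat_lit 0) (nat_lit 17) (nat_lit 0) (nat_lit 0) wt0
(.cons (nat_lit 17) (nat_lit 0) (nat_lit 13) (nat_lit 1) wt1
(.cons (nat_lit 34) (nat_lit 51) (nat_lit 26) (nat_lit 2) wt2
(.cons (nat_lit 51) (nat_lit 34) (nat_lit 39) (nat_lit 3) wt3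
(.cons (nat_lit 68) (nat_lit 85) (nat_lit 52) (nat_lit 4) wt4
(.cons (nat_lit 85) (nat_lit 68) (nat_lit 65) (nat_lit 5) wt5
(.cons (nat_lit 102) (nat_lit 119) (nat_lit 78) (nat_lit 6) wt6
(.cons (nat_lit 119) (nat_lit 102) (nat_lit 91) (nat_lit 7) wt7
.nil))))))))
def rels : List (List ℕ) := [[0, 0, 0, 0, 0, 0, 0, 0],
[0, 3, 0, 2],
[1, 1, 1, 1, 1, 5, 0, 4],
[4, 4],
[2, 2],
[4, 2, 4, 2],
[5, 1, 7, 0, 6],
[5, 3, 7, 2, 6],
[0, 5, 1, 7, 4, 6],
[5, 1, 1, 6, 6]]
def subs : List (List ℕ) := []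
noncomputable def chk : ℕ → Bool := rowChk row jrow fget sl cols (nat_lit 64) (nat_lit 64) (nat_lit 131071) (nat_lit 127) (nat_lit 131072) (nat_lit 136) (nat_lit 153) (nat_lit 8191) (nat_lit 6) (nat_lit 63) (nat_lit 6) (nat_lit 63) cl (nat_lit 104) wt8
theorem p0 : allB chk 6 0 = true := by decide +kernel
theorem all_chk : AllLt chk 64 := by
  have h := AllLt.zero chk
  have h := h.step 64 p0 (by decide +kernel)
  exact h
/-- column `x` of the final table -/
noncomputable def tab (x u : ℕ) : ℕ := ft fget (nat_lit 6) (nat_lit 63) (nat_lit 6) (nat_lit 63) (Nat.mul x (nat_lit 1)) u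
theorem enum {G Ω : Type*} [Group G] [MulAction G Ω] (g : ℕ → G) (ω : Ω)
    (hinv : ∀ x, g (icol x) = (g x)⁻¹) (h1 : g 8 = 1)
    (hrels : ∀ R ∈ rels, ev g R = 1) (hsubs : ∀ S ∈ subs, ev g S • ω = ω) :
    ∃ pt : ℕ → Ω, pt 0 = ω ∧ (∀ K : Subgroup G, (∀ x, g x ∈ K) → ∀ v, ∃ k ∈ K, pt v = k • ω) ∧
      ∀ x, x < 8 → ∀ u, u < 64 → tab x u < 64 ∧ g x • pt u = pt (tab x u) :=
  sound_scaled g ω row jrow fget sl inv icol cols (nat_lit 64) (nat_lit 64) (nat_lit 131071) (nat_lit 127) (nat_lit 131072) (nat_lit 136) (nat_lit 153) (nat_lit 8191) (nat_lit 6) (nat_lit 63) (nat_lit 6) (nat_lit 63) 7 cl (nat_lit 104) wt8 rels subs 17 (nat_lit 1) 8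
    (fun _ => Nat.mul_div_cancel _ (by decide)) hinv h1 hrels hsubs
    (by decide +kernel) (by decide +kernel) all_chk
end H70.FP2E

namespace H70.FP2
open H70.TM H18.TC Subgroup

noncomputable def rt : RT := ⟨nat_lit 64, nat_lit 6, nat_lit 63,
  (.node (nat_lit 31) (.node (nat_lit 15) (.node (nat_lit 7) (.node (nat_lit 3) (.node (nat_lit 1) (.node (nat_lit 0) (.leaf (nat_lit 0xffef7cefae78df6d74cf2c70beeb6caeaa689e69648e28607de75c6da6585d65544d24503ce34c2ca2481c61440c2040))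
(.leaf (nat_lit 0xc16f37fe74212de1f811a35397193576ed3a63daca5727e3fad03b0e6e546cfdb31afb2aa682118a07195c248e309141)))
(.node (nat_lit 2) (.leaf (nat_lit 0xbe8c6e95f898ab5d94a59f52ffc45e737cfe84decc5f99dbeac26b808cb88ce1f4170b4b1169a440375a5414cf280182))
(.leaf (nat_lit 0xdbca7e939eb7e3fbf2c74ce0d684dd5d8f6e36133b71f9b0889b2349652aada199b5b1442c89e53c278e05545000a1c3))))
(.node (nat_lit 5) (.node (nat_lit 4) (.leaf (nat_lit 0x982ef6e251e024f43f04a3299effb3a2c5435eda9ad0672293de7ceb001265edf5cb1bab4dd14e8e17db61651134b204))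
(.leaf (nat_lit 0x4cfdcbc18a9f8ad5e13a6206acd287031e2753c760d9af955a407f33d4330e97840a5d6ed3a66cca3ef96c9be845c485)))
(.node (nat_lit 6) (.leaf (nat_lit 0x48ebaabe12e742c5583c8985efd33627c51fe317031d9e97a110a528d8b4804d6907f7b7cfe6ade5baf28c0c1691d4c6))
(.leaf (nat_lit 0x81afb8d8d1263c90774169ed333eefb28cb9aa95c21b489cf130e4021e9948bff1575758f6e3857f08d4aca6c895e447)))))
(.node (nat_lit 11) (.node (nat_lit 9) (.node (nat_lit 8) (.leaf (nat_lit 0xa5ed89997adc8fd620470172a8c690e6ffe54bba21dca9340be13836d1f5e933c15a7cec5436ee1a2f0064bc5d39f508))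
(.leaf (nat_lit 0x97a371afec94b877b3d39f2fc37b2decb1167c8fd16d06039f571d8d96a15685f849392238ff4aa8c026d851a9801089)))
(.node (nat_lit 10) (.leaf (nat_lit 0xd6ece83227ea62ffd9f54a5bdbe1498f8c7c9a7925afa352e5d797c0ed377080724604cf41a87b100b16187b4b08354a))
(.leaf (nat_lit 0x9c332faa4192b103f5540ef19b6bbdf09042705e0e6475fa9737e889b2a0d1d63f529fa345eb5aacde70dc8c9384458b))))
(.node (nat_lit 13) (.node (nat_lit 12) (.leaf (nat_lit 0x7b7d162909cb87095a3781231fa1806d4f3121f47fefef53c9cd55bcfcee7660b990348e89962ba49b68176b2a0605cc))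
(.leaf (nat_lit 0x3f65426879498269ca33f062403cb9652eef15c3b8f24b6919fcf4c5ed6ca30580fba5118db5ea4cbf5d237bab12160d)))
(.node (nat_lit 14) (.leaf (nat_lit 0xf49fde86b5e3729ab0160474625584eb5d8c6e4ba6e02ef22bc4379d306fe6d2c768dc5d1804a855ff8350fcec22264e))
(.leaf (nat_lit 0x34097563b55b7442ef18393387fa29f9e1ca8d1dc8501af93318ae7d20b0cacab667df1c1494d65e7ea0e0ed2d99068f))))))
(.node (nat_lit 23) (.node (nat_lit 19) (.node (nat_lit 17) (.node (nat_lit 16) (.leaf (nat_lit 0x84a93fdcc07078b1361c297d375f31b9d180ad3616c958dfee9ebee600db509e2fd33a17b6c448726892a9a6459cf390))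
(.leaf (nat_lit 0xb4be0f82a6227d3ae62213955e70810f3dcd67eb30fd6f066bb1f696913103d25028cbe8cb951dd1c93a49ed6e1636d1)))
(.node (nat_lit 18) (.leaf (nat_lit 0x1a92e24d4bbeca46dfa3d64274881704d858cf70237a65b63ca17047ca84334b4e26b1f1e27e75695fd00dc97ab3bbd2))
(.leaf (nat_lit 0x144a904b8dfae518e758d6817260d50bd621d2e25bd48a0738c1af9312e92b3b0f03bdbc51fc9e65796281dffeb6bc13))))
(.node (nat_lit 21) (.node (nat_lit 20) (.leaf (nat_lit 0xc93263a52b241be65c76d6d6a0585810c817d76e623f00b779a2263bbac1355f512ea42ffe50332b4e07e9f9c3bbcc54))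
(.leaf (nat_lit 0x6c8a18d663cd11d1aa2ce85192997f7be662df38c0054e6bb8528c0a77f2c10bfd1f6278c7c593e925f470381aeecb55)))
(.node (nat_lit 22) (.leaf (nat_lit 0xc5dbec9dc8d7af3dd24dbb54e3b38f7f6d6480cf0d6009590ee2ea8451bf891415226f49042c3e1faa0ad04a5e6b9c96))
(.leaf (nat_lit 0x8e65a17883bda5c14ba8f624444fe5d7a690bb46c90b8cbbdc630a05f9f9be2c0dd87014f31a12f935737600d9aedb17)))))
(.node (nat_lit 27) (.node (nat_lit 25) (.node (nat_lit 24) (.leaf (nat_lit 0x8b00a03c546d4df209ade5fe381e27cc3287b1564b5bf1bcdb235a11c940c6398cdd0e52eef754929d35a21e9babdb98))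
(.leaf (nat_lit 0xd2d79cf5b77b57c523b1349ab919aa425c2bbffe9f2e02b82563a12245c79c6a453d8135d8c0f10b2dc1e62340a3ecd9)))
(.node (nat_lit 26) (.leaf (nat_lit 0xcecd5d36372b5f1e1bb524d9de420b8bfbfbc25fa7a833140283d89915767c51063a1a5e1ca83c079b82c90f495bad1a))
(.leaf (nat_lit 0x57d3dfb59a3cd3b4a2ba950ab0ec2b1e79aac780dc2616bf2c246017e6109724c8797073dcdeaf586d84023339764d5b))))
(.node (nat_lit 29) (.node (nat_lit 28) (.leaf (nat_lit 0xae720d7566b3c57b44e10de54cbd64fe238ff99c2c0ea50c607ec057999fdba6e1bc62b2a29f20b9107d7920b48c525c))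
(.leaf (nat_lit 0xedf9bd728674f15b29522bbf4aa7919503cee9abed80be0a876ac95f22271fe8d8c05339584c43de408dd530736c601d)))
(.node (nat_lit 30) (.leaf (nat_lit 0x3399f35fcd19a01271cbafb583875390f41a88ed85484a8036f8ec7145a61aeaf76ededf20ba426250e1fd157dc0729e))
(.leaf (nat_lit 0xaa514ca022b5bd8f41fc7da7a49cfee2345e91b9aeeab48d5d0f39d00c1cdc3660c72686753ee1b0e12d3d45958882df)))))))
(.node (nat_lit 47) (.node (nat_lit 39) (.node (nat_lit 35) (.node (nat_lit 33) (.node (nat_lit 32) (.leaf (nat_lit 0x1f113a472fae525c39f33d0379649c561377f582ab76722f400b5b4e8e0bed915ab231a9aa67ff381d4f09792224cda0))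
(.leaf (nat_lit 0x42f04338692c4a7980ef557a3c251fd20336b576aaa251711f9f59a5dfc9f1b20aba2c93af0738444cde598fa32cdde1)))
(.node (nat_lit 34) (.leaf (nat_lit 0x60c465b8a0afd6aa47d81fcdf5ec7cddc149ed2868e576e7ac4fbac83823e00530cf4595b2d9267484132d96867ce3e2))
(.leaf (nat_lit 0x5cd3a7b1a5b1ceb4d0dc4e0cb4fbfbd9f20bf1481d018665a819031ba862ff94a6d550b4bbdfb0a051e925b2b27117a3))))
(.node (nat_lit 37) (.node (nat_lit 36) (.leaf (nat_lit 0xb2a50e0cb8509d2ec89983d755f042834bbd6bab6f968c4566bd87fc4a7c24d02230ac16e72e1ccdd47e4f57b719b8e4))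
(.leaf (nat_lit 0x278c9a08434f9a03169f741c079543499fb33a217693ca6dd23bc6d4bc68b212baec06c87d4a97f5e4ee47f7581f0ae5)))
(.node (nat_lit 38) (.leaf (nat_lit 0x1351c0215edd6cd84392f1b92ca662cb097f4eb598b8c47307aa54f6cd9ef92382a1fd2d5e08f7150c496aaf1c3e7e26))
(.leaf (nat_lit 0x2ff18a58131ec213429761df100d3a51b935463237fbb4fd562c72cc9bddba0683f39645712ad8b4fa6c3b8a17426aa7)))))
(.node (nat_lit 43) (.node (nat_lit 41) (.node (nat_lit 40) (.leaf (nat_lit 0xf1cc2d7dd6d5ef4b934a3b3852b3ce9c77910cac7d849fda837a8b606165424897988340081bfadbe58cce9135672e68))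
(.leaf (nat_lit 0x201ac753fd8300e8a508c2847f0eb45ad5e056c2d9cc575044dcb1faf2536b5b9ee7cdfb49c18f6d89e3868e24f6a9a9)))
(.node (nat_lit 42) (.leaf (nat_lit 0x7e02b02d1153b6239e5c9afc207dcdc4008174650f6b657eff49d6423303cdc865e04e9b935b19efdcafba6e52629a2a))
(.leaf (nat_lit 0x7216a624e229f6344f60babb150d8cbf9584a3249e2b7d24e159421e237ad5f827fc10d9fb3b9bf2d1b1b300145d376b))))
(.node (nat_lit 45) (.node (nat_lit 44) (.leaf (nat_lit 0x9228698ee532f8677d65fa366d82453042c8e56d53c0fdc29bf5deaf438d07c72a81197a690cc0e3b2a7bed1f14950ec))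
(.leaf (nat_lit 0x4506046f7e39e8570d6a75878e10062a9aa6ca8792bceb81225575ef33fd0b174b0e4ffe662d0952b31fc2cdbc4d782d)))
(.node (nat_lit 46) (.leaf (nat_lit 0xfa38138ac486932a2d6dc7776572c8341245002ce999ed96c3860fa9544c13b7eb84e9c3287d79ffc6a5c7d42f534eae))
(.leaf (nat_lit 0xb48b21b3c5668a0feebce490198db1487d410b055b7d3dea60493b37b8e47892871d5cd8584079b6c2a33bae7d7f96f))))))
(.node (nat_lit 55) (.node (nat_lit 51) (.node (nat_lit 49) (.node (nat_lit 48) (.leaf (nat_lit 0x73439174f2864c83afb1c8025a6e31a69f8a6a097b0d3b51034d2b6edcf91445675c57d6218b6207bcb2abedf7a5ff0))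
(.leaf (nat_lit 0x5958c6cb5bc229aea40fb00be5b899205712049134f6d78f4e1529bb6b113bff9d7e860c8171d0c379ab37caa5cf89f1)))
(.node (nat_lit 50) (.leaf (nat_lit 0x511b2bc602651eed17785c08f2d3772fb49cfef7fa41b0d874e5a768c8d5841cd31383f6d642bd019a868b9982fa8a72))
(.leaf (nat_lit 0x686715d2fd4a096e7b0240cfe927d43918db1de432a5324bb6667da3f745236f2c8aeaa5c2b0448388579fe60cc77373))))
(.node (nat_lit 53) (.node (nat_lit 52) (.leaf (nat_lit 0x645757cf078c068cab25180ef939f83e46e3db58b911202ab0868d5a5706987c6d4372ffbfb0a90d46157fa84af2ef74))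
(.leaf (nat_lit 0x2b27f4571cda58203ce7ee9e0d471244e89940f1c64e92c9f706ed778a08177eee8ecae79aa10187f8189645cdbf6335)))
(.node (nat_lit 54) (.leaf (nat_lit 0xd9e941fda483800ae8a87ec2b4af0b56e722c454117341dc52811258f9a4ea97c5de7213773c69ef6f8ecc8e6ff5936))
(.leaf (nat_lit 0xe9b0d242d4c54795ac8dd72e695aa6f42006241d042351e8bd484e2d790aa6b9fb60f7e03367b297167ff0d8b0e33fb7)))))
(.node (nat_lit 59) (.node (nat_lit 57) (.node (nat_lit 56) (.leaf (nat_lit 0xe5201b113b5117a69d72c8e8586621a4a0d5787c903af06ed599883ebec2f57364a8b8b097f274333536fa77e0df1f38))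
(.leaf (nat_lit 0xe24b7bf0303fdb7cd5d46be6c6cf6eaab4dd9709fe8a382170fa1f64a6d7602d12a5438779130d25a2c5432201e96139)))
(.node (nat_lit 58) (.leaf (nat_lit 0xdfb4e4f800f6ff8c46bd5d61cdda68617b6c32037c7dcc268cbba25024aba8ac9bf592012459677963d1134387e5a43a))
(.leaf (nat_lit 0x75864800f98435b90e86a2eb1a21cac32a295b94f532ecd1517fc1d90f7e7a70df94281aeb4de3c6c17cb6f27855273b))))
(.node (nat_lit 61) (.node (nat_lit 60) (.leaf (nat_lit 0xa176c5e5ec01319f9182b26aca341a986753080a7336cd4e498e04dc7b643e5e9c9d684a0d5da2bee23bf712ffd147fc))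
(.leaf (nat_lit 0x3875c1676fc00c87cc2a50908a0e72693af019d3d4c51b04167d33f357ad5afa09ebee246e354b4aa35c9aedfba5887d)))
(.node (nat_lit 62) (.leaf (nat_lit 0xbab491e89807954f05c17798d1c116855b2d283f719ddbc86eadd0e014fb2cce6335a982006fdfd683a4a733f6c998be))
(.leaf (nat_lit 0x14e59069f4e2032a87ee89d0b25e04daeb43d018747112ccdbc057aaf16b5833eac98e69f82d53754b7925721dafeff)))))))),
  (nat_lit 0xfcfe26efae7da76d61ccbc70be7b4c16add0bbc4958d6d1e6a005c1df11846290d4e55e8f8e52cc8a2486c6ad90c2740),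
  (nat_lit 0xbdf79c71b6585555145134924914514103ce34d30c2cb28a2492492082071c61851451041040c3082081041040000000),
  (nat_lit 0x811040440421011020441020440811010410c20c21011011030811020440440c40811030811011030440c20440c2041),
  [nat_lit 1, nat_lit 2, nat_lit 3, nat_lit 4]⟩

theorem okA0 : rt.chkA 1 = true := by decide +kernel
theorem okA1 : rt.chkA 2 = true := by decide +kernel
theorem okA2 : rt.chkA 3 = true := by decide +kernel
theorem okA3 : rt.chkA 4 = true := by decide +kernel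
theorem okB : rt.chkB = true := by decide +kernel
noncomputable def tb : GT := ⟨rt, List.forall_mem_cons.2 ⟨okA0, List.forall_mem_cons.2 ⟨okA1, List.forall_mem_cons.2 ⟨okA2, List.forall_mem_cons.2 ⟨okA3, fun _ h => absurd h List.not_mem_nil⟩⟩⟩⟩, okB⟩

theorem hom_chk : homChk tb (nat_lit 0xfd3f73fae3fcb388f92db9fbeb7d0e32d997db5a30ca2c6faea0a95651a476181c7de69961059449134a2481c5103040) 64 FP2E.tab = true := by decide +kernel

/-- the group -/
abbrev E : Type := El tb

noncomputable def r : E := El.of tb 1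
noncomputable def x : E := El.of tb 2
noncomputable def y : E := El.of tb 3
noncomputable def w : E := El.of tb 4

theorem card : Nat.card E = 64 := El.card tb

theorem eq_top {K : Subgroup E} (h0 : r ∈ K) (h1 : x ∈ K) (h2 : y ∈ K) (h3 : w ∈ K) : K = ⊤ :=
  El.eq_top (List.forall_mem_cons.2 ⟨h0, List.forall_mem_cons.2 ⟨h1, List.forall_mem_cons.2 ⟨h2, List.forall_mem_cons.2 ⟨h3, fun _ h => absurd h List.not_mem_nil⟩⟩⟩⟩)

/-- the relations -/
def Rel {G : Type*} [Group G] (r x y w : G) : Prop :=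
  r * r * r * r * (r * r * r * r) = 1 ∧
  x * r * x⁻¹ = r⁻¹ ∧
  y * r * y⁻¹ = r * (r * r * r * r) ∧
  y * y = 1 ∧
  x * x = 1 ∧
  x * y * (x * y) = 1 ∧
  w * r * w⁻¹ = y * r ∧
  w * x * w⁻¹ = y * x ∧
  w * y * w⁻¹ = r⁻¹ * y * r ∧
  w * w = y * r * r

instance {G : Type*} [Group G] [DecidableEq G] (r x y w : G) : Decidable (Rel r x y w) := by
  unfold Rel; infer_instance

theorem Rel.map {G G' : Type*} [Group G] [Group G'] (f : G →* G') {r x y w : G}
    (h : Rel r x y w) : Rel (f r) (f x) (f y) (f w) := by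
  obtain ⟨h0, h1, h2, h3, h4, h5, h6, h7, h8, h9⟩ := h
  exact ⟨by simpa only [map_mul, map_inv, map_one] using congrArg f h0,
    by simpa only [map_mul, map_inv, map_one] using congrArg f h1,
    by simpa only [map_mul, map_inv, map_one] using congrArg f h2,
    by simpa only [map_mul, map_inv, map_one] using congrArg f h3,
    by simpa only [map_mul, map_inv, map_one] using congrArg f h4,
    by simpa only [map_mul, map_inv, map_one] using congrArg f h5,
    by simpa only [map_mul, map_inv, map_one] using congrArg f h6,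
    by simpa only [map_mul, map_inv, map_one] using congrArg f h7,
    by simpa only [map_mul, map_inv, map_one] using congrArg f h8,
    by simpa only [map_mul, map_inv, map_one] using congrArg f h9⟩

theorem Rel.of_map {G G' : Type*} [Group G] [Group G'] {f : G →* G'} (hf : Function.Injective f)
    {r x y w : G} (h : Rel (f r) (f x) (f y) (f w)) : Rel r x y w := by
  obtain ⟨h0, h1, h2, h3, h4, h5, h6, h7, h8, h9⟩ := h
  exact ⟨hf (by simpa only [map_mul, map_inv, map_one] using h0),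
    hf (by simpa only [map_mul, map_inv, map_one] using h1),
    hf (by simpa only [map_mul, map_inv, map_one] using h2),
    hf (by simpa only [map_mul, map_inv, map_one] using h3),
    hf (by simpa only [map_mul, map_inv, map_one] using h4),
    hf (by simpa only [map_mul, map_inv, map_one] using h5),
    hf (by simpa only [map_mul, map_inv, map_one] using h6),
    hf (by simpa only [map_mul, map_inv, map_one] using h7),
    hf (by simpa only [map_mul, map_inv, map_one] using h8),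
    hf (by simpa only [map_mul, map_inv, map_one] using h9)⟩

theorem Rel.prod {G G' : Type*} [Group G] [Group G'] {r x y w : G} {r' x' y' w' : G'}
    (h : Rel r x y w) (k : Rel r' x' y' w') :
    Rel (r, r') (x, x') (y, y') (w, w') := by
  obtain ⟨h0, h1, h2, h3, h4, h5, h6, h7, h8, h9⟩ := h
  obtain ⟨k0, k1, k2, k3, k4, k5, k6, k7, k8, k9⟩ := k
  exact ⟨Prod.ext h0 k0, Prod.ext h1 k1, Prod.ext h2 k2, Prod.ext h3 k3, Prod.ext h4 k4, Prod.ext h5 k5, Prod.ext h6 k6, Prod.ext h7 k7, Prod.ext h8 k8, Prod.ext h9 k9⟩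

theorem Rel.sat {G : Type*} [Group G] {r x y w : G} (h : Rel r x y w) :
    ∀ R ∈ FP2E.rels, ev (lt [r, x, y, w]) R = 1 := by
  obtain ⟨h0, h1, h2, h3, h4, h5, h6, h7, h8, h9⟩ := h
  exact List.forall_mem_cons.2 ⟨show r * (r * (r * (r * (r * (r * (r * (r * 1))))))) = 1 by
      simpa only [mul_assoc, mul_inv_rev, inv_inv, inv_one, mul_one, one_mul] using mul_inv_eq_one.2 h0,
    List.forall_mem_cons.2 ⟨show x * (r * (x⁻¹ * (r * 1))) = 1 by
      simpa only [mul_assoc, mul_inv_rev, inv_inv, inv_one, mul_one, one_mul] using mul_inv_eq_one.2 h1,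
    List.forall_mem_cons.2 ⟨show y * (r * (y⁻¹ * (r⁻¹ * (r⁻¹ * (r⁻¹ * (r⁻¹ * (r⁻¹ * 1))))))) = 1 by
      simpa only [mul_assoc, mul_inv_rev, inv_inv, inv_one, mul_one, one_mul] using mul_inv_eq_one.2 h2,
    List.forall_mem_cons.2 ⟨show y * (y * 1) = 1 by
      simpa only [mul_assoc, mul_inv_rev, inv_inv, inv_one, mul_one, one_mul] using mul_inv_eq_one.2 h3,
    List.forall_mem_cons.2 ⟨show x * (x * 1) = 1 by
      simpa only [mul_assoc, mul_inv_rev, inv_inv, inv_one, mul_one, one_mul] using mul_inv_eq_one.2 h4,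
    List.forall_mem_cons.2 ⟨show x * (y * (x * (y * 1))) = 1 by
      simpa only [mul_assoc, mul_inv_rev, inv_inv, inv_one, mul_one, one_mul] using mul_inv_eq_one.2 h5,
    List.forall_mem_cons.2 ⟨show w * (r * (w⁻¹ * (r⁻¹ * (y⁻¹ * 1)))) = 1 by
      simpa only [mul_assoc, mul_inv_rev, inv_inv, inv_one, mul_one, one_mul] using mul_inv_eq_one.2 h6,
    List.forall_mem_cons.2 ⟨show w * (x * (w⁻¹ * (x⁻¹ * (y⁻¹ * 1)))) = 1 by
      simpa only [mul_assoc, mul_inv_rev, inv_inv, inv_one, mul_one, one_mul] using mul_inv_eq_one.2 h7,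
    List.forall_mem_cons.2 ⟨show w * (y * (w⁻¹ * (r⁻¹ * (y⁻¹ * (r * 1))))) = 1 by
      simpa only [mul_assoc, mul_inv_rev, inv_inv, inv_one, mul_one, one_mul] using mul_inv_eq_one.2 h8,
    List.forall_mem_cons.2 ⟨show w * (w * (r⁻¹ * (r⁻¹ * (y⁻¹ * 1)))) = 1 by
      simpa only [mul_assoc, mul_inv_rev, inv_inv, inv_one, mul_one, one_mul] using mul_inv_eq_one.2 h9,
    fun _ h => absurd h List.not_mem_nil⟩⟩⟩⟩⟩⟩⟩⟩⟩⟩

theorem Rel.of_sat {G : Type*} [Group G] {r x y w : G}
    (h : ∀ R ∈ FP2E.rels, ev (lt [r, x, y, w]) R = 1) : Rel r x y w := by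
  obtain ⟨h0, h⟩ := List.forall_mem_cons.1 h
  obtain ⟨h1, h⟩ := List.forall_mem_cons.1 h
  obtain ⟨h2, h⟩ := List.forall_mem_cons.1 h
  obtain ⟨h3, h⟩ := List.forall_mem_cons.1 h
  obtain ⟨h4, h⟩ := List.forall_mem_cons.1 h
  obtain ⟨h5, h⟩ := List.forall_mem_cons.1 h
  obtain ⟨h6, h⟩ := List.forall_mem_cons.1 h
  obtain ⟨h7, h⟩ := List.forall_mem_cons.1 h
  obtain ⟨h8, h⟩ := List.forall_mem_cons.1 h
  obtain ⟨h9, h⟩ := List.forall_mem_cons.1 h
  exact ⟨mul_inv_eq_one.1 (by simpa only [mul_assoc, mul_inv_rev, inv_inv, inv_one, mul_one, one_mul] using (show r * (r * (r * (r * (r * (r * (r * (r * 1))))))) = 1 from h0)),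
    mul_inv_eq_one.1 (by simpa only [mul_assoc, mul_inv_rev, inv_inv, inv_one, mul_one, one_mul] using (show x * (r * (x⁻¹ * (r * 1))) = 1 from h1)),
    mul_inv_eq_one.1 (by simpa only [mul_assoc, mul_inv_rev, inv_inv, inv_one, mul_one, one_mul] using (show y * (r * (y⁻¹ * (r⁻¹ * (r⁻¹ * (r⁻¹ * (r⁻¹ * (r⁻¹ * 1))))))) = 1 from h2)),
    mul_inv_eq_one.1 (by simpa only [mul_assoc, mul_inv_rev, inv_inv, inv_one, mul_one, one_mul] using (show y * (y * 1) = 1 from h3)),
    mul_inv_eq_one.1 (by simpa only [mul_assoc, mul_inv_rev, inv_inv, inv_one, mul_one, one_mul] using (show x * (x * 1) = 1 from h4)),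
    mul_inv_eq_one.1 (by simpa only [mul_assoc, mul_inv_rev, inv_inv, inv_one, mul_one, one_mul] using (show x * (y * (x * (y * 1))) = 1 from h5)),
    mul_inv_eq_one.1 (by simpa only [mul_assoc, mul_inv_rev, inv_inv, inv_one, mul_one, one_mul] using (show w * (r * (w⁻¹ * (r⁻¹ * (y⁻¹ * 1)))) = 1 from h6)),
    mul_inv_eq_one.1 (by simpa only [mul_assoc, mul_inv_rev, inv_inv, inv_one, mul_one, one_mul] using (show w * (x * (w⁻¹ * (x⁻¹ * (y⁻¹ * 1)))) = 1 from h7)),
    mul_inv_eq_one.1 (by simpa only [mul_assoc, mul_inv_rev, inv_inv, inv_one, mul_one, one_mul] using (show w * (y * (w⁻¹ * (r⁻¹ * (y⁻¹ * (r * 1))))) = 1 from h8)),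
    mul_inv_eq_one.1 (by simpa only [mul_assoc, mul_inv_rev, inv_inv, inv_one, mul_one, one_mul] using (show w * (w * (r⁻¹ * (r⁻¹ * (y⁻¹ * 1)))) = 1 from h9))⟩

theorem rel : Rel r x y w := by decide +kernel

theorem model {G : Type*} [Group G] {r' x' y' w' : G} (h : Rel r' x' y' w') :
    ∃ φ : E →* G, φ r = r' ∧ φ x = x' ∧ φ y = y' ∧ φ w = w' := by
  obtain ⟨pt, h0, -, hT⟩ := FP2E.enum (lt [r', x', y', w']) (1 : G)
    (lt_icol _ _ (k := 4) rfl (by decide +kernel)) (lt_ge le_rfl) h.sat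
    (fun _ h => absurd h List.not_mem_nil)
  obtain ⟨φ, hφ⟩ := exists_hom tb (l := [r', x', y', w']) rfl h0 hT hom_chk
  exact ⟨φ, by simpa only [List.cons.injEq, and_true] using
    (show [φ r, φ x, φ y, φ w] = [r', x', y', w'] from hφ)⟩

end H70.FP2
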