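import Mathlib
import Cfsg.Agent.Base
import Cfsg.Agent.Lib.M12C.Tab

/-! a group of order 64 (helper70; generated) -/

set_option autoImplicit false
set_option maxRecDepth 100000

namespace H70.FP3E
open H54 (Tr force band)
open H18.TC
noncomputable def T_0 : Tr := (.node (nat_lit 3) (.node (nat_lit 1) (.node (nat_lit 0) (.leaf (nat_lit 0x8800010ec88668402f1f57834b8195c0bff3217400cc00002d2f047fd5cbeafdf0a30053808ec21c62003b8000021fe266334721ab90e0ca70e52f732839c00aa000017b4289a415fe0bff07b703fb884d4a86b00198000058d8646d0737035b805fe03ff04bb815c800000000183798dc072e2387103b9019c87ce601ff0008800007ae83c7510bb081d810ee09f7007f861e000000000093c845e818f60b7b023e00df004fa017e)) (.leaf (nat_lit 0x3b80000c5faaaeb417a20fd118a08a505aab9a99000aa00003fba971986ffa38fd1da88e744b5bcc45800088000138ac79541ba88d9440bfa06fd027e0fd480000000052f4ad17c99c64de320a910148c2a63dfd00330000086d43cfe423820dc102a8825459af9f75400ee00001dff1fbc53cce9d674dab269594ad2b857003b800003dc44c6f0fff083f848b624db60ec09d8c004400000b2c9d16846b6225b053f01ff836b808fc)))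 (.node (nat_lit 2) (.leaf (nat_lit 0x19800010bf02efb5d6badd5c59d82dec18b7a159800ee000050fda99cd45aaa7556fe33831947c4a4f50000000008cc242f464eeb1975969ccdce3671907ec0022000055b82a39d5aa6aa537ba6bcd354ff6ac5e003b80000558e2bfc4a24257205cd02d6846a48c93c00ee000031fe3ff28deca6e6533b219990c9968950002a8000026c0544c067e037f020f60efb7a26b3b3800cc000025fb0bff48ac244611a278cd3cb0aa30e8)) (.leaf (nat_lit 0x3300000a6a412ee3ba21d9102af213f90bac9472c00aa00003629917a887de44ef25259432cd0c846f90008800018eba1f7630331759839b21dd90dfca91a400ee000012fd2d95c9ce64d7314a38a11c4dec6d6a00198000182b086f835bd1a5e8cbda66ed34f819f8400aa000069a29c948dbda6eed38bd1bfe8e6b48e49003b80000b7e262532e7117f8921928fc9427417de800aa000054b5b157539ea9df5502d27b6942f4af5f)))) (.node (nat_lit 5) (.node (nat_lit 4) (.leaf (nat_lit 0x2a8000185bec0e45f61aff0dab8ad4c561f8b09d800cc00002ee8857dd24928f490f3107589be8c16e0000000000e7eecd4e4c2b263593ece9fe73aa21cb9400aa00003d2a12b2c43ee22f712bb08fd8548ed445001980000f79894c87e253fd2831f019f8752106bdc00ee00006273b1b898bd4ca6a76e13b3098ff0c8c3003b80000b1aa59f93e7c1ffe1f494f94a55f596dc40088000059f9b0d6160f2adf958a22c7115dceb2f4))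 (.leaf (nat_lit 0x22000019f9ce8c145aa21f5113e08bf04476a4d2000ee00001a67979646be436f21d388ebc5a28afdca000880000e3ca52e0282393b1c7fe640f31f7939b040000000030f31af8553d6aceb7320b9f057c8660f3000000000f1e479db442822b4103e880f43d661df10006600005ea1965794dd2a3692ae615b30fce857ef000880001eb9a9bf24cad25f6933ea9af54b6437918000000005af1af10d6dd0bb685ca42e9216feab4f0))) (.node (nat_lit 6) (.leaf (nat_lit 0x8800012ab8d2454b3624fb173aeb8d7496825d580000000077613df351db291d94833245991bca8cec00198000200dafcc47f6e3ef71f1bcf9de7f28beb3400aa000025adbc3088f9e48cf28b092784a4c0656d003b80000a7dc7c5c71a337518aeaa56552a679ed50008800007c24bd959ea82f1c17975bdbadf694f3ee00110000199b4d05078213ad099cd4caea67b732f1c0022000072208d5449296484b19778cfbc63d8554c)) (.leaf (nat_lit 0x2200001b688dc466ca2b5b15af86d9c372a0bb10800cc000074a838f3de49af4cd7429b974dcea4e4c0000000001e296ef4975673bf39dabaee5d75e03a77000ee00005debaf35580b0bf586d203610192babdd3000000001fa94dac03af01db8164beb0df3c2a1d3680000000068e434b95ae80d8c06aac35961a7b6d0d1003b80001b780e2476e6638b31c2d2e0696eeb37b640066000070e30adb09ea44fd213f18a38d989c29db)))))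
noncomputable def J_0 : Tr := (.node (nat_lit 3) (.node (nat_lit 1) (.node (nat_lit 0) (.leaf (nat_lit 0x1001000000000100100000040000040000000001001000000c002000000800400600000000020020010000004000000000000000000000040040020000000000000000000000000000000040040000000000000000000000c00400000000000000000000000000000000)) (.leaf (nat_lit 0x400400200300080000000000000000000000800800400000300100000000000000000000001001400400000000080000040010000000001001000000200200000000000000000010002002001000000000000000000000010010000004002000000801c00000000000000000000004004000003))) (.node (nat_lit 2) (.leaf (nat_lit 0xc00600400040040020000000002002000000800000400100080100000000010010000000000800600200000000140000000000002002000000400400200000100000000000000002002001000000000000000080000000000004004002000001800000600000140040000000000000000002)) (.leaf (nat_lit 0x200200000000000080000018000000004800800400000100000080000000000000000001001400400000080080000000000000000002000000000000400000040040020020008000000000800800400000300000000010010000004002001001000c0000000000002002001000000c000000))))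 (.node (nat_lit 5) (.node (nat_lit 4) (.leaf (nat_lit 0x40090010008004004003000000000500100000000000000000008000001000000000400000080020020000000016002001000000c00000000000040020000004004002000000800200200100080000020020008010001001000800c002000000001800000000080000010010000004004001)) (.leaf (nat_lit 0x800400080080080060020000002002000000800400000100000040000020020000006001001400400400000080040020010000010001001000000400400000080040040058008000000000002000200200100000040000030018000004002000c00400000000080000040000000000007001))) (.node (nat_lit 6) (.leaf (nat_lit 0x100040050010000000002002002000c000000002400400000000180140070010008000002000000000a002001000000c00000000040040000000000000000001000000000000000040040040040000014000002000000000000080080000060000000000000000000800a002000)) (.leaf (nat_lit 0x80080080060000000000001001000000400000400000080000000000008008000000001200200080080040000000000000000004000000000a002000800000600080080000020020000004000000001c004001001000000c008000000000400800000100000000018008004000001)))))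
noncomputable def F_0 : Tr := (.node (nat_lit 3) (.node (nat_lit 1) (.node (nat_lit 0) (.leaf (nat_lit 0xf7f8ec96e9a4a53c92ad1e33df5f8ced0e4f25f6ba23c38bd065957b616064a121c2fc576e7b42aa870389d6143401c1)) (.leaf (nat_lit 0xfadfe2ae4a71bdab9fc354534ba37cccbdca3b9ef8f4751899b1893e55c541d704db4caaa210ec8169e305e65520c002))) (.node (nat_lit 2) (.leaf (nat_lit 0xf2c8bf82759ca1985ea945503ce33e2f32b7e9d6091fdd7b1b49b8485da54f9c725db130bee0adae99018df69100d203)) (.leaf (nat_lit 0xf2c8bf82759ca1985ea945503ce33e2f32b7e9d6091fdd7b1b49b8485da54f9c725db130bee0adae99018df69100d203)))) (.node (nat_lit 5) (.node (nat_lit 4) (.leaf (nat_lit 0xeb2c677ffced4e68f0e7ef74acde14bd6957f36a48d551c6ed064c15274aa2a8acdda0de2c2b9c3d80648606c044e244)) (.leaf (nat_lit 0xeb2c677ffced4e68f0e7ef74acde14bd6957f36a48d551c6ed064c15274aa2a8acdda0de2c2b9c3d80648606c044e244))) (.node (nat_lit 6) (.leaf (nat_lit 0xe70daafdae13eb2efd8e9beefa67de92137c6c8c74ddd1a74552681edb2210c2d80f5cc2519ae004e4255c071648f285))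 (.leaf (nat_lit 0xeefd28d77ff98fd4a447697ec7069937cc9c82e22bcd8a8cb6c8859fa3941c478fe037c908aa565417666e10174d02c6)))))
noncomputable def T : Tr := T_0
noncomputable def J : Tr := J_0
noncomputable def F : Tr := F_0
noncomputable def row (u : ℕ) : ℕ := Nat.land (Nat.shiftRight (force (Nat.shiftRight u (nat_lit 3)) T.get) (Nat.mul (Nat.land u (nat_lit 7)) (nat_lit 170))) (nat_lit 0x3ffffffffffffffffffffffffffffffffffffffffff)
noncomputable def jrow (u : ℕ) : ℕ := Nat.land (Nat.shiftRight (force (Nat.shiftRight u (nat_lit 3)) J.get) (Nat.mul (Nat.land u (nat_lit 7)) (nat_lit 117))) (nat_lit 0x1fffffffffffffffffffffffffffff)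
noncomputable def fget (k fx : ℕ) : ℕ := F.get (Nat.add k fx)
noncomputable def wt0 : LT := (.node (nat_lit 2) (.node (nat_lit 0) (.leaf 3 0 [nat_lit 51, nat_lit 17, nat_lit 34])
(.node (nat_lit 1) (.leaf 13 2 [nat_lit 102, nat_lit 0, nat_lit 68, nat_lit 119])
(.leaf 3 2 [nat_lit 34, nat_lit 17, nat_lit 51])))
(.node (nat_lit 4) (.node (nat_lit 3) (.leaf 17 0 [nat_lit 119, nat_lit 85, nat_lit 102, nat_lit 0, nat_lit 68])
(.leaf 5 2 [nat_lit 68, nat_lit 0, nat_lit 0, nat_lit 0, nat_lit 0, nat_lit 0, nat_lit 85]))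
(.leaf 0 0 [])))
noncomputable def wt1 : LT := (.node (nat_lit 2) (.node (nat_lit 0) (.leaf 19 0 [nat_lit 119, nat_lit 119, nat_lit 0, nat_lit 68])
(.node (nat_lit 1) (.leaf 13 4 [nat_lit 68, nat_lit 119, nat_lit 17, nat_lit 102])
(.leaf 5 7 [nat_lit 0, nat_lit 85, nat_lit 17, nat_lit 68, nat_lit 0, nat_lit 0, nat_lit 0])))
(.node (nat_lit 6) (.node (nat_lit 3) (.leaf 5 6 [nat_lit 0, nat_lit 0, nat_lit 85, nat_lit 17, nat_lit 68, nat_lit 0, nat_lit 0])
(.node (nat_lit 4) (.leaf 5 5 [nat_lit 0, nat_lit 0, nat_lit 0, nat_lit 85, nat_lit 17, nat_lit 68, nat_lit 0])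
(.node (nat_lit 5) (.leaf 5 0 [nat_lit 85, nat_lit 17, nat_lit 68, nat_lit 0, nat_lit 0, nat_lit 0, nat_lit 0])
(.leaf 5 4 [nat_lit 0, nat_lit 0, nat_lit 0, nat_lit 0, nat_lit 85, nat_lit 17, nat_lit 68]))))
(.leaf 0 0 [])))
noncomputable def wt2 : LT := (.node (nat_lit 0) (.leaf 9 0 [nat_lit 51])
(.node (nat_lit 1) (.leaf 3 1 [nat_lit 17, nat_lit 34, nat_lit 17])
(.node (nat_lit 2) (.leaf 11 3 [nat_lit 85, nat_lit 51, nat_lit 85])
(.node (nat_lit 3) (.leaf 15 2 [nat_lit 102, nat_lit 34, nat_lit 68, nat_lit 119])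
(.leaf 0 0 [])))))
noncomputable def wt3 : LT := (.node (nat_lit 0) (.leaf 3 3 [nat_lit 17, nat_lit 51, nat_lit 17])
(.node (nat_lit 1) (.leaf 15 4 [nat_lit 68, nat_lit 119, nat_lit 51, nat_lit 102])
(.leaf 0 0 [])))
noncomputable def wt4 : LT := (.node (nat_lit 0) (.leaf 7 0 [nat_lit 85])
(.node (nat_lit 2) (.node (nat_lit 1) (.leaf 5 1 [nat_lit 17, nat_lit 68, nat_lit 0, nat_lit 0, nat_lit 0, nat_lit 0, nat_lit 0])
(.leaf 11 0 [nat_lit 51, nat_lit 85, nat_lit 51]))
(.node (nat_lit 3) (.leaf 17 2 [nat_lit 102, nat_lit 0, nat_lit 68, nat_lit 17, nat_lit 119])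
(.leaf 0 0 []))))
noncomputable def wt5 : LT := (.node (nat_lit 2) (.node (nat_lit 0) (.leaf 13 0 [nat_lit 119, nat_lit 17, nat_lit 102, nat_lit 0])
(.node (nat_lit 1) (.leaf 19 4 [nat_lit 0, nat_lit 119, nat_lit 119, nat_lit 0])
(.leaf 15 0 [nat_lit 119, nat_lit 51, nat_lit 102, nat_lit 34])))
(.node (nat_lit 4) (.node (nat_lit 3) (.leaf 5 3 [nat_lit 0, nat_lit 0, nat_lit 0, nat_lit 0, nat_lit 0, nat_lit 85, nat_lit 17])
(.leaf 17 5 [nat_lit 17, nat_lit 119, nat_lit 85, nat_lit 102, nat_lit 0]))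
(.leaf 0 0 [])))
noncomputable def wt6 : LT := (.node (nat_lit 1) (.node (nat_lit 0) (.leaf 19 1 [nat_lit 119, nat_lit 0, nat_lit 68, nat_lit 0])
(.leaf 19 2 [nat_lit 0, nat_lit 68, nat_lit 0, nat_lit 119]))
(.node (nat_lit 4) (.node (nat_lit 2) (.leaf 15 1 [nat_lit 51, nat_lit 102, nat_lit 34, nat_lit 68])
(.node (nat_lit 3) (.leaf 17 1 [nat_lit 85, nat_lit 102, nat_lit 0, nat_lit 68, nat_lit 17])
(.leaf 13 1 [nat_lit 17, nat_lit 102, nat_lit 0, nat_lit 68])))
(.leaf 0 0 [])))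
noncomputable def wt7 : LT := (.node (nat_lit 1) (.node (nat_lit 0) (.leaf 13 3 [nat_lit 0, nat_lit 68, nat_lit 119, nat_lit 17])
(.leaf 15 3 [nat_lit 34, nat_lit 68, nat_lit 119, nat_lit 51]))
(.node (nat_lit 2) (.leaf 17 3 [nat_lit 0, nat_lit 68, nat_lit 17, nat_lit 119, nat_lit 85])
(.leaf 0 0 [])))
noncomputable def wt8 : LT := (.leaf 0 0 [])
noncomputable def sl : List (ℕ × ℕ × List ℕ × List ℕ) := []
/-- the inverse column -/
noncomputable def icol (x : ℕ) : ℕ := List.getD [nat_lit 1, nat_lit 0, nat_lit 3, nat_lit 2, nat_lit 5, nat_lit 4, nat_lit 7, nat_lit 6] x x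
noncomputable def inv (x : ℕ) : ℕ := Nat.mul (icol (Nat.div x (nat_lit 17))) (nat_lit 17)
def cols : List ℕ := [nat_lit 136, nat_lit 0, nat_lit 17, nat_lit 34, nat_lit 51, nat_lit 68, nat_lit 85, nat_lit 102, nat_lit 119]
noncomputable def cl : CL := (.cons (nat_lit 0) (nat_lit 17) (nat_lit 0) (nat_lit 0) wt0
(.cons (nat_lit 17) (nat_lit 0) (nat_lit 13) (nat_lit 1) wt1
(.cons (nat_lit 34) (nat_lit 51) (nat_lit 26) (nat_lit 2) wt2
(.cons (nat_lit 51) (nat_lit 34) (nat_lit 39) (nat_lit 3) wt3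
(.cons (nat_lit 68) (nat_lit 85) (nat_lit 52) (nat_lit 4) wt4
(.cons (nat_lit 85) (nat_lit 68) (nat_lit 65) (nat_lit 5) wt5
(.cons (nat_lit 102) (nat_lit 119) (nat_lit 78) (nat_lit 6) wt6
(.cons (nat_lit 119) (nat_lit 102) (nat_lit 91) (nat_lit 7) wt7
.nil))))))))
def rels : List (List ℕ) := [[0, 0, 0, 0, 0, 0, 0, 0],
[0, 3, 0, 2],
[1, 1, 1, 1, 1, 5, 0, 4],
[4, 4],
[2, 2],
[4, 2, 4, 2],
[5, 1, 7, 0, 6],
[5, 3, 7, 2, 6],
[0, 5, 1, 7, 4, 6],
[1, 5, 1, 6, 6]]
def subs : List (List ℕ) := []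
noncomputable def chk : ℕ → Bool := rowChk row jrow fget sl cols (nat_lit 64) (nat_lit 64) (nat_lit 131071) (nat_lit 127) (nat_lit 131072) (nat_lit 136) (nat_lit 153) (nat_lit 8191) (nat_lit 6) (nat_lit 63) (nat_lit 6) (nat_lit 63) cl (nat_lit 104) wt8
theorem p0 : allB chk 6 0 = true := by decide +kernel
theorem all_chk : AllLt chk 64 := by
  have h := AllLt.zero chk
  have h := h.step 64 p0 (by decide +kernel)
  exact h
/-- column `x` of the final table -/
noncomputable def tab (x u : ℕ) : ℕ := ft fget (nat_lit 6) (nat_lit 63) (nat_lit 6) (nat_lit 63) (Nat.mul x (nat_lit 1)) u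
theorem enum {G Ω : Type*} [Group G] [MulAction G Ω] (g : ℕ → G) (ω : Ω)
    (hinv : ∀ x, g (icol x) = (g x)⁻¹) (h1 : g 8 = 1)
    (hrels : ∀ R ∈ rels, ev g R = 1) (hsubs : ∀ S ∈ subs, ev g S • ω = ω) :
    ∃ pt : ℕ → Ω, pt 0 = ω ∧ (∀ K : Subgroup G, (∀ x, g x ∈ K) → ∀ v, ∃ k ∈ K, pt v = k • ω) ∧
      ∀ x, x < 8 → ∀ u, u < 64 → tab x u < 64 ∧ g x • pt u = pt (tab x u) :=
  sound_scaled g ω row jrow fget sl inv icol cols (nat_lit 64) (nat_lit 64) (nat_lit 131071) (nat_lit 127) (nat_lit 131072) (nat_lit 136) (nat_lit 153) (nat_lit 8191) (nat_lit 6) (nat_lit 63) (nat_lit 6) (nat_lit 63) 7 cl (nat_lit 104) wt8 rels subs 17 (nat_lit 1) 8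
    (fun _ => Nat.mul_div_cancel _ (by decide)) hinv h1 hrels hsubs
    (by decide +kernel) (by decide +kernel) all_chk
end H70.FP3E

namespace H70.FP3
open H70.TM H18.TC Subgroup

noncomputable def rt : RT := ⟨nat_lit 64, nat_lit 6, nat_lit 63,
  (.node (nat_lit 31) (.node (nat_lit 15) (.node (nat_lit 7) (.node (nat_lit 3) (.node (nat_lit 1) (.node (nat_lit 0) (.leaf (nat_lit 0xffef7cefae78df6d74cf2c70beeb6caeaa689e69648e28607de75c6da6585d65544d24503ce34c2ca2481c61440c2040))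
(.leaf (nat_lit 0xbe75fbdbf1d084b7b713068d4e5583cb4f9d63ca0a9317edf6303ae66e153f5cdb1aeb2baa92148a071944248e309141)))
(.node (nat_lit 2) (.leaf (nat_lit 0xb9fa70ca5d6262be55abb67c4bf460db3f5c84de8c5389ecf9b268788c77387d2316fb4b1179a440375a5814cf280182))
(.leaf (nat_lit 0xd78eeaf64bbedb7ff1c29d3383971263cc9136133a4df9af8896ed75756b6866458eca042c89e53c278e05651000a1c3))))
(.node (nat_lit 5) (.node (nat_lit 4) (.leaf (nat_lit 0x981fc62b740c7af3c2940d47aa7d3eb24e6952dadaf7a4e25bce3bcc9b9d8360f2c70645712a0e8e17db61755134b204))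
(.leaf (nat_lit 0x4d83f62ef46b7e28e138d9881a8d4cc379c057b76029af565e407f1fc433a9e1390a50f2d3e65bc6deb8b09ba951c485)))
(.node (nat_lit 6) (.leaf (nat_lit 0x4a13b2aee58b9d06d83fc22617a1caed57c9df0703319f91a540a5d4d8b4139a9e07f836cfd6a3e2ca31b40bd791d4c6))
(.leaf (nat_lit 0x80d6bddf504498f2764335e78cc180a71e1baea442eb489ced30e4ba1f992ffc1d5b9498f323857efb55a0ab0895e507)))))
(.node (nat_lit 11) (.node (nat_lit 9) (.node (nat_lit 8) (.leaf (nat_lit 0xa9480abe66054e3f1e447268c6bd8d002078746a616b55b4ffd13742d30370f9735e7fac9396f2ea2eee64bc1239f548))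
(.leaf (nat_lit 0x97df8dc287b15721f3d36e3bbafb2d2c45fa7c8fd46d06039f971d8d96a1a51de44935a238ff0aacc026d451aa801089)))
(.node (nat_lit 10) (.leaf (nat_lit 0xe62cb3a4cfdfad8b99f3d56ab35a2fdf0eed9a792517e352e1d79124ed36201c5352070f41a87a1006d71878cb08358a))
(.leaf (nat_lit 0x9d6e4702b3fa76c40390ab86c26662be5ffb4e8dcec8c53e0737e9f1bd5e4980bd56ad23460b5a14de09d88c5c8445cb))))
(.node (nat_lit 13) (.node (nat_lit 12) (.leaf (nat_lit 0x790db45ca9672e1bda37edc4b47eae57bc2c21f53f1bdf13c5ce5600fcf2982e1290374e899628a898e91756eb06044c))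
(.leaf (nat_lit 0x3cc2a4fda9c1bde9b51f90a5890ef0746019a133b7c56b6ae9fcf4e200ec257b95f7ea518db52b70bf12236c8512160d)))
(.node (nat_lit 14) (.leaf (nat_lit 0xf05bc2821ad48d3a89a01791d18de70ca1fe6d6ca65ff1b1d7b43611c940b4b33068de12eae76991ff7954fcec22264e))
(.leaf (nat_lit 0x346b810d82e46d2100e82e56ce155f80cd7d8d1d88a651781f08b2a9dfc9b2b2bb67cc53a2f717527f9edced2d99068f))))))
(.node (nat_lit 23) (.node (nat_lit 19) (.node (nat_lit 17) (.node (nat_lit 16) (.leaf (nat_lit 0x847d560b61252602ca303fc1f0dc784babb215c617ee48df1aafbdc1ee5bbf7029d33554b6c4484e689dada6689cf390))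
(.leaf (nat_lit 0xb4899785e14ef2a70bac43d8914081f9a439cb4b09ff7c7ad8630a95f9f88af340d47b95ef0a52f535b37600d9a236d1)))
(.node (nat_lit 18) (.leaf (nat_lit 0x195a8b893b32f7191fa48f1909d794361601cf602d8265f53ca16f47bac4d23387268330de7e39696fd00dc97e6fab92))
(.leaf (nat_lit 0x17712b412b76fb85275e635a05ce64f18842d3226c0c8a4738c1ae5b02eacdb3f503a2bb55fc5e65196281dffd8e8bd3))))
(.node (nat_lit 21) (.node (nat_lit 20) (.leaf (nat_lit 0x8eb2f73e0a1889f4e622784e591fe5cf634367d6ef097ec66ba1f506a130f0942e28c029c7855dd1c93e49ee7216db14))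
(.leaf (nat_lit 0xc5d72f8ea66c5baf534a8b5b5e93ce1de5040cae22849ff681a22660616593c4502eb340081bb3d74dccf9f9f9cbbc15)))
(.node (nat_lit 22) (.leaf (nat_lit 0xb2622963918f34476b2ea3a1524042f5989edb3b40955e28c8528cfe77f142ef091f5bf7c3b5d3f9247470381ae9b8d6))
(.leaf (nat_lit 0xc13480b27da3505cdd7066ed57762128359f787ecd3ae059e722eb3e8e8245093c2268af97f27d33ea75d04aa06b8c57)))))
(.node (nat_lit 27) (.node (nat_lit 25) (.node (nat_lit 24) (.leaf (nat_lit 0x8a827f78f211b5c7ef165814f4e5c4e75333b2464bdc2ebb2b135a9d306e8e61f8d90c1d1804955aad03a61f9bafcc98))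
(.leaf (nat_lit 0xd1bb604fc5521a4ee3b1171d6b22c8049150002f9f99ed77bd73a1ad650ceaaa043d89c3287e70ff1da5e2236ea7dcd9)))
(.node (nat_lit 26) (.leaf (nat_lit 0xce3b0348ddd3154c1bb5675c676ae60801a2241f672391d5ba93d82d190aa04eaa3a17e03357bb978cbfc50f2f5fed1a))
(.leaf (nat_lit 0x9328a1aad755c7d1bc6587e9d6cbe810b20ce17e5324fd829bf45e17438dedcae581407e690cc0dfa2a7ba31f04960db))))
(.node (nat_lit 29) (.node (nat_lit 28) (.leaf (nat_lit 0xa179c835d8dacf0444dcb4369530d688e3fff59bdbe6b54c607e8093899ffac84ab86d71a6aee0c9407c7920b4b4525c))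
(.leaf (nat_lit 0xea97e6f1c6d9d3b5aa56b8b2fd281140f3a5f9aba378bdca875a09531227f6d60cbc51f85c4c03da408de53073b0601d)))
(.node (nat_lit 30) (.leaf (nat_lit 0x33be27cd1274669070c77fbde6049c3d06a488ed45744ac036eb5b4d55e6ca8dbab2319f20ba826250e1fd45bcbc729e))
(.leaf (nat_lit 0xaff0681e9f350c06250af30a9eafb48d183759b9b2cc574d510ef8f6e253e5979ac31dba49c1a1b0e12d3d55e48882df)))))))
(.node (nat_lit 47) (.node (nat_lit 39) (.node (nat_lit 35) (.node (nat_lit 33) (.node (nat_lit 32) (.leaf (nat_lit 0x1f1c04f94bfdc95978ed7cf40de75384dd96f182a84a722e4008ec729dcb6456866edeaaae67ff381e4f09192224cd60))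
(.leaf (nat_lit 0x43a025e4e996b1d9ee1bf0e4f8fa6a7872b4b546ab541a30338f197d20af6c8d71ca2edc1494f7444ce05d8f632cdda1)))
(.node (nat_lit 34) (.leaf (nat_lit 0x6351d1072abf003acc2a094237ce314e8bf619d869c146e7144f7eef97a3b95257cf4de4b2d5a648841c2d96ba7ce3e2))
(.leaf (nat_lit 0x53641812c737e3e14d6a19d71edbbaaab98ac6979200ec812255b91b33fcc1d2ff0e40bd662d0956831fbdbd7b4d1823))))
(.node (nat_lit 37) (.node (nat_lit 36) (.leaf (nat_lit 0x6cbad5383ea142748899f60f45697fd32f206be8ee069c05668d47084abb3408af30a257e31ddccdd53d4f97b61acb64))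
(.leaf (nat_lit 0x244df168230d3e68179f8d9070193967dcd23a21755bbaa3d2db860cbc2984aface806c87d5ad1f1e4f253f7581efa25)))
(.node (nat_lit 38) (.leaf (nat_lit 0x1240ccb8884649b3795b503ae0bcbc2410b17055d864747397ea958ac2a074eff4a5ff6d51e8f6a10c2f6abed33e7de6))
(.leaf (nat_lit 0x2e50bad5734780987f06e28c7c4f736d60d5463236d0673c922c31faf01279ae59ef8ca84dd158b4faac3b7a54426ae7)))))
(.node (nat_lit 43) (.node (nat_lit 41) (.node (nat_lit 40) (.leaf (nat_lit 0x70e85a989508abcb4f6102ebe85287e1712ea7149ed76d24dd694232237e7e09c3fc1e59f73cacee31b06ef015453768))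
(.leaf (nat_lit 0xed24c9b5fc9b906d1c7458ecdd5858320467e75c3c3ef09a7b6acb3baa015a250d98842efe503e2bd5c7cea103671e29)))
(.node (nat_lit 42) (.leaf (nat_lit 0x20294531588ae6e381fc91f511fcfdb5479792c2d9fa849044dc70d00bdc0f2836e3b686753e8f6d89e3869dd6f2b9aa))
(.leaf (nat_lit 0x7d17b524b3a872d8a050cbc5ec8690bbf9704ba54fd8a93d0b49d73631f94e107edc4cdb583b191bcc40ca6e1d62aa6b))))
(.node (nat_lit 45) (.node (nat_lit 44) (.leaf (nat_lit 0x599f0f7e34a9ef4ea2c8ea9529b2459e6ac7c370dcbe16bf2c2520a3d610c53201791973d8dfae5c6d4402d338764e6c))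
(.leaf (nat_lit 0x45a34e9db4d7c33a10d8f1373230067c82f5ed581db98665ac1903ebe862e12982e56ff4cbcf6fa451ea26c2b17147ad)))
(.node (nat_lit 46) (.leaf (nat_lit 0xb3d22c460f05da2bdf99ef82408db21f54510b056b7c3deaa0493b36c8ede4a5171d50d8584079b5beb33aa27e7f96e))
(.leaf (nat_lit 0x74cd0e0583ba5933ef5ac310096e39a7dc6aab091b0d3b91034d2b72d8f5545d675c93c6218b5207b8b2a8e9f7a5fef))))))
(.node (nat_lit 55) (.node (nat_lit 51) (.node (nat_lit 49) (.node (nat_lit 48) (.leaf (nat_lit 0x5c3923eb1f80ff5696e5b1ae2f8f32a1374896f1348ad80f72156a64ab110bd4987e938779431027698537bac1cf79f0))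
(.leaf (nat_lit 0x55e46c170d2f04cc9482da0923b41a19d4cb0807fe35be5848e5e7d878e497370f13784a0d6d7cb99afa8b89bff69ab1)))
(.node (nat_lit 50) (.leaf (nat_lit 0xf6c8de722a5de96c6d6d44d2d999ab96fa0dbbfcea2e029727760f22444719f16784e139d4c0f80bb681c3c400574fb2))
(.leaf (nat_lit 0x680e93934e03d7f5c6b9d5b93feaa94636ce3204317dcbcbb6667c5424a82bbb2b8b22012459447b78549fd607c36373))))
(.node (nat_lit 53) (.node (nat_lit 52) (.leaf (nat_lit 0x649a12533c601e5a45bdc45e3bd11759b8cf2838b89ddbabb0868ddc14fa330b4b436982006feae556247fe875ef2f34))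
(.leaf (nat_lit 0xfc67e5470aa20e0328b4a5f6ca1495f8c632c4581a3341dc12814bd8f5aae5edc45e4e13763c69eeb37e8cb66ff9935)))
(.node (nat_lit 54) (.leaf (nat_lit 0xfad6f97505dca11e2c8e4493c9a20bfeeebcbe5d04ac332901584e9945b516719f60fa9e1ca831070642ecd889df3f76))
(.leaf (nat_lit 0xe1c76e6c46ad468f924fab23a5738fd7992a80cc506009720d99888451bf50d5a2acbf09042bf41f354af677dedb0ef7)))))
(.node (nat_lit 59) (.node (nat_lit 57) (.node (nat_lit 56) (.leaf (nat_lit 0xdf95ad1bbcee08ada40ece809b089915c4ab0499fdf237a14cfa5fcb56d4ff474ea9560c8111cdbda2e8431225f97138))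
(.leaf (nat_lit 0x2b0c5fd160336970bbe15f7e7834dd3a265440f1c672a2c9f2fb234b7a48dbaca8b5b1679ab10187f81896444dbb5339)))
(.node (nat_lit 58) (.leaf (nat_lit 0x74f61920092610db0e862acba06335c69aaf5f84f91f2cd4551fc1290f3d9c37e094279afb4dadc1b17b8ee27759273a))
(.leaf (nat_lit 0xa6051ba38f499476517a316faf1376e92726feeab342c0ce758dc468cb5607e4e19d73f5e642a2032206f302c2d157fb))))
(.node (nat_lit 61) (.node (nat_lit 60) (.leaf (nat_lit 0x38a3149597c2bb9207d5e07f422c3b70525ae923d5e11b04a27d33c4382d029bf7fbd5d66e390b76b3539b2d86a9887c))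
(.leaf (nat_lit 0xcaf15d47eede3015682535206349f792cb61d79f301120086ebd905e57061f88e635a2ffbba09f0e9396ab33cac598bd)))
(.node (nat_lit 62) (.leaf (nat_lit 0xdae19c5bdc39282dfa0129038737d552db181de37ba932668cbca2a7f745d716c8f19ae5be80678173d113438ce1a43e))
(.leaf (nat_lit 0x2a5786412bc3880e97f1ca274251e6bed133d018747011bcecbc582bed760cf6da098e69f72d63794b6925721d6eebf)))))))),
  (nat_lit 0xff38572fae7089fd4ff849b8beeb4721a3456714968f7f5eda005c32a9cef244114e5515d18a5beca26bb06a320c2740),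
  (nat_lit 0xb9f7de71c6d96165955544d249245140f38d34d30c2cb28a2492492082071861451451041040c3082081041040000000),
  (nat_lit 0x820441010410840420441040810810410440c20c21011011030811020441031030811030811011030440c20440c2041),
  [nat_lit 1, nat_lit 2, nat_lit 3, nat_lit 4]⟩

theorem okA0 : rt.chkA 1 = true := by decide +kernel
theorem okA1 : rt.chkA 2 = true := by decide +kernel
theorem okA2 : rt.chkA 3 = true := by decide +kernel
theorem okA3 : rt.chkA 4 = true := by decide +kernel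
theorem okB : rt.chkB = true := by decide +kernel
noncomputable def tb : GT := ⟨rt, List.forall_mem_cons.2 ⟨okA0, List.forall_mem_cons.2 ⟨okA1, List.forall_mem_cons.2 ⟨okA2, List.forall_mem_cons.2 ⟨okA3, fun _ h => absurd h List.not_mem_nil⟩⟩⟩⟩, okB⟩

theorem hom_chk : homChk tb (nat_lit 0xfcbee67fe9cfc34e93646dddf7ce157b680cab9b32d6fcf1aee0ad3a9a109645e18e271b69859449134a2481c5103040) 64 FP3E.tab = true := by decide +kernel

/-- the group -/
abbrev E : Type := El tb

noncomputable def r : E := El.of tb 1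
noncomputable def x : E := El.of tb 2
noncomputable def y : E := El.of tb 3
noncomputable def w : E := El.of tb 4

theorem card : Nat.card E = 64 := El.card tb

theorem eq_top {K : Subgroup E} (h0 : r ∈ K) (h1 : x ∈ K) (h2 : y ∈ K) (h3 : w ∈ K) : K = ⊤ :=
  El.eq_top (List.forall_mem_cons.2 ⟨h0, List.forall_mem_cons.2 ⟨h1, List.forall_mem_cons.2 ⟨h2, List.forall_mem_cons.2 ⟨h3, fun _ h => absurd h List.not_mem_nil⟩⟩⟩⟩)

/-- the relations -/
def Rel {G : Type*} [Group G] (r x y w : G) : Prop :=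
  r * r * r * r * (r * r * r * r) = 1 ∧
  x * r * x⁻¹ = r⁻¹ ∧
  y * r * y⁻¹ = r * (r * r * r * r) ∧
  y * y = 1 ∧
  x * x = 1 ∧
  x * y * (x * y) = 1 ∧
  w * r * w⁻¹ = y * r ∧
  w * x * w⁻¹ = y * x ∧
  w * y * w⁻¹ = r⁻¹ * y * r ∧
  w * w = r * y * r

instance {G : Type*} [Group G] [DecidableEq G] (r x y w : G) : Decidable (Rel r x y w) := by
  unfold Rel; infer_instance

theorem Rel.map {G G' : Type*} [Group G] [Group G'] (f : G →* G') {r x y w : G}
    (h : Rel r x y w) : Rel (f r) (f x) (f y) (f w) := by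
  obtain ⟨h0, h1, h2, h3, h4, h5, h6, h7, h8, h9⟩ := h
  exact ⟨by simpa only [map_mul, map_inv, map_one] using congrArg f h0,
    by simpa only [map_mul, map_inv, map_one] using congrArg f h1,
    by simpa only [map_mul, map_inv, map_one] using congrArg f h2,
    by simpa only [map_mul, map_inv, map_one] using congrArg f h3,
    by simpa only [map_mul, map_inv, map_one] using congrArg f h4,
    by simpa only [map_mul, map_inv, map_one] using congrArg f h5,
    by simpa only [map_mul, map_inv, map_one] using congrArg f h6,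
    by simpa only [map_mul, map_inv, map_one] using congrArg f h7,
    by simpa only [map_mul, map_inv, map_one] using congrArg f h8,
    by simpa only [map_mul, map_inv, map_one] using congrArg f h9⟩

theorem Rel.of_map {G G' : Type*} [Group G] [Group G'] {f : G →* G'} (hf : Function.Injective f)
    {r x y w : G} (h : Rel (f r) (f x) (f y) (f w)) : Rel r x y w := by
  obtain ⟨h0, h1, h2, h3, h4, h5, h6, h7, h8, h9⟩ := h
  exact ⟨hf (by simpa only [map_mul, map_inv, map_one] using h0),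
    hf (by simpa only [map_mul, map_inv, map_one] using h1),
    hf (by simpa only [map_mul, map_inv, map_one] using h2),
    hf (by simpa only [map_mul, map_inv, map_one] using h3),
    hf (by simpa only [map_mul, map_inv, map_one] using h4),
    hf (by simpa only [map_mul, map_inv, map_one] using h5),
    hf (by simpa only [map_mul, map_inv, map_one] using h6),
    hf (by simpa only [map_mul, map_inv, map_one] using h7),
    hf (by simpa only [map_mul, map_inv, map_one] using h8),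
    hf (by simpa only [map_mul, map_inv, map_one] using h9)⟩

theorem Rel.prod {G G' : Type*} [Group G] [Group G'] {r x y w : G} {r' x' y' w' : G'}
    (h : Rel r x y w) (k : Rel r' x' y' w') :
    Rel (r, r') (x, x') (y, y') (w, w') := by
  obtain ⟨h0, h1, h2, h3, h4, h5, h6, h7, h8, h9⟩ := h
  obtain ⟨k0, k1, k2, k3, k4, k5, k6, k7, k8, k9⟩ := k
  exact ⟨Prod.ext h0 k0, Prod.ext h1 k1, Prod.ext h2 k2, Prod.ext h3 k3, Prod.ext h4 k4, Prod.ext h5 k5, Prod.ext h6 k6, Prod.ext h7 k7, Prod.ext h8 k8, Prod.ext h9 k9⟩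

theorem Rel.sat {G : Type*} [Group G] {r x y w : G} (h : Rel r x y w) :
    ∀ R ∈ FP3E.rels, ev (lt [r, x, y, w]) R = 1 := by
  obtain ⟨h0, h1, h2, h3, h4, h5, h6, h7, h8, h9⟩ := h
  exact List.forall_mem_cons.2 ⟨show r * (r * (r * (r * (r * (r * (r * (r * 1))))))) = 1 by
      simpa only [mul_assoc, mul_inv_rev, inv_inv, inv_one, mul_one, one_mul] using mul_inv_eq_one.2 h0,
    List.forall_mem_cons.2 ⟨show x * (r * (x⁻¹ * (r * 1))) = 1 by
      simpa only [mul_assoc, mul_inv_rev, inv_inv, inv_one, mul_one, one_mul] using mul_inv_eq_one.2 h1,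
    List.forall_mem_cons.2 ⟨show y * (r * (y⁻¹ * (r⁻¹ * (r⁻¹ * (r⁻¹ * (r⁻¹ * (r⁻¹ * 1))))))) = 1 by
      simpa only [mul_assoc, mul_inv_rev, inv_inv, inv_one, mul_one, one_mul] using mul_inv_eq_one.2 h2,
    List.forall_mem_cons.2 ⟨show y * (y * 1) = 1 by
      simpa only [mul_assoc, mul_inv_rev, inv_inv, inv_one, mul_one, one_mul] using mul_inv_eq_one.2 h3,
    List.forall_mem_cons.2 ⟨show x * (x * 1) = 1 by
      simpa only [mul_assoc, mul_inv_rev, inv_inv, inv_one, mul_one, one_mul] using mul_inv_eq_one.2 h4,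
    List.forall_mem_cons.2 ⟨show x * (y * (x * (y * 1))) = 1 by
      simpa only [mul_assoc, mul_inv_rev, inv_inv, inv_one, mul_one, one_mul] using mul_inv_eq_one.2 h5,
    List.forall_mem_cons.2 ⟨show w * (r * (w⁻¹ * (r⁻¹ * (y⁻¹ * 1)))) = 1 by
      simpa only [mul_assoc, mul_inv_rev, inv_inv, inv_one, mul_one, one_mul] using mul_inv_eq_one.2 h6,
    List.forall_mem_cons.2 ⟨show w * (x * (w⁻¹ * (x⁻¹ * (y⁻¹ * 1)))) = 1 by
      simpa only [mul_assoc, mul_inv_rev, inv_inv, inv_one, mul_one, one_mul] using mul_inv_eq_one.2 h7,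
    List.forall_mem_cons.2 ⟨show w * (y * (w⁻¹ * (r⁻¹ * (y⁻¹ * (r * 1))))) = 1 by
      simpa only [mul_assoc, mul_inv_rev, inv_inv, inv_one, mul_one, one_mul] using mul_inv_eq_one.2 h8,
    List.forall_mem_cons.2 ⟨show w * (w * (r⁻¹ * (y⁻¹ * (r⁻¹ * 1)))) = 1 by
      simpa only [mul_assoc, mul_inv_rev, inv_inv, inv_one, mul_one, one_mul] using mul_inv_eq_one.2 h9,
    fun _ h => absurd h List.not_mem_nil⟩⟩⟩⟩⟩⟩⟩⟩⟩⟩

theorem Rel.of_sat {G : Type*} [Group G] {r x y w : G}
    (h : ∀ R ∈ FP3E.rels, ev (lt [r, x, y, w]) R = 1) : Rel r x y w := by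
  obtain ⟨h0, h⟩ := List.forall_mem_cons.1 h
  obtain ⟨h1, h⟩ := List.forall_mem_cons.1 h
  obtain ⟨h2, h⟩ := List.forall_mem_cons.1 h
  obtain ⟨h3, h⟩ := List.forall_mem_cons.1 h
  obtain ⟨h4, h⟩ := List.forall_mem_cons.1 h
  obtain ⟨h5, h⟩ := List.forall_mem_cons.1 h
  obtain ⟨h6, h⟩ := List.forall_mem_cons.1 h
  obtain ⟨h7, h⟩ := List.forall_mem_cons.1 h
  obtain ⟨h8, h⟩ := List.forall_mem_cons.1 h
  obtain ⟨h9, h⟩ := List.forall_mem_cons.1 h
  exact ⟨mul_inv_eq_one.1 (by simpa only [mul_assoc, mul_inv_rev, inv_inv, inv_one, mul_one, one_mul] using (show r * (r * (r * (r * (r * (r * (r * (r * 1))))))) = 1 from h0)),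
    mul_inv_eq_one.1 (by simpa only [mul_assoc, mul_inv_rev, inv_inv, inv_one, mul_one, one_mul] using (show x * (r * (x⁻¹ * (r * 1))) = 1 from h1)),
    mul_inv_eq_one.1 (by simpa only [mul_assoc, mul_inv_rev, inv_inv, inv_one, mul_one, one_mul] using (show y * (r * (y⁻¹ * (r⁻¹ * (r⁻¹ * (r⁻¹ * (r⁻¹ * (r⁻¹ * 1))))))) = 1 from h2)),
    mul_inv_eq_one.1 (by simpa only [mul_assoc, mul_inv_rev, inv_inv, inv_one, mul_one, one_mul] using (show y * (y * 1) = 1 from h3)),
    mul_inv_eq_one.1 (by simpa only [mul_assoc, mul_inv_rev, inv_inv, inv_one, mul_one, one_mul] using (show x * (x * 1) = 1 from h4)),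
    mul_inv_eq_one.1 (by simpa only [mul_assoc, mul_inv_rev, inv_inv, inv_one, mul_one, one_mul] using (show x * (y * (x * (y * 1))) = 1 from h5)),
    mul_inv_eq_one.1 (by simpa only [mul_assoc, mul_inv_rev, inv_inv, inv_one, mul_one, one_mul] using (show w * (r * (w⁻¹ * (r⁻¹ * (y⁻¹ * 1)))) = 1 from h6)),
    mul_inv_eq_one.1 (by simpa only [mul_assoc, mul_inv_rev, inv_inv, inv_one, mul_one, one_mul] using (show w * (x * (w⁻¹ * (x⁻¹ * (y⁻¹ * 1)))) = 1 from h7)),
    mul_inv_eq_one.1 (by simpa only [mul_assoc, mul_inv_rev, inv_inv, inv_one, mul_one, one_mul] using (show w * (y * (w⁻¹ * (r⁻¹ * (y⁻¹ * (r * 1))))) = 1 from h8)),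
    mul_inv_eq_one.1 (by simpa only [mul_assoc, mul_inv_rev, inv_inv, inv_one, mul_one, one_mul] using (show w * (w * (r⁻¹ * (y⁻¹ * (r⁻¹ * 1)))) = 1 from h9))⟩

theorem rel : Rel r x y w := by decide +kernel

theorem model {G : Type*} [Group G] {r' x' y' w' : G} (h : Rel r' x' y' w') :
    ∃ φ : E →* G, φ r = r' ∧ φ x = x' ∧ φ y = y' ∧ φ w = w' := by
  obtain ⟨pt, h0, -, hT⟩ := FP3E.enum (lt [r', x', y', w']) (1 : G)
    (lt_icol _ _ (k := 4) rfl (by decide +kernel)) (lt_ge le_rfl) h.sat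
    (fun _ h => absurd h List.not_mem_nil)
  obtain ⟨φ, hφ⟩ := exists_hom tb (l := [r', x', y', w']) rfl h0 hT hom_chk
  exact ⟨φ, by simpa only [List.cons.injEq, and_true] using
    (show [φ r, φ x, φ y, φ w] = [r', x', y', w'] from hφ)⟩

end H70.FP3
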