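import Mathlib
import Cfsg.Agent.Base
import Cfsg.Agent.Lib.M12C.Tab

/-! a group of order 64 (helper70; generated) -/

set_option autoImplicit false
set_option maxRecDepth 100000

namespace H70.FP4E
open H54 (Tr force band)
open H18.TC
noncomputable def T_0 : Tr := (.node (nat_lit 3) (.node (nat_lit 1) (.node (nat_lit 0) (.leaf (nat_lit 0x1980001b7c0d8601bb08d98421c411e309bf1759000ee00000aff85bfcd5ce6a674cb51d1b0cccafb66002a80000d2ce686709ff853fc58da1feb2cb4085a4004400004c3526ba83cd61eeb30b701ffc14ec0b71001980000e6d8726c16b68b7b405fe606e02bb819c80000000038379bdbc82e04070063881dc874e601ff0008800007ee83e740cba861d412ec0477007f84be0000000000bbc859e42af4147a043d80df004fa017e)) (.leaf (nat_lit 0x2a800019ba2cb511ffe903f48caa41d321b0941640022000048292434860a630d32e3202ff415f60e63000880000f4a8795422aa911540dfa5de402fe03d8800000000776b3b158a4b4515a1eb18ef8875be39fd003b800007bfc3efe7ff33f59957b6a6dd64abb4d6000aa00007f733e9982ffc18fe0e2f0a7709cb2545a00110000152b6a85b142e09d704abe08fe0831027ec0066000052eea8d7436bc1a5e01ff08d7c1ac604fc)))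 (.node (nat_lit 2) (.leaf (nat_lit 0x880000caca66e52db216990ada657d52aed163e8002200005d64ae52448be25df14ae0877841f438e100330000136f697fb4f262853181a098f95aa52672c002200004fa627f303ef61dfb103d1356439bc4755003b80000e3f872fc4667a2d3ce7f2bfd044269d538002200004527a253c5cf82cfc27ac8afe855b82f5300088000183a0bf50322c98b64bff860fb2f721877c00ee0000377e9bff59ea2cfd147a91ed51a2b07167)) (.leaf (nat_lit 0x2200001aff0dc786d2c35b61b686f6c56c64b739400aa00006aec349606bf036f824a30df1072d242f00008800010486814319a20d31078e61178077903fd8000000007a62bc914968c4bc6093c0f3cc1be20cf7002a80001be8ede472cf416ba0bce45bf12e7c17db800cc000033b4193a1c58ee1474a659d939bac065f9000000001f3eaff757e7a401d1fc94fbcd7d7cbe35800ee000033fd1a3e8d3f26b7945e7a7130e1de6c48)))) (.node (nat_lit 5) (.node (nat_lit 4) (.leaf (nat_lit 0x1a3c2d6616bb036781a882d542697a343bc00660000636bb115cc6dc63ee267593bb49fe04df5002a80001ca80e7c02879947ccaa8852c629fa959a000ee000053fb2a3d9559aad4d54e42b1d16082ae4c002a800010c9a86cd137b09fd854ea28e925230adb400000000517ba99dd6694b5ca53ba295214784a1cf002a800016d94b44a0cfb86bdc44d21bf519e2075ac0066000036a41b7204cd223e9117b893d8c4dc3b73))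 (.leaf (nat_lit 0x17ddcc26e61abb135d80d8c16a6528af724000000006578339c1a0deceef66273352ddaacc9d000088000122e28ff14ae5a512dc38e8eef46e7ac7040022000049a5a492c62e22ff1213815da05dda3244003b80000f1e479f23de71f538f5dee0474ea61f90800aa00003ba71df3887e444f22c34117c08dd64846002200001d7e6ef7377203ab01e28aefc37cb33b3440088000061ecb1d658aa0c2d0632631f3dc78ec8f4))) (.node (nat_lit 6) (.leaf (nat_lit 0x880000dcbe6cdf5e24ae72549baaa5b35f3ba700004400005c74aeda57490bbc85ea6adf297ca0d96000220000167bcb75e5b2eacb757092fde67ae2ad3a800ee000048e9a4b4d27a496526668a559534d4974300198000140d69eeb5075277a937cec5d756eda73500022000043ae2177159b6ab5b7e332f325098687ec000880000f0aa76d53e6a1f150ebcacbd13a763cb1400ee00004476a27b515d88d6c642ba319d44ba8e52)) (.leaf (nat_lit 0x3300001d0b4e4da75ab3b759d284e5c1752439b1c00cc000058a32bb19ef8af3c5732034f6164a4afdb00088000100887ec441e1a0d0da9b0e8c03eea2917400ee000040712078905848442782b36b812d96854d000880000fe847fc21ab10cb8870c254da18e98d1780044000078f1bd58de882f8417bb03c359e69cf64a0008800015e82b0c1263192b8ca6b448e123ea9277000ee00006ef237b91c1cae3656fea38949ce80e457)))))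
noncomputable def J_0 : Tr := (.node (nat_lit 3) (.node (nat_lit 1) (.node (nat_lit 0) (.leaf (nat_lit 0x8000000000400400800000000020020010008000000000000000000000000040040020000010000000000000000400000100040040000000000000000000000c0040000000000000000000000000000000000040040000000000000000000000400400400000000000000000000000000000)) (.leaf (nat_lit 0x40010010008000004000000000000000100000040000018008000000000000000000000100240040000000010000000000000001400b001000400400200200000080060000000000002000800800400000200000000000000000000000000800800000600000080000000008008000000002))) (.node (nat_lit 2) (.leaf (nat_lit 0x2000000000400300100200000060000000004000001800800c00000080080000000010018000002000000000c0000020000002002000000400400200100000080020000000000000000000000800000180080000000010000000004001000c00400800080080040000040000000000000)) (.leaf (nat_lit 0x8000000800800000200100080000020008008004000002000000c0000000000000002000000400400800000180000000020000004007001000000000100100080000040020000000001001000800000400000000040000010000008000000002800e00200080080040020000010000002000))))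 (.node (nat_lit 5) (.node (nat_lit 4) (.leaf (nat_lit 0x400000000080000000078008000004000000000a0020040020008000000000c004002000001000800000080080040020000010000000000000000000300100080000040000000000002000000000400000000340040000020004004002000001001000000000000040000038008010000000)) (.leaf (nat_lit 0x400000000080000000008008000002000000001000000000040040000000010004000002000c00400200000000000000020000002002000000400400200100000080000000000000000001800800400000200100000000020000002002000001800000a0000010000001001000000c002001))) (.node (nat_lit 6) (.leaf (nat_lit 0x400000180040010010008000006000000001000100100000000000020000002002000000801400a000800800400200000080000000000000000006001001c0040040010010000000002000800000000380080040000000010004000001000c00400600080080040020000000000000000)) (.leaf (nat_lit 0x200200000080000060000008000001001001000c00000100000040000000010004000001001c00400000080080040020000000008002000000000000200000100000090010000000006000000000000100100000000000000008000004000000c00400800080080040020000010000000000)))))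
noncomputable def F_0 : Tr := (.node (nat_lit 3) (.node (nat_lit 1) (.node (nat_lit 0) (.leaf (nat_lit 0xe248b28758e8fdf57cad3eaddaffbbf79b8b40a5f34b050c68f248446a7715ed2ac6c81899c7429e51036d958e3401c1)) (.leaf (nat_lit 0xdedaf4b31abf62fe9593c4e2ba9c12cd46782cf2bee7ded1d9634e1df190945d61ca36e77840e0a2675c05a5c920c002))) (.node (nat_lit 2) (.leaf (nat_lit 0xfa7fdf9697ad93565aa36b98574417e0ff30f52e4b5b7289ebb1cc3b1cb3aa11a6bc512bb026dd8a306071350044d203)) (.leaf (nat_lit 0xf7f9e979f96b8b2dae6196a84f1e0f417eb3f94ef728b588f39307374d70b23bc51a60eda9b09c92180175549100e244)))) (.node (nat_lit 5) (.node (nat_lit 4) (.leaf (nat_lit 0xa7af3d77e71adb78ad564ad3a10d0ec4dfef7d13322752169c7ef95f82c66e0cc4c039ae0acaa56418e179801448f285)) (.leaf (nat_lit 0xa7af3d77e71adb78ad564ad3a10d0ec4dfef7d13322752169c7ef95f82c66e0cc4c039ae0acaa56418e179801448f285))) (.node (nat_lit 6) (.leaf (nat_lit 0x979eddf5cf9b81686c523a9244f3b43713267a8fc9c88d771e7f3ae172856b61330f0bc2badae90599227c06154d02c6))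 (.leaf (nat_lit 0x979eddf5cf9b81686c523a9244f3b43713267a8fc9c88d771e7f3ae172856b61330f0bc2badae90599227c06154d02c6)))))
noncomputable def T : Tr := T_0
noncomputable def J : Tr := J_0
noncomputable def F : Tr := F_0
noncomputable def row (u : ℕ) : ℕ := Nat.land (Nat.shiftRight (force (Nat.shiftRight u (nat_lit 3)) T.get) (Nat.mul (Nat.land u (nat_lit 7)) (nat_lit 170))) (nat_lit 0x3ffffffffffffffffffffffffffffffffffffffffff)
noncomputable def jrow (u : ℕ) : ℕ := Nat.land (Nat.shiftRight (force (Nat.shiftRight u (nat_lit 3)) J.get) (Nat.mul (Nat.land u (nat_lit 7)) (nat_lit 117))) (nat_lit 0x1fffffffffffffffffffffffffffff)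
noncomputable def fget (k fx : ℕ) : ℕ := F.get (Nat.add k fx)
noncomputable def wt0 : LT := (.node (nat_lit 2) (.node (nat_lit 0) (.leaf 13 2 [nat_lit 102, nat_lit 0, nat_lit 68, nat_lit 119])
(.node (nat_lit 1) (.leaf 3 0 [nat_lit 51, nat_lit 17, nat_lit 34])
(.leaf 3 2 [nat_lit 34, nat_lit 17, nat_lit 51])))
(.node (nat_lit 4) (.node (nat_lit 3) (.leaf 1 0 [nat_lit 17, nat_lit 17, nat_lit 17, nat_lit 17, nat_lit 17, nat_lit 17, nat_lit 17])
(.leaf 5 2 [nat_lit 68, nat_lit 0, nat_lit 0, nat_lit 0, nat_lit 0, nat_lit 0, nat_lit 85]))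
(.leaf 0 0 [])))
noncomputable def wt1 : LT := (.node (nat_lit 6) (.node (nat_lit 1) (.node (nat_lit 0) (.leaf 13 4 [nat_lit 68, nat_lit 119, nat_lit 17, nat_lit 102])
(.leaf 5 0 [nat_lit 85, nat_lit 17, nat_lit 68, nat_lit 0, nat_lit 0, nat_lit 0, nat_lit 0]))
(.node (nat_lit 3) (.node (nat_lit 2) (.leaf 9 5 [nat_lit 0, nat_lit 51, nat_lit 51, nat_lit 0, nat_lit 0])
(.leaf 9 0 [nat_lit 51, nat_lit 51, nat_lit 0, nat_lit 0, nat_lit 0]))
(.node (nat_lit 4) (.leaf 9 3 [nat_lit 0, nat_lit 0, nat_lit 0, nat_lit 51, nat_lit 51])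
(.node (nat_lit 5) (.leaf 5 6 [nat_lit 0, nat_lit 0, nat_lit 85, nat_lit 17, nat_lit 68, nat_lit 0, nat_lit 0])
(.leaf 9 4 [nat_lit 0, nat_lit 0, nat_lit 51, nat_lit 51, nat_lit 0])))))
(.leaf 0 0 []))
noncomputable def wt2 : LT := (.node (nat_lit 1) (.node (nat_lit 0) (.leaf 3 1 [nat_lit 17, nat_lit 34, nat_lit 17])
(.leaf 11 3 [nat_lit 85, nat_lit 51, nat_lit 85]))
(.node (nat_lit 2) (.leaf 15 2 [nat_lit 102, nat_lit 34, nat_lit 119])
(.node (nat_lit 3) (.leaf 9 1 [nat_lit 51, nat_lit 0, nat_lit 0, nat_lit 0, nat_lit 0])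
(.node (nat_lit 4) (.leaf 9 2 [nat_lit 0, nat_lit 0, nat_lit 0, nat_lit 0, nat_lit 51])
(.leaf 0 0 [])))))
noncomputable def wt3 : LT := (.node (nat_lit 0) (.leaf 3 3 [nat_lit 17, nat_lit 51, nat_lit 17])
(.node (nat_lit 1) (.leaf 15 0 [nat_lit 119, nat_lit 51, nat_lit 102])
(.leaf 0 0 [])))
noncomputable def wt4 : LT := (.node (nat_lit 0) (.leaf 7 0 [nat_lit 85])
(.node (nat_lit 1) (.leaf 5 1 [nat_lit 17, nat_lit 68, nat_lit 0, nat_lit 0, nat_lit 0, nat_lit 0, nat_lit 0])
(.node (nat_lit 3) (.node (nat_lit 2) (.leaf 11 0 [nat_lit 51, nat_lit 85, nat_lit 51])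
(.leaf 17 2 [nat_lit 102, nat_lit 68, nat_lit 119]))
(.leaf 0 0 []))))
noncomputable def wt5 : LT := (.node (nat_lit 0) (.leaf 17 0 [nat_lit 119, nat_lit 85, nat_lit 102])
(.node (nat_lit 1) (.leaf 5 3 [nat_lit 0, nat_lit 0, nat_lit 0, nat_lit 0, nat_lit 0, nat_lit 85, nat_lit 17])
(.leaf 0 0 [])))
noncomputable def wt6 : LT := (.node (nat_lit 0) (.leaf 19 0 [nat_lit 119])
(.node (nat_lit 1) (.leaf 13 1 [nat_lit 17, nat_lit 102, nat_lit 0, nat_lit 68])
(.node (nat_lit 2) (.leaf 15 1 [nat_lit 51, nat_lit 102, nat_lit 34])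
(.leaf 0 0 []))))
noncomputable def wt7 : LT := (.node (nat_lit 1) (.node (nat_lit 0) (.leaf 13 3 [nat_lit 0, nat_lit 68, nat_lit 119, nat_lit 17])
(.leaf 17 3 [nat_lit 68, nat_lit 119, nat_lit 85]))
(.node (nat_lit 2) (.leaf 15 3 [nat_lit 34, nat_lit 119, nat_lit 51])
(.leaf 0 0 [])))
noncomputable def wt8 : LT := (.leaf 0 0 [])
noncomputable def sl : List (ℕ × ℕ × List ℕ × List ℕ) := []
/-- the inverse column -/
noncomputable def icol (x : ℕ) : ℕ := List.getD [nat_lit 1, nat_lit 0, nat_lit 3, nat_lit 2, nat_lit 5, nat_lit 4, nat_lit 7, nat_lit 6] x x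
noncomputable def inv (x : ℕ) : ℕ := Nat.mul (icol (Nat.div x (nat_lit 17))) (nat_lit 17)
def cols : List ℕ := [nat_lit 136, nat_lit 0, nat_lit 17, nat_lit 34, nat_lit 51, nat_lit 68, nat_lit 85, nat_lit 102, nat_lit 119]
noncomputable def cl : CL := (.cons (nat_lit 0) (nat_lit 17) (nat_lit 0) (nat_lit 0) wt0
(.cons (nat_lit 17) (nat_lit 0) (nat_lit 13) (nat_lit 1) wt1
(.cons (nat_lit 34) (nat_lit 51) (nat_lit 26) (nat_lit 2) wt2
(.cons (nat_lit 51) (nat_lit 34) (nat_lit 39) (nat_lit 3) wt3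
(.cons (nat_lit 68) (nat_lit 85) (nat_lit 52) (nat_lit 4) wt4
(.cons (nat_lit 85) (nat_lit 68) (nat_lit 65) (nat_lit 5) wt5
(.cons (nat_lit 102) (nat_lit 119) (nat_lit 78) (nat_lit 6) wt6
(.cons (nat_lit 119) (nat_lit 102) (nat_lit 91) (nat_lit 7) wt7
.nil))))))))
def rels : List (List ℕ) := [[0, 0, 0, 0, 0, 0, 0, 0],
[0, 3, 0, 2],
[1, 1, 1, 1, 1, 5, 0, 4],
[4, 4],
[1, 1, 1, 1, 2, 2],
[4, 2, 4, 2],
[5, 1, 7, 0, 6],
[3, 7, 2, 6],
[5, 7, 4, 6],
[6, 6]]
def subs : List (List ℕ) := []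
noncomputable def chk : ℕ → Bool := rowChk row jrow fget sl cols (nat_lit 64) (nat_lit 64) (nat_lit 131071) (nat_lit 127) (nat_lit 131072) (nat_lit 136) (nat_lit 153) (nat_lit 8191) (nat_lit 6) (nat_lit 63) (nat_lit 6) (nat_lit 63) cl (nat_lit 104) wt8
theorem p0 : allB chk 6 0 = true := by decide +kernel
theorem all_chk : AllLt chk 64 := by
  have h := AllLt.zero chk
  have h := h.step 64 p0 (by decide +kernel)
  exact h
/-- column `x` of the final table -/
noncomputable def tab (x u : ℕ) : ℕ := ft fget (nat_lit 6) (nat_lit 63) (nat_lit 6) (nat_lit 63) (Nat.mul x (nat_lit 1)) u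
theorem enum {G Ω : Type*} [Group G] [MulAction G Ω] (g : ℕ → G) (ω : Ω)
    (hinv : ∀ x, g (icol x) = (g x)⁻¹) (h1 : g 8 = 1)
    (hrels : ∀ R ∈ rels, ev g R = 1) (hsubs : ∀ S ∈ subs, ev g S • ω = ω) :
    ∃ pt : ℕ → Ω, pt 0 = ω ∧ (∀ K : Subgroup G, (∀ x, g x ∈ K) → ∀ v, ∃ k ∈ K, pt v = k • ω) ∧
      ∀ x, x < 8 → ∀ u, u < 64 → tab x u < 64 ∧ g x • pt u = pt (tab x u) :=
  sound_scaled g ω row jrow fget sl inv icol cols (nat_lit 64) (nat_lit 64) (nat_lit 131071) (nat_lit 127) (nat_lit 131072) (nat_lit 136) (nat_lit 153) (nat_lit 8191) (nat_lit 6) (nat_lit 63) (nat_lit 6) (nat_lit 63) 7 cl (nat_lit 104) wt8 rels subs 17 (nat_lit 1) 8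
    (fun _ => Nat.mul_div_cancel _ (by decide)) hinv h1 hrels hsubs
    (by decide +kernel) (by decide +kernel) all_chk
end H70.FP4E

namespace H70.FP4
open H70.TM H18.TC Subgroup

noncomputable def rt : RT := ⟨nat_lit 64, nat_lit 6, nat_lit 63,
  (.node (nat_lit 31) (.node (nat_lit 15) (.node (nat_lit 7) (.node (nat_lit 3) (.node (nat_lit 1) (.node (nat_lit 0) (.leaf (nat_lit 0xffef7cefae78df6d74cf2c70beeb6caeaa689e69648e28607de75c6da6585d65544d24503ce34c2ca2481c61440c2040))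
(.leaf (nat_lit 0xf40960ff723aa173ebe1e1167f367ee4348cf34754bbbc241e9dadcb52ea88eb31bc62a799c4e38556da602450349141)))
(.node (nat_lit 2) (.leaf (nat_lit 0x68923ad7188453477f4018d88674dbedcfa4dfde73f0fab82c0aef17636d987caec2ca6895f5a00de45765548c38a182))
(.leaf (nat_lit 0xbafa35ebb825db7f275d9adbfbf498c5187dd24e2674ca7928e8c9c14caccc635a16da8811e56209f7100564cf00b1c3))))
(.node (nat_lit 5) (.node (nat_lit 4) (.leaf (nat_lit 0xb75cafa617de6f0f985bdab6f12fe7471ed9b1538d70be8ae78263dd3a341b39856aeac70e59028a07414175003cc204))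
(.leaf (nat_lit 0x941764f686b73229b9ea940e1f82c020d1a382bdb1cff5946125d978f843edcf847c257cd2dbeec2ccb5a892a74db445)))
(.node (nat_lit 6) (.leaf (nat_lit 0x202e786945f192697b1003072d034988eb20ebfaee9f563367ed1305d0dc3df6e38557b7f6fc3cab2176b4aa68591486))
(.leaf (nat_lit 0xa03e39bb643bf7313194e3c6297caf800b62d678daffa6e6061dd267c09131e62bf967f490915da4dc14b0ba8855c4c7)))))
(.node (nat_lit 11) (.node (nat_lit 9) (.node (nat_lit 8) (.leaf (nat_lit 0xc8438ab5b0616460d17b8033e56a357cfb82bd82454a9d8d43bc3ff7e8b12e59eaf1782c56369cea6dd3d0cac791d508))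
(.leaf (nat_lit 0xd5b6b73c4ed0c6bdbd9c5baac3cbf2fed014a252388260fa841e5f4574d9d187b35be48c7473a43692a22ec1a3715089)))
(.node (nat_lit 10) (.leaf (nat_lit 0xd915f17633ccbbfadaa06f2dab7c05d6f273508890ea57040c2ee14b4593f5906761bfa4e4b1f8380a66372b207de54a))
(.leaf (nat_lit 0x51c43bf2b30f6a78ee20776ca74170e89be6da8817d44465083c7e4f755290167f6d887de0a1b900eab3c8db6279f58b))))
(.node (nat_lit 13) (.node (nat_lit 12) (.leaf (nat_lit 0x4dd061faa2c015826d1c8734eac6b7a63d4d6f27d6bc3c5e88447c53093f550f52da7ed93b9cca3f8ac6a26b829605cc))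
(.leaf (nat_lit 0xcdf30fdff91d5e883c88be7203d1aa10ac25ad4eb4da348855cb9b5b17bee024f54590da429b3b247b6714ebe606160d)))
(.node (nat_lit 14) (.leaf (nat_lit 0x9e191dc75e39d14eb798dec525ab2d8e9a88ff313dae0fa279ff1162e05b4155b6493717300c8f28bbe8187c2508364e))
(.leaf (nat_lit 0x4bc67e86928ec1bbec1a8477d6dbb4aabeb260d795242edf82571dd85f6759791353fc4103898b3398c723368312240f))))))
(.node (nat_lit 23) (.node (nat_lit 19) (.node (nat_lit 17) (.node (nat_lit 16) (.leaf (nat_lit 0x64f79f4b01e9c9602a3a50d7806f7c284fcbfac713b61dd523a6eea2f32b0b8d11d73e5835d509ee4d859e2c419a3690))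
(.leaf (nat_lit 0x745d9494cd688fbd08dd29dc63a8416930ae9395c4e3d3b1a8688ba66c0dfed0101c9b20ad97f35be78f0db57cbf2291)))
(.node (nat_lit 18) (.leaf (nat_lit 0xe46af3224d9480ff62c7ea1f6440c25d657ce3bd2341a1eeb6c98d025a8ed6f24c2cacbafd386761b05d7117b7c05a52))
(.leaf (nat_lit 0xe078e6a3d53688c920ee121e06508341559de71deb5ee19ab2dcf2384a40e89bcf28b3759d2fbf6d867c45c7f4170a93))))
(.node (nat_lit 21) (.node (nat_lit 20) (.leaf (nat_lit 0x38824dc994db08b55f87b1e541e8840645dc291c2a5adcc5d2e1a8e03e8fa63d40e4c9af63ff12da7f7ec5d82c6b7ad4))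
(.leaf (nat_lit 0x5ca884dae9a3cfde753028190e85913df6f8c5aee7dddb50349ff01ab3af94b17cab201422163a7014b44defa41e9b15)))
(.node (nat_lit 22) (.leaf (nat_lit 0x40b82551aceb9a4e3a3c388108855c31e639eeec7fd3cb17caf9c51e300910ac1da4d3b6a3e6f54594f749f87d1aab56))
(.leaf (nat_lit 0x4c7de4c51aa3553a900409088791d2e59ca86d452b3ed16a3561a2093e30f9ddcea6e1bcbcdafc7d530fe0ed9cebb97)))))
(.node (nat_lit 27) (.node (nat_lit 25) (.node (nat_lit 24) (.leaf (nat_lit 0x30de88cd79ff97840475c98256279f90167b3fcbb5f77cb4170a062e024a8e9ab900e1eb51b4764935b1fa10dab2dbd8))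
(.leaf (nat_lit 0x90e1229f4a35210323e5f9557a6061e024cf777f366b117d1aa52c37a2a9800b7b2472ffcd14abf9662e6c3717cafc19)))
(.node (nat_lit 26) (.leaf (nat_lit 0x7907156721702c234aa7a07820e30f1e6cc97ea6d11925d39ff5bd940ec485df0382293eb2ed6ddf4a2fae3e58536c5a))
(.leaf (nat_lit 0x3f2d68990fe71395e5f11cc35a07def5907131d6ba934377c052072a2bcbaeaa783801a3d987144d257b87e0aeb6c25b))))
(.node (nat_lit 29) (.node (nat_lit 28) (.leaf (nat_lit 0xf3053610fe88af1de8d13fd16f5f99b920daf78425e6403ba4780aab31729ec3971afb628c17a65617cc09859d24d2dc))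
(.leaf (nat_lit 0xfb74db0c0a47a91c32b144b1daff3db7f10564e05e2953e1e887f9ac66a8634e16cf5b8225094d93b80b8a75dc8e631d)))
(.node (nat_lit 30) (.leaf (nat_lit 0xd299a3afc9609daef6915e93714612761450b973e8c79bcc38ad6ab3f1f020d1b7b452738836447c2fbd5816f82c0c9e))
(.leaf (nat_lit 0xdeaceb8dd122feec54f56d524766d3f3e717690308ef824f00bea9b67185a321f4b30be680206578386455963928e35f)))))))
(.node (nat_lit 47) (.node (nat_lit 39) (.node (nat_lit 35) (.node (nat_lit 33) (.node (nat_lit 32) (.leaf (nat_lit 0xc2b1aa25c0c24ad453657bffc5bd94fbc7561412c784e8c03cca7ab98cdaca822cd37d4d7e241e944ed593d9cae789a0))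
(.leaf (nat_lit 0xc6d9ff8398e6d7cbb3698dbe4ab456ddb7f45cc9223d029d24d100be8b065052fdcaac25e9508805c0f879367ba473a1)))
(.node (nat_lit 34) (.leaf (nat_lit 0x1631e9bd10834ec712050267ed853685df15c19286f80ace30fab569b9ae348a2ddf4eb27a05df125c56f64fcbe39ce2))
(.leaf (nat_lit 0xbf617000384146a6d961ab6bdfed684ae3d3c9e1ce7cd129ed02a0c5653db279465fcfcb708e159bae42334cc97648a3))))
(.node (nat_lit 37) (.node (nat_lit 36) (.leaf (nat_lit 0x5b90836ed3491992af2e27fd1325f1020d8e445858c1cb819a34b7ceae3578c6beae83d31fb9e9750fec525f1523ad24))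
(.leaf (nat_lit 0xb3a349abe79f60585b564a547539ff73bc41b5603244ad4be39bebd122371e6cf0b9a8c6084f43822f195d0d8e30fa25)))
(.node (nat_lit 38) (.leaf (nat_lit 0x1a02c0c1255c5b27fe08c2a83d9ceb0f9ddea93a6c6c9fc791db765d197c3a252fc7d10507ad218c8b986b8d4d43b9e6))
(.leaf (nat_lit 0x2e6a4719661278e04371d362902960550f6103eb6f670a2c6b7cb331f8f927aaca3f822a4f6c5bfd45d1f3b105d2ed67)))))
(.node (nat_lit 43) (.node (nat_lit 41) (.node (nat_lit 40) (.leaf (nat_lit 0x36500bb1867e04709c7f93a6e1523a78c68325bbf04ea5325f116792183b284fe97508ad5abb91d73d12dcf8c6f7cda8))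
(.leaf (nat_lit 0xad2d2ee60764f35fd752cdefb71a86db02a7ce298c1087e37153c3fbd6166930a86516f8ecd2d01c9025385cba8417a9)))
(.node (nat_lit 42) (.leaf (nat_lit 0x8d3ddae22f3d77a9d0dadd09b3ba475052ff9a0ccf9687ab4563028646d5b920c805c639c722971af384030375f997ea))
(.leaf (nat_lit 0x254c05382f997296016eeb23d21e884da31235f1807b296ac572e2ed5da4b7f10741d9ca468e56cf5e033f79aff3d82b))))
(.node (nat_lit 45) (.node (nat_lit 44) (.leaf (nat_lit 0x895ed05f3d2ee2520f8c990b34c38a987cba135ffca366674dbf560b971f7614600de0716b0ab7b451abbe9014612fac))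
(.leaf (nat_lit 0x816c57426ddae44a0caeff4ac8f00bcc637597a9dd21407f4989150f845ef3e72209f67bb85a74b301e326a3b66d386d)))
(.node (nat_lit 46) (.leaf (nat_lit 0x7d745604dc05283c8bab5679a003cc1b39af7a961c1d3412fe756410ec65fbc7428a0f61b5aeacd372098ebe1bd94eee))
(.leaf (nat_lit 0xe98bb4325c57ee3524ff06a915d24d9ec3b6204a398b30b5f99e1e710481ddb7e65614cff0603dcaa2e02ad1eb4560ef))))))
(.node (nat_lit 55) (.node (nat_lit 51) (.node (nat_lit 49) (.node (nat_lit 48) (.leaf (nat_lit 0x119f3d908bb43e0cf8d6a5c01b928ea321eb8a353b9a75766d34017ccf82c5186578359ddec25a16d37aa6f2ff498730))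
(.leaf (nat_lit 0x71a6d378bbf2261b07c3f61d9e9ed01548ad54a583399e11af308ce8dde64ae3c1223d1fabd8065fc94013693ed68e71)))
(.node (nat_lit 50) (.leaf (nat_lit 0x99e3ccd27f7c40889d80ae0d3a41e994b1448f6d7752b4e859169857b7e1e434ba7010ae5eab71bc6b3fc0027367e6f2))
(.leaf (nat_lit 0x1e228e15359154d7a10cf2c83019a30b8d1fa52aad62f9c6f7cb1441c11d020d89ee4970675dfeae869bbb9eb25f1ff3))))
(.node (nat_lit 53) (.node (nat_lit 52) (.leaf (nat_lit 0xa4841586b2d39e1c026354c98be39348a290ef4bec9bf5853665788a76073bc5f125411177af0b9acead7a3d39fff34))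
(.leaf (nat_lit 0xa67b6c2de4568494d54b717a69c8e6634e1b1c3c8a0868aff3d3a5741fd0c3680d93b500fb33d9a2b31fe6e22ac57135)))
(.node (nat_lit 54) (.leaf (nat_lit 0x28bf23414980ca59efb11845df82567d4112dc16956c9b0dda1c8e42d4caabe8ee0fcc96e775353f921efc8adbb48f6))
(.leaf (nat_lit 0xfdf99547b6c01f18ebeb58fccae78ca822a0894e135891bd9405080bf22471ede9445dcc348c56ae9a9eb5312fe7777)))))
(.node (nat_lit 59) (.node (nat_lit 57) (.node (nat_lit 56) (.leaf (nat_lit 0x63b55c46f38ab13a7036685a8c5d2e27aac74860d9a9ff02960fb19ed4360645dbfd47562cfa00e4cd72cc8dde884f78))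
(.leaf (nat_lit 0x6f159170900bb52a85cb3faeaf0ddabf58c64c7081a5e74312287bfec5d467d4189f6f1528c20ee0fe8d9a8d1f825939)))
(.node (nat_lit 58) (.leaf (nat_lit 0xabfb2d29f715faf4964f4c35b91af36f7e5818234b0c7809764004f199d71548b2f71d8e8663012233dee1aa29ed097a))
(.leaf (nat_lit 0x46e6127ca24dbfeb461676fcfeac57c3682c58b542001e5c8e60cfd72d334da319a2bddea6488741d10e954f61e88e3b))))
(.node (nat_lit 61) (.node (nat_lit 60) (.leaf (nat_lit 0x87449808ea86a5c14db764fb509764b2797004065f2d633ed687b88c7b886f7e559ba683bd7132f7188a83f411af33fc))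
(.leaf (nat_lit 0x5780c262ccaf1c12c92a07a494d43b3a2500730f9b151699ceb4f49a9e7a7cfba18c83121b1feaf179edd84756a35dfd)))
(.node (nat_lit 62) (.leaf (nat_lit 0xeecfe78b8af3e9d6a6b9b5214e3715d187b740ff603172fcbf294e248b47db02a4369144d560e86510b97d2071a8603e))
(.leaf (nat_lit 0x2b3a861d56d37c064247cca0f4312259793e3a1b0904522dbb43663deaf8bf58cb339a29494ed89f641c771970ddaebf)))))))),
  (nat_lit 0xd81a268dde4cdff4345c623036eb4590727d9fc96bee27207c2ea149a593cd945461b5753cebf82caa71ab2b040def80),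
  (nat_lit 0xb699a38a17de6da6985955134d249245145040f38d30b2ca28a2492481c71861851451440c30c2082081041040000000),
  (nat_lit 0x1020820441041020441020420440c21030820411040440440c21030410811030840c20411020440c20440c20440c2041),
  [nat_lit 1, nat_lit 2, nat_lit 3, nat_lit 4]⟩

theorem okA0 : rt.chkA 1 = true := by decide +kernel
theorem okA1 : rt.chkA 2 = true := by decide +kernel
theorem okA2 : rt.chkA 3 = true := by decide +kernel
theorem okA3 : rt.chkA 4 = true := by decide +kernel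
theorem okB : rt.chkB = true := by decide +kernel
noncomputable def tb : GT := ⟨rt, List.forall_mem_cons.2 ⟨okA0, List.forall_mem_cons.2 ⟨okA1, List.forall_mem_cons.2 ⟨okA2, List.forall_mem_cons.2 ⟨okA3, fun _ h => absurd h List.not_mem_nil⟩⟩⟩⟩, okB⟩

theorem hom_chk : homChk tb (nat_lit 0xf8292eb74a15f3d43fd496bb3fae4ce173b2a77cf6c70b2f984aea7678e58a181f79c6d961459349134b2881c6143040) 64 FP4E.tab = true := by decide +kernel

/-- the group -/
abbrev E : Type := El tb

noncomputable def r : E := El.of tb 1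
noncomputable def x : E := El.of tb 2
noncomputable def y : E := El.of tb 3
noncomputable def w : E := El.of tb 4

theorem card : Nat.card E = 64 := El.card tb

theorem eq_top {K : Subgroup E} (h0 : r ∈ K) (h1 : x ∈ K) (h2 : y ∈ K) (h3 : w ∈ K) : K = ⊤ :=
  El.eq_top (List.forall_mem_cons.2 ⟨h0, List.forall_mem_cons.2 ⟨h1, List.forall_mem_cons.2 ⟨h2, List.forall_mem_cons.2 ⟨h3, fun _ h => absurd h List.not_mem_nil⟩⟩⟩⟩)

/-- the relations -/
def Rel {G : Type*} [Group G] (r x y w : G) : Prop :=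
  r * r * r * r * (r * r * r * r) = 1 ∧
  x * r * x⁻¹ = r⁻¹ ∧
  y * r * y⁻¹ = r * (r * r * r * r) ∧
  y * y = 1 ∧
  x * x = r * r * r * r ∧
  x * y * (x * y) = 1 ∧
  w * r * w⁻¹ = y * r ∧
  w * x * w⁻¹ = x ∧
  w * y * w⁻¹ = y ∧
  w * w = 1

instance {G : Type*} [Group G] [DecidableEq G] (r x y w : G) : Decidable (Rel r x y w) := by
  unfold Rel; infer_instance

theorem Rel.map {G G' : Type*} [Group G] [Group G'] (f : G →* G') {r x y w : G}
    (h : Rel r x y w) : Rel (f r) (f x) (f y) (f w) := by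
  obtain ⟨h0, h1, h2, h3, h4, h5, h6, h7, h8, h9⟩ := h
  exact ⟨by simpa only [map_mul, map_inv, map_one] using congrArg f h0,
    by simpa only [map_mul, map_inv, map_one] using congrArg f h1,
    by simpa only [map_mul, map_inv, map_one] using congrArg f h2,
    by simpa only [map_mul, map_inv, map_one] using congrArg f h3,
    by simpa only [map_mul, map_inv, map_one] using congrArg f h4,
    by simpa only [map_mul, map_inv, map_one] using congrArg f h5,
    by simpa only [map_mul, map_inv, map_one] using congrArg f h6,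
    by simpa only [map_mul, map_inv, map_one] using congrArg f h7,
    by simpa only [map_mul, map_inv, map_one] using congrArg f h8,
    by simpa only [map_mul, map_inv, map_one] using congrArg f h9⟩

theorem Rel.of_map {G G' : Type*} [Group G] [Group G'] {f : G →* G'} (hf : Function.Injective f)
    {r x y w : G} (h : Rel (f r) (f x) (f y) (f w)) : Rel r x y w := by
  obtain ⟨h0, h1, h2, h3, h4, h5, h6, h7, h8, h9⟩ := h
  exact ⟨hf (by simpa only [map_mul, map_inv, map_one] using h0),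
    hf (by simpa only [map_mul, map_inv, map_one] using h1),
    hf (by simpa only [map_mul, map_inv, map_one] using h2),
    hf (by simpa only [map_mul, map_inv, map_one] using h3),
    hf (by simpa only [map_mul, map_inv, map_one] using h4),
    hf (by simpa only [map_mul, map_inv, map_one] using h5),
    hf (by simpa only [map_mul, map_inv, map_one] using h6),
    hf (by simpa only [map_mul, map_inv, map_one] using h7),
    hf (by simpa only [map_mul, map_inv, map_one] using h8),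
    hf (by simpa only [map_mul, map_inv, map_one] using h9)⟩

theorem Rel.prod {G G' : Type*} [Group G] [Group G'] {r x y w : G} {r' x' y' w' : G'}
    (h : Rel r x y w) (k : Rel r' x' y' w') :
    Rel (r, r') (x, x') (y, y') (w, w') := by
  obtain ⟨h0, h1, h2, h3, h4, h5, h6, h7, h8, h9⟩ := h
  obtain ⟨k0, k1, k2, k3, k4, k5, k6, k7, k8, k9⟩ := k
  exact ⟨Prod.ext h0 k0, Prod.ext h1 k1, Prod.ext h2 k2, Prod.ext h3 k3, Prod.ext h4 k4, Prod.ext h5 k5, Prod.ext h6 k6, Prod.ext h7 k7, Prod.ext h8 k8, Prod.ext h9 k9⟩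

theorem Rel.sat {G : Type*} [Group G] {r x y w : G} (h : Rel r x y w) :
    ∀ R ∈ FP4E.rels, ev (lt [r, x, y, w]) R = 1 := by
  obtain ⟨h0, h1, h2, h3, h4, h5, h6, h7, h8, h9⟩ := h
  exact List.forall_mem_cons.2 ⟨show r * (r * (r * (r * (r * (r * (r * (r * 1))))))) = 1 by
      simpa only [mul_assoc, mul_inv_rev, inv_inv, inv_one, mul_one, one_mul] using mul_inv_eq_one.2 h0,
    List.forall_mem_cons.2 ⟨show x * (r * (x⁻¹ * (r * 1))) = 1 by
      simpa only [mul_assoc, mul_inv_rev, inv_inv, inv_one, mul_one, one_mul] using mul_inv_eq_one.2 h1,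
    List.forall_mem_cons.2 ⟨show y * (r * (y⁻¹ * (r⁻¹ * (r⁻¹ * (r⁻¹ * (r⁻¹ * (r⁻¹ * 1))))))) = 1 by
      simpa only [mul_assoc, mul_inv_rev, inv_inv, inv_one, mul_one, one_mul] using mul_inv_eq_one.2 h2,
    List.forall_mem_cons.2 ⟨show y * (y * 1) = 1 by
      simpa only [mul_assoc, mul_inv_rev, inv_inv, inv_one, mul_one, one_mul] using mul_inv_eq_one.2 h3,
    List.forall_mem_cons.2 ⟨show x * (x * (r⁻¹ * (r⁻¹ * (r⁻¹ * (r⁻¹ * 1))))) = 1 by
      simpa only [mul_assoc, mul_inv_rev, inv_inv, inv_one, mul_one, one_mul] using mul_inv_eq_one.2 h4,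
    List.forall_mem_cons.2 ⟨show x * (y * (x * (y * 1))) = 1 by
      simpa only [mul_assoc, mul_inv_rev, inv_inv, inv_one, mul_one, one_mul] using mul_inv_eq_one.2 h5,
    List.forall_mem_cons.2 ⟨show w * (r * (w⁻¹ * (r⁻¹ * (y⁻¹ * 1)))) = 1 by
      simpa only [mul_assoc, mul_inv_rev, inv_inv, inv_one, mul_one, one_mul] using mul_inv_eq_one.2 h6,
    List.forall_mem_cons.2 ⟨show w * (x * (w⁻¹ * (x⁻¹ * 1))) = 1 by
      simpa only [mul_assoc, mul_inv_rev, inv_inv, inv_one, mul_one, one_mul] using mul_inv_eq_one.2 h7,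
    List.forall_mem_cons.2 ⟨show w * (y * (w⁻¹ * (y⁻¹ * 1))) = 1 by
      simpa only [mul_assoc, mul_inv_rev, inv_inv, inv_one, mul_one, one_mul] using mul_inv_eq_one.2 h8,
    List.forall_mem_cons.2 ⟨show w * (w * 1) = 1 by
      simpa only [mul_assoc, mul_inv_rev, inv_inv, inv_one, mul_one, one_mul] using mul_inv_eq_one.2 h9,
    fun _ h => absurd h List.not_mem_nil⟩⟩⟩⟩⟩⟩⟩⟩⟩⟩

theorem Rel.of_sat {G : Type*} [Group G] {r x y w : G}
    (h : ∀ R ∈ FP4E.rels, ev (lt [r, x, y, w]) R = 1) : Rel r x y w := by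
  obtain ⟨h0, h⟩ := List.forall_mem_cons.1 h
  obtain ⟨h1, h⟩ := List.forall_mem_cons.1 h
  obtain ⟨h2, h⟩ := List.forall_mem_cons.1 h
  obtain ⟨h3, h⟩ := List.forall_mem_cons.1 h
  obtain ⟨h4, h⟩ := List.forall_mem_cons.1 h
  obtain ⟨h5, h⟩ := List.forall_mem_cons.1 h
  obtain ⟨h6, h⟩ := List.forall_mem_cons.1 h
  obtain ⟨h7, h⟩ := List.forall_mem_cons.1 h
  obtain ⟨h8, h⟩ := List.forall_mem_cons.1 h
  obtain ⟨h9, h⟩ := List.forall_mem_cons.1 h
  exact ⟨mul_inv_eq_one.1 (by simpa only [mul_assoc, mul_inv_rev, inv_inv, inv_one, mul_one, one_mul] using (show r * (r * (r * (r * (r * (r * (r * (r * 1))))))) = 1 from h0)),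
    mul_inv_eq_one.1 (by simpa only [mul_assoc, mul_inv_rev, inv_inv, inv_one, mul_one, one_mul] using (show x * (r * (x⁻¹ * (r * 1))) = 1 from h1)),
    mul_inv_eq_one.1 (by simpa only [mul_assoc, mul_inv_rev, inv_inv, inv_one, mul_one, one_mul] using (show y * (r * (y⁻¹ * (r⁻¹ * (r⁻¹ * (r⁻¹ * (r⁻¹ * (r⁻¹ * 1))))))) = 1 from h2)),
    mul_inv_eq_one.1 (by simpa only [mul_assoc, mul_inv_rev, inv_inv, inv_one, mul_one, one_mul] using (show y * (y * 1) = 1 from h3)),
    mul_inv_eq_one.1 (by simpa only [mul_assoc, mul_inv_rev, inv_inv, inv_one, mul_one, one_mul] using (show x * (x * (r⁻¹ * (r⁻¹ * (r⁻¹ * (r⁻¹ * 1))))) = 1 from h4)),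
    mul_inv_eq_one.1 (by simpa only [mul_assoc, mul_inv_rev, inv_inv, inv_one, mul_one, one_mul] using (show x * (y * (x * (y * 1))) = 1 from h5)),
    mul_inv_eq_one.1 (by simpa only [mul_assoc, mul_inv_rev, inv_inv, inv_one, mul_one, one_mul] using (show w * (r * (w⁻¹ * (r⁻¹ * (y⁻¹ * 1)))) = 1 from h6)),
    mul_inv_eq_one.1 (by simpa only [mul_assoc, mul_inv_rev, inv_inv, inv_one, mul_one, one_mul] using (show w * (x * (w⁻¹ * (x⁻¹ * 1))) = 1 from h7)),
    mul_inv_eq_one.1 (by simpa only [mul_assoc, mul_inv_rev, inv_inv, inv_one, mul_one, one_mul] using (show w * (y * (w⁻¹ * (y⁻¹ * 1))) = 1 from h8)),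
    mul_inv_eq_one.1 (by simpa only [mul_assoc, mul_inv_rev, inv_inv, inv_one, mul_one, one_mul] using (show w * (w * 1) = 1 from h9))⟩

theorem rel : Rel r x y w := by decide +kernel

theorem model {G : Type*} [Group G] {r' x' y' w' : G} (h : Rel r' x' y' w') :
    ∃ φ : E →* G, φ r = r' ∧ φ x = x' ∧ φ y = y' ∧ φ w = w' := by
  obtain ⟨pt, h0, -, hT⟩ := FP4E.enum (lt [r', x', y', w']) (1 : G)
    (lt_icol _ _ (k := 4) rfl (by decide +kernel)) (lt_ge le_rfl) h.sat
    (fun _ h => absurd h List.not_mem_nil)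
  obtain ⟨φ, hφ⟩ := exists_hom tb (l := [r', x', y', w']) rfl h0 hT hom_chk
  exact ⟨φ, by simpa only [List.cons.injEq, and_true] using
    (show [φ r, φ x, φ y, φ w] = [r', x', y', w'] from hφ)⟩

end H70.FP4
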