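import Mathlib
import Cfsg.Agent.Base
import Cfsg.Agent.Lib.M12C.Tab

/-! a group of order 64 (helper70; generated) -/

set_option autoImplicit false
set_option maxRecDepth 100000

namespace H70.FP5E
open H54 (Tr force band)
open H18.TC
noncomputable def T_0 : Tr := (.node (nat_lit 3) (.node (nat_lit 1) (.node (nat_lit 0) (.leaf (nat_lit 0x330000086d615ff1fb18f78c91d24b68612fb358000ee00000a7f913ad6dc8b4642674119a574c26062002a800007ac6b364097f84ffcdad4afe73ab29ed980044000023b4929a161ceaf67213581ffc14ea37ef00198000098d047e936351ada805fe416b02bb019c0000000001db61a5b4cedc666e1b3781dc049e201ff0008800001ae40f731aba0d1d012ea0476007f85ddc000000000b3c055e428f4137a043d80df004fa017e)) (.leaf (nat_lit 0x880001cd9aeb4e5027a7d3c0dfa185e02fe06970002200006c6d09964b0a65753176e88f7045b0257d0033000003bb00cfe6530325803eac0dd55cb21514000ee0000077f04560bcc45ee207ea88558a4c6d251002a8000198c05c6219ff0d3f912ae8fd432291674c00440000112b02d5521a891d40eac023f838b809fb00198000018aa2056452ba2b5c07fc1258172e813f00022000013acb5568feb67fdb0dae0b5742dfc195e)))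 (.node (nat_lit 2) (.leaf (nat_lit 0x3b8000093f64bfc27a51392895f04d7930a32751c00660000243e11bedfc96fecb22fc925e132909b49002a80000dc94ffcb357e1aff0dda46cfa46aa1c1300022000022bc90be0c6a464d2207e107ec7fbc43d8003b8000073bc3afd5fb0aff85d49ce4cd29a80f18c00ee0000347e9a7798dbec7df72e6bb139a0a2b864002a800017bc2c35f32fe99bf5429e714c3f2d99f480044000076a739134e49872cc1caf0d7f470f636dd)) (.leaf (nat_lit 0x2a800019ccccbf46479327c99d90cac6667c35968000000005d72af9b980d8beec5e23af525aeb4b9f9000000000b7e87be62fb9977ccba8c94482ffc96b640022000031290f3e87cf03ef828253e92c77d851f3003b8000165f4b4d259fcadde5f696b64a5bf6ae3c80066000062afaed84f0bc75de39e628b3ceda674fa002a80000f8c4cde03c6c1e7611ea888573d7d1f56c000000007e25ac9295df6b17b583d2b74959aeabcf)))) (.node (nat_lit 5) (.node (nat_lit 4) (.leaf (nat_lit 0x3b8000021e61e723d331e59823ec1cf5223588dc400ee000012f889bdca9a055d014a20ad0cb6c4c5df002200001a9eed9716c28b4f45b686d9c46af035b840022000040a83454500ee7ef75422a0908f9cc7dee00088000050882a4341a12170848e21af70cf806fd400ee000015e18bf11528aab45167b8bdc46ede2df6001980000d4da3a6c3b329df942fe038ef0c7b901ac0044000061773139590dac76d61e4b031d8cb2c1f8))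 (.leaf (nat_lit 0xb2a680db2b2c95565f082e14029f914bb000000000686db4d4da8b4d7da6f203d705a3e6cfed0033000016ac861e332b598bad5cce6f6a343718fd000aa0000696896340ade257f1422129d14b4e877650000000011b8c9348493aa45d520e88ee654e2a33a800ee0000057a82fd92d9095480739041cdc380514a0011000003fec21f518a30cb1841e61ef27a20be52c002200004b242311916ec89f643f3223d10d84ad67))) (.node (nat_lit 6) (.leaf (nat_lit 0x3b8000125a895d74a6aa5d5527c4cf604be1a63a4000000005227a7131e09ceece5e70b117d35d299c4002a8000163ce6dea26f413ba16bc84fe3286abb7380022000080353ef9dfed2fde97cf1beb91f1acfccd0008800013792a4c739b79c7bce1dc746537f5213080000000071f7b9dc1d28ee84772b6399b5fa96e2c0001100001d5e0ecef77a4bbf25d7dae9ec77253cd0400aa00005123a8f253de09ff051b2a83b958cea645)) (.leaf (nat_lit 0x2a80001c08adec26de237311c1a0ddd171a6b89540088000078e13dd15ea86f0c37b28bdf41e59cf3d6001980001be80f241432e20b7103b683d342a621d5c00ee000014ee0b175e282f4c1156cb6b693c8e984800330000060ba27dc6ea037101b4b428d94d248c918002200007b60b7f0155baa8dd5369a9f6d4b9eaa5400220000117ae8e5419ab0c35996c05ce218e2183a00022000052a62873dcf9ae8cd60afaef8539d09dc3)))))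
noncomputable def J_0 : Tr := (.node (nat_lit 3) (.node (nat_lit 1) (.node (nat_lit 0) (.leaf (nat_lit 0x200200000180100000000000002002002001000000200000000000000000004004002000000800000000000000000020000004004000001000000000a00000040040000000000000000000000000000000000240040000000000000000000000400400000000000000000000000000000000)) (.leaf (nat_lit 0x400000000000080010010000000004000000000000400180080000000038008000000000001800000000080080000000010008000000000000000000100100080000020000020000000000000800400100100000040000000000000003001000000000400000000000000020000002002000))) (.node (nat_lit 2) (.leaf (nat_lit 0x400400400000000040000000000000000005000000a0020000000000000000000c004002003001000000000000000100000030010006002003000400400400000180000020000000002002002001800400400000000000000010004004002000000000000800000000000000010004004000001)) (.leaf (nat_lit 0x300100080040040050000000002000000000c0000000004004000001000800000800000000060020000000010000003000000200200200040040040020000000000001000800000000000000120020050018008000000000c00400200000000140000000000000002000000001400d001))))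 (.node (nat_lit 5) (.node (nat_lit 4) (.leaf (nat_lit 0x400400000000000040080000000002002002001800400000000000040000020000002002000001800400800000000000000020000002002003000000000000000200000030010008002002003000000000200000000080000000000000003001002000c000000001800c000000001c004000001)) (.leaf (nat_lit 0x200000000000000028008000002000000000400000200140040000008008000006000000000000a000000800600200100000000000000000004000000000000000a0048008002002002001000000000000080000000030018000002003800800000000000000000000020010006002000))) (.node (nat_lit 6) (.leaf (nat_lit 0x40040040020000004000001001000000000000000100040000014004000002000c0040020010010004002000000001000000200100060020030000004006000001000800100100100000020000000000000000000400400000300180000020038008000000000000000e0020010000008000000)) (.leaf (nat_lit 0x30010008004004000000000000400000040040000030008010000000000000000900100200000000008008000000001000800c000000000000200200000000000060000000000004001000800800400180080000000020000002002000000800400200000000100020010000006002003)))))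
noncomputable def F_0 : Tr := (.node (nat_lit 3) (.node (nat_lit 1) (.node (nat_lit 0) (.leaf (nat_lit 0xaa9a37e6b5fc5bbc72f7ffba4d22da575d183a079128950794698c345930e36ce771bb628c2beeb040e17dd6503c0201)) (.leaf (nat_lit 0xcb1cf8db0ed7f16aa9574d5834c44bebffbd51d7d93d02261e51934ac168e77ae1bee9040e76dcb6388181e68a24e002))) (.node (nat_lit 2) (.leaf (nat_lit 0xbafb259a475e7e071b6924d1ffe57a64c34b2bcefd20e438e76df4d70a2d187144cb1cc2863aa9ac19e25d660050f243)) (.leaf (nat_lit 0xbee92696c7e075e6dc45349afbf63d2cd31927bf3a3883f6df8e75d33ac51c6b43c72c210a2a6aa27063597554010284)))) (.node (nat_lit 5) (.node (nat_lit 4) (.leaf (nat_lit 0xefc8fefe2a72ab15d6438d8f9a550e2b7e4966fb88f7a6923533071a19c4d740ed7a00b3c2c7dd06ba2471b0185512c5)) (.leaf (nat_lit 0xefc8fefe2a72ab15d6438d8f9a550e2b7e4966fb88f7a6923533071a19c4d740ed7a00b3c2c7dd06ba2471b0185512c5))) (.node (nat_lit 6) (.leaf (nat_lit 0xf7afa28ffaf0a33558e0f43692c72fdc92b93483aef3b4da2d1645b5e7f50c4d070a1832c6606776aa650146d7592306))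 (.leaf (nat_lit 0xebdfe38bea33af0615d903f8b246eee4a27730e22fefc49165a2ed160774103d468427b1ca59c17e9aa65007165d3347)))))
noncomputable def T : Tr := T_0
noncomputable def J : Tr := J_0
noncomputable def F : Tr := F_0
noncomputable def row (u : ℕ) : ℕ := Nat.land (Nat.shiftRight (force (Nat.shiftRight u (nat_lit 3)) T.get) (Nat.mul (Nat.land u (nat_lit 7)) (nat_lit 170))) (nat_lit 0x3ffffffffffffffffffffffffffffffffffffffffff)
noncomputable def jrow (u : ℕ) : ℕ := Nat.land (Nat.shiftRight (force (Nat.shiftRight u (nat_lit 3)) J.get) (Nat.mul (Nat.land u (nat_lit 7)) (nat_lit 117))) (nat_lit 0x1fffffffffffffffffffffffffffff)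
noncomputable def fget (k fx : ℕ) : ℕ := F.get (Nat.add k fx)
noncomputable def wt0 : LT := (.node (nat_lit 1) (.node (nat_lit 0) (.leaf 3 2 [nat_lit 34, nat_lit 17, nat_lit 51])
(.leaf 3 0 [nat_lit 51, nat_lit 17, nat_lit 34]))
(.node (nat_lit 4) (.node (nat_lit 2) (.leaf 1 0 [nat_lit 17, nat_lit 17, nat_lit 17, nat_lit 17, nat_lit 17, nat_lit 17, nat_lit 17])
(.node (nat_lit 3) (.leaf 5 2 [nat_lit 68, nat_lit 0, nat_lit 0, nat_lit 0, nat_lit 0, nat_lit 0, nat_lit 85])
(.leaf 13 2 [nat_lit 102, nat_lit 0, nat_lit 68, nat_lit 119])))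
(.leaf 0 0 [])))
noncomputable def wt1 : LT := (.node (nat_lit 3) (.node (nat_lit 0) (.leaf 13 4 [nat_lit 68, nat_lit 119, nat_lit 17, nat_lit 102])
(.node (nat_lit 1) (.leaf 9 3 [nat_lit 0, nat_lit 0, nat_lit 0, nat_lit 51, nat_lit 51])
(.node (nat_lit 2) (.leaf 9 0 [nat_lit 51, nat_lit 51, nat_lit 0, nat_lit 0, nat_lit 0])
(.leaf 9 4 [nat_lit 0, nat_lit 0, nat_lit 51, nat_lit 51, nat_lit 0]))))
(.node (nat_lit 5) (.node (nat_lit 4) (.leaf 5 0 [nat_lit 85, nat_lit 17, nat_lit 68, nat_lit 0, nat_lit 0, nat_lit 0, nat_lit 0])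
(.leaf 9 5 [nat_lit 0, nat_lit 51, nat_lit 51, nat_lit 0, nat_lit 0]))
(.leaf 0 0 [])))
noncomputable def wt2 : LT := (.node (nat_lit 1) (.node (nat_lit 0) (.leaf 3 1 [nat_lit 17, nat_lit 34, nat_lit 17])
(.leaf 11 3 [nat_lit 85, nat_lit 51, nat_lit 85]))
(.node (nat_lit 3) (.node (nat_lit 2) (.leaf 15 2 [nat_lit 102, nat_lit 34, nat_lit 119])
(.leaf 9 1 [nat_lit 51, nat_lit 0, nat_lit 0, nat_lit 0, nat_lit 0]))
(.node (nat_lit 4) (.leaf 9 2 [nat_lit 0, nat_lit 0, nat_lit 0, nat_lit 0, nat_lit 51])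
(.leaf 0 0 []))))
noncomputable def wt3 : LT := (.node (nat_lit 1) (.node (nat_lit 0) (.leaf 15 0 [nat_lit 119, nat_lit 51, nat_lit 102])
(.leaf 3 3 [nat_lit 17, nat_lit 51, nat_lit 17]))
(.node (nat_lit 3) (.node (nat_lit 2) (.leaf 19 3 [nat_lit 34, nat_lit 119, nat_lit 119])
(.leaf 19 0 [nat_lit 119, nat_lit 119, nat_lit 34]))
(.leaf 0 0 [])))
noncomputable def wt4 : LT := (.node (nat_lit 0) (.leaf 7 0 [nat_lit 85])
(.node (nat_lit 2) (.node (nat_lit 1) (.leaf 5 1 [nat_lit 17, nat_lit 68, nat_lit 0, nat_lit 0, nat_lit 0, nat_lit 0, nat_lit 0])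
(.leaf 17 2 [nat_lit 102, nat_lit 68, nat_lit 119]))
(.node (nat_lit 3) (.leaf 11 0 [nat_lit 51, nat_lit 85, nat_lit 51])
(.leaf 0 0 []))))
noncomputable def wt5 : LT := (.node (nat_lit 2) (.node (nat_lit 0) (.leaf 5 3 [nat_lit 0, nat_lit 0, nat_lit 0, nat_lit 0, nat_lit 0, nat_lit 85, nat_lit 17])
(.node (nat_lit 1) (.leaf 17 0 [nat_lit 119, nat_lit 85, nat_lit 102])
(.leaf 13 0 [nat_lit 119, nat_lit 17, nat_lit 102, nat_lit 0])))
(.leaf 0 0 []))
noncomputable def wt6 : LT := (.node (nat_lit 1) (.node (nat_lit 0) (.leaf 17 1 [nat_lit 85, nat_lit 102, nat_lit 68])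
(.leaf 19 1 [nat_lit 119, nat_lit 34, nat_lit 34]))
(.node (nat_lit 3) (.node (nat_lit 2) (.leaf 19 2 [nat_lit 34, nat_lit 34, nat_lit 119])
(.leaf 13 1 [nat_lit 17, nat_lit 102, nat_lit 0, nat_lit 68]))
(.node (nat_lit 4) (.leaf 15 1 [nat_lit 51, nat_lit 102, nat_lit 34])
(.leaf 0 0 []))))
noncomputable def wt7 : LT := (.node (nat_lit 1) (.node (nat_lit 0) (.leaf 13 3 [nat_lit 0, nat_lit 68, nat_lit 119, nat_lit 17])
(.leaf 17 3 [nat_lit 68, nat_lit 119, nat_lit 85]))
(.node (nat_lit 2) (.leaf 15 3 [nat_lit 34, nat_lit 119, nat_lit 51])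
(.leaf 0 0 [])))
noncomputable def wt8 : LT := (.leaf 0 0 [])
noncomputable def sl : List (ℕ × ℕ × List ℕ × List ℕ) := []
/-- the inverse column -/
noncomputable def icol (x : ℕ) : ℕ := List.getD [nat_lit 1, nat_lit 0, nat_lit 3, nat_lit 2, nat_lit 5, nat_lit 4, nat_lit 7, nat_lit 6] x x
noncomputable def inv (x : ℕ) : ℕ := Nat.mul (icol (Nat.div x (nat_lit 17))) (nat_lit 17)
def cols : List ℕ := [nat_lit 136, nat_lit 0, nat_lit 17, nat_lit 34, nat_lit 51, nat_lit 68, nat_lit 85, nat_lit 102, nat_lit 119]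
noncomputable def cl : CL := (.cons (nat_lit 0) (nat_lit 17) (nat_lit 0) (nat_lit 0) wt0
(.cons (nat_lit 17) (nat_lit 0) (nat_lit 13) (nat_lit 1) wt1
(.cons (nat_lit 34) (nat_lit 51) (nat_lit 26) (nat_lit 2) wt2
(.cons (nat_lit 51) (nat_lit 34) (nat_lit 39) (nat_lit 3) wt3
(.cons (nat_lit 68) (nat_lit 85) (nat_lit 52) (nat_lit 4) wt4
(.cons (nat_lit 85) (nat_lit 68) (nat_lit 65) (nat_lit 5) wt5
(.cons (nat_lit 102) (nat_lit 119) (nat_lit 78) (nat_lit 6) wt6
(.cons (nat_lit 119) (nat_lit 102) (nat_lit 91) (nat_lit 7) wt7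
.nil))))))))
def rels : List (List ℕ) := [[0, 0, 0, 0, 0, 0, 0, 0],
[0, 3, 0, 2],
[1, 1, 1, 1, 1, 5, 0, 4],
[4, 4],
[1, 1, 1, 1, 2, 2],
[4, 2, 4, 2],
[5, 1, 7, 0, 6],
[3, 7, 2, 6],
[5, 7, 4, 6],
[3, 3, 6, 6]]
def subs : List (List ℕ) := []
noncomputable def chk : ℕ → Bool := rowChk row jrow fget sl cols (nat_lit 64) (nat_lit 64) (nat_lit 131071) (nat_lit 127) (nat_lit 131072) (nat_lit 136) (nat_lit 153) (nat_lit 8191) (nat_lit 6) (nat_lit 63) (nat_lit 6) (nat_lit 63) cl (nat_lit 104) wt8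
theorem p0 : allB chk 6 0 = true := by decide +kernel
theorem all_chk : AllLt chk 64 := by
  have h := AllLt.zero chk
  have h := h.step 64 p0 (by decide +kernel)
  exact h
/-- column `x` of the final table -/
noncomputable def tab (x u : ℕ) : ℕ := ft fget (nat_lit 6) (nat_lit 63) (nat_lit 6) (nat_lit 63) (Nat.mul x (nat_lit 1)) u
theorem enum {G Ω : Type*} [Group G] [MulAction G Ω] (g : ℕ → G) (ω : Ω)
    (hinv : ∀ x, g (icol x) = (g x)⁻¹) (h1 : g 8 = 1)
    (hrels : ∀ R ∈ rels, ev g R = 1) (hsubs : ∀ S ∈ subs, ev g S • ω = ω) :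
    ∃ pt : ℕ → Ω, pt 0 = ω ∧ (∀ K : Subgroup G, (∀ x, g x ∈ K) → ∀ v, ∃ k ∈ K, pt v = k • ω) ∧
      ∀ x, x < 8 → ∀ u, u < 64 → tab x u < 64 ∧ g x • pt u = pt (tab x u) :=
  sound_scaled g ω row jrow fget sl inv icol cols (nat_lit 64) (nat_lit 64) (nat_lit 131071) (nat_lit 127) (nat_lit 131072) (nat_lit 136) (nat_lit 153) (nat_lit 8191) (nat_lit 6) (nat_lit 63) (nat_lit 6) (nat_lit 63) 7 cl (nat_lit 104) wt8 rels subs 17 (nat_lit 1) 8
    (fun _ => Nat.mul_div_cancel _ (by decide)) hinv h1 hrels hsubs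
    (by decide +kernel) (by decide +kernel) all_chk
end H70.FP5E

namespace H70.FP5
open H70.TM H18.TC Subgroup

noncomputable def rt : RT := ⟨nat_lit 64, nat_lit 6, nat_lit 63,
  (.node (nat_lit 31) (.node (nat_lit 15) (.node (nat_lit 7) (.node (nat_lit 3) (.node (nat_lit 1) (.node (nat_lit 0) (.leaf (nat_lit 0xffef7cefae78df6d74cf2c70beeb6caeaa689e69648e28607de75c6da6585d65544d24503ce34c2ca2481c61440c2040))
(.leaf (nat_lit 0xf40960ff723aa173ebe1e1167f367ee4348cf34754bbbc241e9dadcb52ea88eb31bc62a799c4e38556da602450349141)))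
(.node (nat_lit 2) (.leaf (nat_lit 0x68923ad7188453477f4018d88674dbedcfa4dfde73f0fab82c0aef17636d987caec2ca6895f5a00de45765548c38a182))
(.leaf (nat_lit 0xbafa35ebb825db7f275d9adbfbf498c5187dd24e2674ca7928e8c9c14caccc635a16da8811e56209f7100564cf00b1c3))))
(.node (nat_lit 5) (.node (nat_lit 4) (.leaf (nat_lit 0xc351aa25c0c24ad45367dbf6f1bfe7fb1ed61412c784ee80e78a63dd8a34cb39ac6aeacd7e591e8a075541750a3cc204))
(.leaf (nat_lit 0x941764f686b73229b9ea940e1f82c020d1a382bdb1cff5946125d978f843edcf847c257cd2dbeec2ccb5a892a74db445)))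
(.node (nat_lit 6) (.leaf (nat_lit 0x202e786945f192697b1003072d034988eb20ebfaee9f563367ed1305d0dc3df6e38557b7f6fc3cab2176b4aa68591486))
(.leaf (nat_lit 0xa03e39bb643bf7313194e3c6297caf800b62d678daffa6e6061dd267c09131e62bf967f490915da4dc14b0ba8855c4c7)))))
(.node (nat_lit 11) (.node (nat_lit 9) (.node (nat_lit 8) (.leaf (nat_lit 0x1842c0c1255c5b27fe0b82b3e59a350cfb9ea93a6c6c9d8743bb7ff518b13a59eff178050636a1ea6dd8d0cacd91d508))
(.leaf (nat_lit 0xd5b6b73c4ed0c6bdbd9c5baac3cbf2fed014a252388260fa841e5f4574d9d187b35be48c7473a43692a22ec1a3715089)))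
(.node (nat_lit 10) (.leaf (nat_lit 0xd915f17633ccbbfadaa06f2dab7c05d6f273508890ea57040c2ee14b4593f5906761bfa4e4b1f8380a66372b207de54a))
(.leaf (nat_lit 0x51c43bf2b30f6a78ee20776ca74170e89be6da8817d44465083c7e4f755290167f6d887de0a1b900eab3c8db6279f58b))))
(.node (nat_lit 13) (.node (nat_lit 12) (.leaf (nat_lit 0x61d55c46f38ab13a70348874e856b7263d474860d9a9fc42884fbc52d93f050f5bda7ed62f9cc03f8af2a26b9e9605cc))
(.leaf (nat_lit 0xcdf30fdff91d5e883c88be7203d1aa10ac25ad4eb4da348855cb9b5b17bee024f54590da429b3b247b6714ebe606160d)))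
(.node (nat_lit 14) (.leaf (nat_lit 0x9e191dc75e39d14eb798dec525ab2d8e9a88ff313dae0fa279ff1162e05b4155b6493717300c8f28bbe8187c2508364e))
(.leaf (nat_lit 0x6fc59170900bb52a85ca8fb7d70bb4bebe864c7081a5eec382585ddacf6765791853fc552b898e3398cd23369f12240f))))))
(.node (nat_lit 23) (.node (nat_lit 19) (.node (nat_lit 17) (.node (nat_lit 16) (.leaf (nat_lit 0x58f0836ed3491992af2e57d7832f7c004fce445858c1cdc123a4aea2a32b7b8d3ed73e531dd529ee4dac9e2c559a3690))
(.leaf (nat_lit 0x745d9494cd688fbd08dd29dc63a8416930ae9395c4e3d3b1a8688ba66c0dfed0101c9b20ad97f35be78f0db57cbf2291)))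
(.node (nat_lit 18) (.leaf (nat_lit 0xe46af3224d9480ff62c7ea1f6440c25d657ce3bd2341a1eeb6c98d025a8ed6f24c2cacbafd386761b05d7117b7c05a52))
(.leaf (nat_lit 0xe078e6a3d53688c920ee121e06508341559de71deb5ee19ab2dcf2384a40e89bcf28b3759d2fbf6d867c45c7f4170a93))))
(.node (nat_lit 21) (.node (nat_lit 20) (.leaf (nat_lit 0x2c8a4719661278e04373b3654028845645e103eb6f670cecd2eca8e1fe8f263d4ae4c9aa4fff1bda7f51c5d8056b7ad4))
(.leaf (nat_lit 0x5ca884dae9a3cfde753028190e85913df6f8c5aee7dddb50349ff01ab3af94b17cab201422163a7014b44defa41e9b15)))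
(.node (nat_lit 22) (.leaf (nat_lit 0x40b82551aceb9a4e3a3c388108855c31e639eeec7fd3cb17caf9c51e300910ac1da4d3b6a3e6f54594f749f87d1aab56))
(.leaf (nat_lit 0x54c0c262ccaf1c12c928479088d91d3a59c0730f9b151d19a354da2293e37f9de1ea6e121bcdaac7d52dfe0ed6cebb97)))))
(.node (nat_lit 27) (.node (nat_lit 25) (.node (nat_lit 24) (.leaf (nat_lit 0x30de88cd79ff97840475c98256279f90167b3fcbb5f77cb4170a062e024a8e9ab900e1eb51b4764935b1fa10dab2dbd8))
(.leaf (nat_lit 0x90e1229f4a35210323e5f9557a6061e024cf777f366b117d1aa52c37a2a9800b7b2472ffcd14abf9662e6c3717cafc19)))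
(.node (nat_lit 26) (.leaf (nat_lit 0x90841586b2d39e1c027a57820b30f366ce90ef4bec9b5d89ff67d94aec471df1f82291116ed70df4a2aae3e53536c5a))
(.leaf (nat_lit 0x3f2d68990fe71395e5f11cc35a07def5907131d6ba934377c052072a2bcbaeaa783801a3d987144d257b87e0aeb6c25b))))
(.node (nat_lit 29) (.node (nat_lit 28) (.leaf (nat_lit 0xf3053610fe88af1de8d13fd16f5f99b920daf78425e6403ba4780aab31729ec3971afb628c17a65617cc09859d24d2dc))
(.leaf (nat_lit 0x4776127ca24dbfeb461546f1daaf3dc3f12c58b5420013dce880f9af26a84f4e19cf5b9ea5094793b80e8a75e18e631d)))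
(.node (nat_lit 30) (.leaf (nat_lit 0xd299a3afc9609daef6915e93714612761450b973e8c79bcc38ad6ab3f1f020d1b7b452738836447c2fbd5816f82c0c9e))
(.leaf (nat_lit 0xdeaceb8dd122feec54f56d524766d3f3e717690308ef824f00bea9b67185a321f4b30be680206578386455963928e35f)))))))
(.node (nat_lit 47) (.node (nat_lit 39) (.node (nat_lit 35) (.node (nat_lit 33) (.node (nat_lit 32) (.leaf (nat_lit 0xb6bcafa617de6f0f98597abfc52d9447c759b1538d70b8ca3cc27ab93cda1a8205d37d470e2402944ec193d9c0e789a0))
(.leaf (nat_lit 0xc6d9ff8398e6d7cbb3698dbe4ab456ddb7f45cc9223d029d24d100be8b065052fdcaac25e9508805c0f879367ba473a1)))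
(.node (nat_lit 34) (.leaf (nat_lit 0xb23349abe79f60585b550a67ed353671df01b5603244aacb30fbf56929ae1c8a30df4e860a05c3125c59f64fcee39ce2))
(.leaf (nat_lit 0xab6b2d29f715faf4964dac2bdd1d686ee3d818234b0c7109ed0020c5953d1679725fcfce848e019bae5e334ce97648a3))))
(.node (nat_lit 37) (.node (nat_lit 36) (.leaf (nat_lit 0x67979f4b01e9c9602a3a20fd1065f12a0d8bfac713b61b959a36f7cefe3508c691ae83d837b9c9750fc5525f0123ad24))
(.leaf (nat_lit 0x17a1e9bd10834ec7120642547589ff87bc55c19286f80d4ee39aabd1b237366cedb9a8f2784f5f822f165d0d8b30fa25)))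
(.node (nat_lit 38) (.leaf (nat_lit 0xca038ab5b0616460d178c0283d6ceb7f9dc2bd82454a9fcd91dc365fe97c2e252ac7d12c57ad1c8c8b936b8d4743b9e6))
(.leaf (nat_lit 0x3a624dc994db08b55f85d1e291e960050f5c291c2a5ada056b71b33038f9a7aac03f822f636c52fd45fef3b12cd2ed67)))))
(.node (nat_lit 43) (.node (nat_lit 41) (.node (nat_lit 40) (.leaf (nat_lit 0x1e528e15359154d7a10f92e6e0123a08c69fa52aad62f5065f1b2791c83b004fc97508b066bbbed73d1bdcf8f2f7cda8))
(.leaf (nat_lit 0xad2d2ee60764f35fd752cdefb71a86db02a7ce298c1087e37153c3fbd6166930a86516f8ecd2d01c9025385cba8417a9)))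
(.node (nat_lit 42) (.leaf (nat_lit 0x8d3ddae22f3d77a9d0dadd09b3ba475052ff9a0ccf9687ab4563028646d5b920c805c639c722971af384030375f997ea))
(.leaf (nat_lit 0xa54b6c2de4568494d54ae163d1ce8861a31b1c3c8a08696fc573a2ec1da4c3f10d41d9c0fa8e59cf5e1f3f79aaf3d82b))))
(.node (nat_lit 45) (.node (nat_lit 44) (.leaf (nat_lit 0x895ed05f3d2ee2520f8c990b34c38a987cba135ffca366674dbf560b971f7614600de0716b0ab7b451abbe9014612fac))
(.leaf (nat_lit 0x816c57426ddae44a0caeff4ac8f00bcc637597a9dd21407f4989150f845ef3e72209f67bb85a74b301e326a3b66d386d)))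
(.node (nat_lit 46) (.leaf (nat_lit 0xd7f99547b6c01f18ebf55b9a0a3cccb39aa0894e135841bfe706410bc6547c75e8a0f5cc1ae85d372298ebe12d94eee))
(.leaf (nat_lit 0xe98bb4325c57ee3524ff06a915d24d9ec3b6204a398b30b5f99e1e710481ddb7e65614cff0603dcaa2e02ad1eb4560ef))))))
(.node (nat_lit 55) (.node (nat_lit 51) (.node (nat_lit 49) (.node (nat_lit 48) (.leaf (nat_lit 0x119f3d908bb43e0cf8d6a5c01b928ea321eb8a353b9a75766d34017ccf82c5186578359ddec25a16d37aa6f2ff498730))
(.leaf (nat_lit 0x85a49808ea86a5c14db7f4dd9c9ed0b148b004065f2d6e3eaf378ce87de66ee3d5223d03bfd8325fc94a136911d68e71)))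
(.node (nat_lit 50) (.leaf (nat_lit 0x99e3ccd27f7c40889d80ae0d3a41e994b1448f6d7752b4e859169857b7e1e434ba7010ae5eab71bc6b3fc0027367e6f2))
(.leaf (nat_lit 0x36200bb1867e04709c7cf3883159a37b8d0325bbf04ea9f2f7c15442111d2a0da9ee496d5b5dd1ae8692bb9e865f1ff3))))
(.node (nat_lit 53) (.node (nat_lit 52) (.leaf (nat_lit 0x7a47156721702c234aa6304c98ee391c8a097ea6d1192f5353659788076087bc4312543eb37aedb9acefd7a3d89fff34))
(.leaf (nat_lit 0x267c05382f997296016f7b3a6a18e64f4e1235f1807b28aaf3d2e5755fd0b7680793b50a4733d6a2b303e6e22fc57135)))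
(.node (nat_lit 54) (.leaf (nat_lit 0x2a8a861d56d37c0642471c845c38255bd43e3a1b090459addda348e5ed4cbebe8be0fce94a775853f91cefc8b0bb48f6))
(.leaf (nat_lit 0x7fd45604dc05283c8baab64fcc0e781a822f7a961c1d3912d9455080ef22fb1ec29445e1b748ec6ae989eb531bfe7777)))))
(.node (nat_lit 59) (.node (nat_lit 57) (.node (nat_lit 56) (.leaf (nat_lit 0x4fb061faa2c015826d1e671a8ecd2ea7aacd6f27d6bc3f1e9604719f04365645d2fd475938fa0ae4cd46cc8dc2884f78))
(.leaf (nat_lit 0x4b167e86928ec1bbec1b346eaedddaab58f260d79524275f12273bfc55d45bd4139f6f0100c20be0fe879a8d03825939)))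
(.node (nat_lit 58) (.leaf (nat_lit 0xbff17000384146a6d9634b75bbeaf34b7e53c9e1ce7cd829764284f169d7b14886f71d8b7263152233c2e1aa09ed097a))
(.leaf (nat_lit 0xfae4db0c0a47a91c32b274bcfefc57b7680564e05e295e618e67cfd46d3361a316a2bdc226488d41d10b954f5ce88e3b))))
(.node (nat_lit 61) (.node (nat_lit 60) (.leaf (nat_lit 0x7346d378bbf2261b07c3663b52976416796d54a583399311d680b88cdb884b7e419ba69fa97106f7188083f43eaf33fc))
(.leaf (nat_lit 0x787de4c51aa3553a90200a494743b2e250a86d452b3e696ceb634989e7a0cfb9c8c831bcb1feff179f0d84759a35dfd)))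
(.node (nat_lit 62) (.leaf (nat_lit 0xeecfe78b8af3e9d6a6b9b5214e3715d187b740ff603172fcbf294e248b47db02a4369144d560e86510b97d2071a8603e))
(.leaf (nat_lit 0x33bf23414980ca59efbc1a0f5f1226579112dc16956c230bb41e63c2af8ab58ce339a096d4ed39f642177196dddaebf)))))))),
  (nat_lit 0xfc1cc8ebb3f8bb691af469b0377b454072575318b57657047c28e14b4593a1946761b56be4ebcc2caa7cab2b200def80),
  (nat_lit 0xb699a38a17de6da6985955134d249245145040f38d30b2ca28a2492481c71861851451440c30c2082081041040000000),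
  (nat_lit 0x1020820441041020441020420440c21030820411040440440c21030410811030840c20411020440c20440c20440c2041),
  [nat_lit 1, nat_lit 2, nat_lit 3, nat_lit 4]⟩

theorem okA0 : rt.chkA 1 = true := by decide +kernel
theorem okA1 : rt.chkA 2 = true := by decide +kernel
theorem okA2 : rt.chkA 3 = true := by decide +kernel
theorem okA3 : rt.chkA 4 = true := by decide +kernel
theorem okB : rt.chkB = true := by decide +kernel
noncomputable def tb : GT := ⟨rt, List.forall_mem_cons.2 ⟨okA0, List.forall_mem_cons.2 ⟨okA1, List.forall_mem_cons.2 ⟨okA2, List.forall_mem_cons.2 ⟨okA3, fun _ h => absurd h List.not_mem_nil⟩⟩⟩⟩, okB⟩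

theorem hom_chk : homChk tb (nat_lit 0xfc2aa0cb8717f3e4afe4a7bd47be8e4da43798dd5fdb4cc7b44c708eeaeca689e592285d6d86565543cc2c9206143040) 64 FP5E.tab = true := by decide +kernel

/-- the group -/
abbrev E : Type := El tb

noncomputable def r : E := El.of tb 1
noncomputable def x : E := El.of tb 2
noncomputable def y : E := El.of tb 3
noncomputable def w : E := El.of tb 4

theorem card : Nat.card E = 64 := El.card tb

theorem eq_top {K : Subgroup E} (h0 : r ∈ K) (h1 : x ∈ K) (h2 : y ∈ K) (h3 : w ∈ K) : K = ⊤ :=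
  El.eq_top (List.forall_mem_cons.2 ⟨h0, List.forall_mem_cons.2 ⟨h1, List.forall_mem_cons.2 ⟨h2, List.forall_mem_cons.2 ⟨h3, fun _ h => absurd h List.not_mem_nil⟩⟩⟩⟩)

/-- the relations -/
def Rel {G : Type*} [Group G] (r x y w : G) : Prop :=
  r * r * r * r * (r * r * r * r) = 1 ∧
  x * r * x⁻¹ = r⁻¹ ∧
  y * r * y⁻¹ = r * (r * r * r * r) ∧
  y * y = 1 ∧
  x * x = r * r * r * r ∧
  x * y * (x * y) = 1 ∧
  w * r * w⁻¹ = y * r ∧
  w * x * w⁻¹ = x ∧
  w * y * w⁻¹ = y ∧
  w * w = x * x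

instance {G : Type*} [Group G] [DecidableEq G] (r x y w : G) : Decidable (Rel r x y w) := by
  unfold Rel; infer_instance

theorem Rel.map {G G' : Type*} [Group G] [Group G'] (f : G →* G') {r x y w : G}
    (h : Rel r x y w) : Rel (f r) (f x) (f y) (f w) := by
  obtain ⟨h0, h1, h2, h3, h4, h5, h6, h7, h8, h9⟩ := h
  exact ⟨by simpa only [map_mul, map_inv, map_one] using congrArg f h0,
    by simpa only [map_mul, map_inv, map_one] using congrArg f h1,
    by simpa only [map_mul, map_inv, map_one] using congrArg f h2,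
    by simpa only [map_mul, map_inv, map_one] using congrArg f h3,
    by simpa only [map_mul, map_inv, map_one] using congrArg f h4,
    by simpa only [map_mul, map_inv, map_one] using congrArg f h5,
    by simpa only [map_mul, map_inv, map_one] using congrArg f h6,
    by simpa only [map_mul, map_inv, map_one] using congrArg f h7,
    by simpa only [map_mul, map_inv, map_one] using congrArg f h8,
    by simpa only [map_mul, map_inv, map_one] using congrArg f h9⟩

theorem Rel.of_map {G G' : Type*} [Group G] [Group G'] {f : G →* G'} (hf : Function.Injective f)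
    {r x y w : G} (h : Rel (f r) (f x) (f y) (f w)) : Rel r x y w := by
  obtain ⟨h0, h1, h2, h3, h4, h5, h6, h7, h8, h9⟩ := h
  exact ⟨hf (by simpa only [map_mul, map_inv, map_one] using h0),
    hf (by simpa only [map_mul, map_inv, map_one] using h1),
    hf (by simpa only [map_mul, map_inv, map_one] using h2),
    hf (by simpa only [map_mul, map_inv, map_one] using h3),
    hf (by simpa only [map_mul, map_inv, map_one] using h4),
    hf (by simpa only [map_mul, map_inv, map_one] using h5),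
    hf (by simpa only [map_mul, map_inv, map_one] using h6),
    hf (by simpa only [map_mul, map_inv, map_one] using h7),
    hf (by simpa only [map_mul, map_inv, map_one] using h8),
    hf (by simpa only [map_mul, map_inv, map_one] using h9)⟩

theorem Rel.prod {G G' : Type*} [Group G] [Group G'] {r x y w : G} {r' x' y' w' : G'}
    (h : Rel r x y w) (k : Rel r' x' y' w') :
    Rel (r, r') (x, x') (y, y') (w, w') := by
  obtain ⟨h0, h1, h2, h3, h4, h5, h6, h7, h8, h9⟩ := h
  obtain ⟨k0, k1, k2, k3, k4, k5, k6, k7, k8, k9⟩ := k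
  exact ⟨Prod.ext h0 k0, Prod.ext h1 k1, Prod.ext h2 k2, Prod.ext h3 k3, Prod.ext h4 k4, Prod.ext h5 k5, Prod.ext h6 k6, Prod.ext h7 k7, Prod.ext h8 k8, Prod.ext h9 k9⟩

theorem Rel.sat {G : Type*} [Group G] {r x y w : G} (h : Rel r x y w) :
    ∀ R ∈ FP5E.rels, ev (lt [r, x, y, w]) R = 1 := by
  obtain ⟨h0, h1, h2, h3, h4, h5, h6, h7, h8, h9⟩ := h
  exact List.forall_mem_cons.2 ⟨show r * (r * (r * (r * (r * (r * (r * (r * 1))))))) = 1 by
      simpa only [mul_assoc, mul_inv_rev, inv_inv, inv_one, mul_one, one_mul] using mul_inv_eq_one.2 h0,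
    List.forall_mem_cons.2 ⟨show x * (r * (x⁻¹ * (r * 1))) = 1 by
      simpa only [mul_assoc, mul_inv_rev, inv_inv, inv_one, mul_one, one_mul] using mul_inv_eq_one.2 h1,
    List.forall_mem_cons.2 ⟨show y * (r * (y⁻¹ * (r⁻¹ * (r⁻¹ * (r⁻¹ * (r⁻¹ * (r⁻¹ * 1))))))) = 1 by
      simpa only [mul_assoc, mul_inv_rev, inv_inv, inv_one, mul_one, one_mul] using mul_inv_eq_one.2 h2,
    List.forall_mem_cons.2 ⟨show y * (y * 1) = 1 by
      simpa only [mul_assoc, mul_inv_rev, inv_inv, inv_one, mul_one, one_mul] using mul_inv_eq_one.2 h3,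
    List.forall_mem_cons.2 ⟨show x * (x * (r⁻¹ * (r⁻¹ * (r⁻¹ * (r⁻¹ * 1))))) = 1 by
      simpa only [mul_assoc, mul_inv_rev, inv_inv, inv_one, mul_one, one_mul] using mul_inv_eq_one.2 h4,
    List.forall_mem_cons.2 ⟨show x * (y * (x * (y * 1))) = 1 by
      simpa only [mul_assoc, mul_inv_rev, inv_inv, inv_one, mul_one, one_mul] using mul_inv_eq_one.2 h5,
    List.forall_mem_cons.2 ⟨show w * (r * (w⁻¹ * (r⁻¹ * (y⁻¹ * 1)))) = 1 by
      simpa only [mul_assoc, mul_inv_rev, inv_inv, inv_one, mul_one, one_mul] using mul_inv_eq_one.2 h6,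
    List.forall_mem_cons.2 ⟨show w * (x * (w⁻¹ * (x⁻¹ * 1))) = 1 by
      simpa only [mul_assoc, mul_inv_rev, inv_inv, inv_one, mul_one, one_mul] using mul_inv_eq_one.2 h7,
    List.forall_mem_cons.2 ⟨show w * (y * (w⁻¹ * (y⁻¹ * 1))) = 1 by
      simpa only [mul_assoc, mul_inv_rev, inv_inv, inv_one, mul_one, one_mul] using mul_inv_eq_one.2 h8,
    List.forall_mem_cons.2 ⟨show w * (w * (x⁻¹ * (x⁻¹ * 1))) = 1 by
      simpa only [mul_assoc, mul_inv_rev, inv_inv, inv_one, mul_one, one_mul] using mul_inv_eq_one.2 h9,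
    fun _ h => absurd h List.not_mem_nil⟩⟩⟩⟩⟩⟩⟩⟩⟩⟩

theorem Rel.of_sat {G : Type*} [Group G] {r x y w : G}
    (h : ∀ R ∈ FP5E.rels, ev (lt [r, x, y, w]) R = 1) : Rel r x y w := by
  obtain ⟨h0, h⟩ := List.forall_mem_cons.1 h
  obtain ⟨h1, h⟩ := List.forall_mem_cons.1 h
  obtain ⟨h2, h⟩ := List.forall_mem_cons.1 h
  obtain ⟨h3, h⟩ := List.forall_mem_cons.1 h
  obtain ⟨h4, h⟩ := List.forall_mem_cons.1 h
  obtain ⟨h5, h⟩ := List.forall_mem_cons.1 h
  obtain ⟨h6, h⟩ := List.forall_mem_cons.1 h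
  obtain ⟨h7, h⟩ := List.forall_mem_cons.1 h
  obtain ⟨h8, h⟩ := List.forall_mem_cons.1 h
  obtain ⟨h9, h⟩ := List.forall_mem_cons.1 h
  exact ⟨mul_inv_eq_one.1 (by simpa only [mul_assoc, mul_inv_rev, inv_inv, inv_one, mul_one, one_mul] using (show r * (r * (r * (r * (r * (r * (r * (r * 1))))))) = 1 from h0)),
    mul_inv_eq_one.1 (by simpa only [mul_assoc, mul_inv_rev, inv_inv, inv_one, mul_one, one_mul] using (show x * (r * (x⁻¹ * (r * 1))) = 1 from h1)),
    mul_inv_eq_one.1 (by simpa only [mul_assoc, mul_inv_rev, inv_inv, inv_one, mul_one, one_mul] using (show y * (r * (y⁻¹ * (r⁻¹ * (r⁻¹ * (r⁻¹ * (r⁻¹ * (r⁻¹ * 1))))))) = 1 from h2)),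
    mul_inv_eq_one.1 (by simpa only [mul_assoc, mul_inv_rev, inv_inv, inv_one, mul_one, one_mul] using (show y * (y * 1) = 1 from h3)),
    mul_inv_eq_one.1 (by simpa only [mul_assoc, mul_inv_rev, inv_inv, inv_one, mul_one, one_mul] using (show x * (x * (r⁻¹ * (r⁻¹ * (r⁻¹ * (r⁻¹ * 1))))) = 1 from h4)),
    mul_inv_eq_one.1 (by simpa only [mul_assoc, mul_inv_rev, inv_inv, inv_one, mul_one, one_mul] using (show x * (y * (x * (y * 1))) = 1 from h5)),
    mul_inv_eq_one.1 (by simpa only [mul_assoc, mul_inv_rev, inv_inv, inv_one, mul_one, one_mul] using (show w * (r * (w⁻¹ * (r⁻¹ * (y⁻¹ * 1)))) = 1 from h6)),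
    mul_inv_eq_one.1 (by simpa only [mul_assoc, mul_inv_rev, inv_inv, inv_one, mul_one, one_mul] using (show w * (x * (w⁻¹ * (x⁻¹ * 1))) = 1 from h7)),
    mul_inv_eq_one.1 (by simpa only [mul_assoc, mul_inv_rev, inv_inv, inv_one, mul_one, one_mul] using (show w * (y * (w⁻¹ * (y⁻¹ * 1))) = 1 from h8)),
    mul_inv_eq_one.1 (by simpa only [mul_assoc, mul_inv_rev, inv_inv, inv_one, mul_one, one_mul] using (show w * (w * (x⁻¹ * (x⁻¹ * 1))) = 1 from h9))⟩

theorem rel : Rel r x y w := by decide +kernel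

theorem model {G : Type*} [Group G] {r' x' y' w' : G} (h : Rel r' x' y' w') :
    ∃ φ : E →* G, φ r = r' ∧ φ x = x' ∧ φ y = y' ∧ φ w = w' := by
  obtain ⟨pt, h0, -, hT⟩ := FP5E.enum (lt [r', x', y', w']) (1 : G)
    (lt_icol _ _ (k := 4) rfl (by decide +kernel)) (lt_ge le_rfl) h.sat
    (fun _ h => absurd h List.not_mem_nil)
  obtain ⟨φ, hφ⟩ := exists_hom tb (l := [r', x', y', w']) rfl h0 hT hom_chk
  exact ⟨φ, by simpa only [List.cons.injEq, and_true] using
    (show [φ r, φ x, φ y, φ w] = [r', x', y', w'] from hφ)⟩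

end H70.FP5
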