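import Mathlib
import Cfsg.Agent.Base
import Cfsg.Agent.Lib.M12C.Tab

/-! a group of order 64 (helper70; generated) -/

set_option autoImplicit false
set_option maxRecDepth 100000

namespace H70.FP6E
open H54 (Tr force band)
open H18.TC
noncomputable def T_0 : Tr := (.node (nat_lit 3) (.node (nat_lit 1) (.node (nat_lit 0) (.leaf (nat_lit 0x33000008eb216ff5ead2f769beca49685fad9357000ee00000aff9db759abccfde563322da5fcbec960002a80001eac2dbe209ff853fc58d41fe73e3188590004400007072aa5983cce1ee7363581ffc14ea0b6f00198000094d08ce916b50b7a805fe6a6b02bb019c00000000034b618db48cdc44ee063781dc074e201ff00088000072e438730cba061d012ea0476007f84bdc000000000bbc059e42af4147a043d80df004fa017e)) (.leaf (nat_lit 0x880001d892364a40a5a0f2c0dfa515802fe03d58000000006c312e968eaba745d1eab8ef5875aa39fd003300000fec638fe343699bb4ba9ea4d25cad2bf3000ee00001bff10fb998c0cae0502825b4db4c4b7cd002a800009eb877ec0bff063f838a829d137a71d974004400002de7a874050a2275112aa823f820ac09fb00198000146a495530daa0695007fc235506ab813f00066000068ef3c98480b240d9086b0475c26fc5458)))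 (.node (nat_lit 2) (.leaf (nat_lit 0x3b800008f8049fc2ca095d0491f0b6cd2623a75400066000046be22f0920868f43457cacb31308c8dcf000880001cf886145173e0b3f0e69c2bfa15688bd20006600005b26abd30dc9c6fce34fe1afecd9b06ad5003300000f0e868fd62adb056d368cf0c959263d98400ee0000317e99390cee467f231e399929689ace5e00088000088e6ffdf22be917f5049642c820ec9c738002200004d231531c609030c829ac02ff415f60e57)) (.leaf (nat_lit 0x18dc8c7d865b9b2fcdd692c9c6647cb176800ee000078fbbd3e9e79af84d79623dd05ebd8f95f000880001b8f4d7f16c6636d31ab8ad6c36a6e367cc00220000612d9fbc8fcb07cd83d642012cf3ba7bfa000880000cadac760122a8975452a221d4107d0f964000000007121385edc688e5c47026b7be1bb94dcd300000000151f6aac054e2ab3155c98abf97724a9f48002200002c20a470c3ef61dfb103d1c33839a8834b)))) (.node (nat_lit 5) (.node (nat_lit 4) (.leaf (nat_lit 0x198000190c051dc3eb19f78ca1e052ef29fb9b5ac00220000586611be082ee3ff743a10fb007bc8426e00000000173e2bc4e5f3c2f3e17682e6c463302e3c8000000005feab078d81d8c4ec6229b0d419ebcbef8000880000a4b04ef47fafbf57ca0944dc7267c3558800aa00003bbcad534e7e274f13ca021908ebe87a63002200001a89cd277683cb33e5a286d2c566f6b3b6c0022000080373ef55f9b8fedc7ce93eb3df1c2fdf9))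 (.leaf (nat_lit 0x220000144ea9f4b4f2326f1985b69ff34e742831400aa000025a3bbf244dea27f5153a0a39110842b6a0033000014c96a2f653a3a8f1d4ae4fa5f543339110000000004a7b25721de92ed494bb9b0f6dbaca93c3002a800006e9499460cfb06bd844c81bf419e00759c006600007e2fb016c4cc823e4117b093d4d6d63b710008800012286e8c419a00d30078e21177077803fd400000000312295905128489c2093b8f3c41bde0cf6))) (.node (nat_lit 6) (.leaf (nat_lit 0x8800012ca65b4f18b78bfbc86dc7b6317750c900002200007828bafc1d9a6eed378b63ab81d382ede6003b800006be036d42f2797b3ccbda4fdc3022b7994006600004f682974908e080f03ff1a07b905ce85420011000015dd6b1596d713658966d2ade658392c7b0000000005a6ead7adefc2f4615bb437f9570e6b3ed00220000177b4d3de38359b7ace2ce72ea39371bbd0000000002d64171d4be945dca7daf973c91cd259c1)) (.leaf (nat_lit 0x88000156cc48681aab0cb587eb278dd18e40d15000ee00002aeb95f9cadd058e87b70aeb68b49eea4900088000118d2e1e5452ba235d0bba86d94265a1f4400aa00004933a43591dd28fe96bb13437928a692c7002200001d2ace86a7332b8b95ceb4f36171e9393180000000030751875d5accaa6669af3598942a05fca00000000131a899ef4e282774194c09aec72a225fa400cc00002ab792b4548a4a6d2272e191b526864be8)))))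
noncomputable def J_0 : Tr := (.node (nat_lit 3) (.node (nat_lit 1) (.node (nat_lit 0) (.leaf (nat_lit 0x20020000018000000000000000200200200000040000000000000000000002c0040020000020000000000000800000000100040040000000000000008000000c0040000000000000000000000001000000000040040000000000000000000000400400400000000000000000000000000000)) (.leaf (nat_lit 0x100040010010000000000000000000000000500240040000008008000008000001000000a0008008008000004000000800000200000000030010008000008000000000000200100000000010010000014000000000000000100100000000040000010000000001800800c000000))) (.node (nat_lit 2) (.leaf (nat_lit 0x400400400000000080020000000000000004000000200200200000180000020000000004000000c0040000000000000000001800800c002002000000200200000000000060000000002002002000000400400000000000000000010000002000000c00400800000000100000010000006002000)) (.leaf (nat_lit 0x4002000000800000a0048008002002002000800000400000300000000000018008000001000c004002000000000400000200080020020010000000000000000800000300100000000000000000004000005001c004000001000800c006000001000200200000000040000020000012002000))))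 (.node (nat_lit 5) (.node (nat_lit 4) (.leaf (nat_lit 0x8000001400400600100000000060010000008000001800800000000100000000060000020002002000000800400600300000000010010000000006000000000000300100000000000008008004000000002800000000000000020020000010008008000000000c0040020008006002001)) (.leaf (nat_lit 0x80080040040020018000000002800800400000400000000000008008000006000000000000000000080040000000000014001001000000000100100080000080010000000000000000001200200300000000000000008000002000000400400200000000000000020000004007001))) (.node (nat_lit 6) (.leaf (nat_lit 0x10000001001000000000000300100080000018008004001001001000000600200100000000000010004000004800800c002000000000c00000100000020020000018000002001000800000000100040040000010008002002000000800000800000080000000030000008001001)) (.leaf (nat_lit 0x100000070010000002002002000800400400100000000000000008000004001000c00400200000000160020010000010000003000000000000080080000000020020000002001000000000000000040040000010008000002000001000200200000040040000030000000000003)))))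
noncomputable def F_0 : Tr := (.node (nat_lit 3) (.node (nat_lit 1) (.node (nat_lit 0) (.leaf (nat_lit 0xaf6bb8e75597fd96bd4d22fee95efc60e28951134775c9069603059acb74bf0dea7a1c68a42cf28840e78df6d03c0201)) (.leaf (nat_lit 0xdf0d2cb6fefc57ee9834c4565fd65afd43d021b7e11cb49e1938e2175dabe39ba7cf29840ea95dc69a0192070a24e002))) (.node (nat_lit 2) (.leaf (nat_lit 0x8a59a179d4d271f8d165a54d31b8242ca20e43feefe3deb0e7ef34ac71b1cb3144db5dc29e9b6cb81aa85d660050f243)) (.leaf (nat_lit 0x99e89d9617e345349c59762090b34c6c93883fdfacd7ff2ddbbeb7bb2cc51c6c43e78d270a8c2faea069699554010284)))) (.node (nat_lit 5) (.node (nat_lit 4) (.leaf (nat_lit 0xa57a16699bed42cc0f75e535e4ae3625bffd7081d380e1a3332ce7abbe84fbc0f190d0b7d2249f06eae69610185512c5)) (.leaf (nat_lit 0xa57a16699bed42cc0f75e535e4ae3625bffd7081d380e1a3332ce7abbe84fbc0f190d0b7d2249f06eae69610185512c5))) (.node (nat_lit 6) (.leaf (nat_lit 0x5d86a956842ec0faed99484ad36277e64efe8c7c5c2f222a9c538d7c4ffc0fdeb309b838d650514efb1e022759592306))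 (.leaf (nat_lit 0x668598a55ad0b2e3ef5229772b8d09d60f3a7f33aa9c6c516c81644bd13efc3ef22c2339d9d7018f0b6198079a5d3347)))))
noncomputable def T : Tr := T_0
noncomputable def J : Tr := J_0
noncomputable def F : Tr := F_0
noncomputable def row (u : ℕ) : ℕ := Nat.land (Nat.shiftRight (force (Nat.shiftRight u (nat_lit 3)) T.get) (Nat.mul (Nat.land u (nat_lit 7)) (nat_lit 170))) (nat_lit 0x3ffffffffffffffffffffffffffffffffffffffffff)
noncomputable def jrow (u : ℕ) : ℕ := Nat.land (Nat.shiftRight (force (Nat.shiftRight u (nat_lit 3)) J.get) (Nat.mul (Nat.land u (nat_lit 7)) (nat_lit 117))) (nat_lit 0x1fffffffffffffffffffffffffffff)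
noncomputable def fget (k fx : ℕ) : ℕ := F.get (Nat.add k fx)
noncomputable def wt0 : LT := (.node (nat_lit 3) (.node (nat_lit 1) (.node (nat_lit 0) (.leaf 1 0 [nat_lit 17, nat_lit 17, nat_lit 17, nat_lit 17, nat_lit 17, nat_lit 17, nat_lit 17])
(.leaf 3 0 [nat_lit 51, nat_lit 17, nat_lit 34]))
(.node (nat_lit 2) (.leaf 13 2 [nat_lit 102, nat_lit 0, nat_lit 68, nat_lit 119])
(.leaf 5 2 [nat_lit 68, nat_lit 0, nat_lit 0, nat_lit 0, nat_lit 0, nat_lit 0, nat_lit 85])))
(.node (nat_lit 5) (.node (nat_lit 4) (.leaf 3 2 [nat_lit 34, nat_lit 17, nat_lit 51])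
(.leaf 17 0 [nat_lit 119, nat_lit 85, nat_lit 102, nat_lit 0, nat_lit 68]))
(.leaf 0 0 [])))
noncomputable def wt1 : LT := (.node (nat_lit 5) (.node (nat_lit 1) (.node (nat_lit 0) (.leaf 9 0 [nat_lit 51, nat_lit 51, nat_lit 0, nat_lit 0, nat_lit 0])
(.leaf 13 4 [nat_lit 68, nat_lit 119, nat_lit 17, nat_lit 102]))
(.node (nat_lit 2) (.leaf 9 5 [nat_lit 0, nat_lit 51, nat_lit 51, nat_lit 0, nat_lit 0])
(.node (nat_lit 3) (.leaf 9 3 [nat_lit 0, nat_lit 0, nat_lit 0, nat_lit 51, nat_lit 51])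
(.node (nat_lit 4) (.leaf 5 0 [nat_lit 85, nat_lit 17, nat_lit 68, nat_lit 0, nat_lit 0, nat_lit 0, nat_lit 0])
(.leaf 19 0 [nat_lit 119, nat_lit 119, nat_lit 0, nat_lit 68])))))
(.leaf 0 0 []))
noncomputable def wt2 : LT := (.node (nat_lit 1) (.node (nat_lit 0) (.leaf 3 1 [nat_lit 17, nat_lit 34, nat_lit 17])
(.leaf 15 2 [nat_lit 102, nat_lit 34, nat_lit 119]))
(.node (nat_lit 3) (.node (nat_lit 2) (.leaf 9 1 [nat_lit 51, nat_lit 0, nat_lit 0, nat_lit 0, nat_lit 0])
(.leaf 11 3 [nat_lit 85, nat_lit 51, nat_lit 85]))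
(.node (nat_lit 4) (.leaf 9 2 [nat_lit 0, nat_lit 0, nat_lit 0, nat_lit 0, nat_lit 51])
(.leaf 0 0 []))))
noncomputable def wt3 : LT := (.node (nat_lit 1) (.node (nat_lit 0) (.leaf 3 3 [nat_lit 17, nat_lit 51, nat_lit 17])
(.leaf 15 0 [nat_lit 119, nat_lit 51, nat_lit 102]))
(.leaf 0 0 []))
noncomputable def wt4 : LT := (.node (nat_lit 0) (.leaf 7 0 [nat_lit 85])
(.node (nat_lit 1) (.leaf 5 1 [nat_lit 17, nat_lit 68, nat_lit 0, nat_lit 0, nat_lit 0, nat_lit 0, nat_lit 0])
(.node (nat_lit 2) (.leaf 17 2 [nat_lit 102, nat_lit 0, nat_lit 68, nat_lit 17, nat_lit 119])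
(.node (nat_lit 3) (.leaf 11 0 [nat_lit 51, nat_lit 85, nat_lit 51])
(.leaf 0 0 [])))))
noncomputable def wt5 : LT := (.node (nat_lit 1) (.node (nat_lit 0) (.leaf 13 0 [nat_lit 119, nat_lit 17, nat_lit 102, nat_lit 0])
(.leaf 17 5 [nat_lit 17, nat_lit 119, nat_lit 85, nat_lit 102, nat_lit 0]))
(.node (nat_lit 2) (.leaf 19 4 [nat_lit 0, nat_lit 119, nat_lit 119, nat_lit 0])
(.leaf 0 0 [])))
noncomputable def wt6 : LT := (.node (nat_lit 0) (.leaf 19 2 [nat_lit 0, nat_lit 68, nat_lit 0, nat_lit 119])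
(.node (nat_lit 2) (.node (nat_lit 1) (.leaf 19 1 [nat_lit 119, nat_lit 0, nat_lit 68, nat_lit 0])
(.leaf 13 1 [nat_lit 17, nat_lit 102, nat_lit 0, nat_lit 68]))
(.node (nat_lit 4) (.node (nat_lit 3) (.leaf 15 1 [nat_lit 51, nat_lit 102, nat_lit 34])
(.leaf 17 1 [nat_lit 85, nat_lit 102, nat_lit 0, nat_lit 68, nat_lit 17]))
(.leaf 0 0 []))))
noncomputable def wt7 : LT := (.node (nat_lit 0) (.leaf 13 3 [nat_lit 0, nat_lit 68, nat_lit 119, nat_lit 17])
(.node (nat_lit 2) (.node (nat_lit 1) (.leaf 17 3 [nat_lit 0, nat_lit 68, nat_lit 17, nat_lit 119, nat_lit 85])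
(.leaf 15 3 [nat_lit 34, nat_lit 119, nat_lit 51]))
(.leaf 0 0 [])))
noncomputable def wt8 : LT := (.leaf 0 0 [])
noncomputable def sl : List (ℕ × ℕ × List ℕ × List ℕ) := []
/-- the inverse column -/
noncomputable def icol (x : ℕ) : ℕ := List.getD [nat_lit 1, nat_lit 0, nat_lit 3, nat_lit 2, nat_lit 5, nat_lit 4, nat_lit 7, nat_lit 6] x x
noncomputable def inv (x : ℕ) : ℕ := Nat.mul (icol (Nat.div x (nat_lit 17))) (nat_lit 17)
def cols : List ℕ := [nat_lit 136, nat_lit 0, nat_lit 17, nat_lit 34, nat_lit 51, nat_lit 68, nat_lit 85, nat_lit 102, nat_lit 119]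
noncomputable def cl : CL := (.cons (nat_lit 0) (nat_lit 17) (nat_lit 0) (nat_lit 0) wt0
(.cons (nat_lit 17) (nat_lit 0) (nat_lit 13) (nat_lit 1) wt1
(.cons (nat_lit 34) (nat_lit 51) (nat_lit 26) (nat_lit 2) wt2
(.cons (nat_lit 51) (nat_lit 34) (nat_lit 39) (nat_lit 3) wt3
(.cons (nat_lit 68) (nat_lit 85) (nat_lit 52) (nat_lit 4) wt4
(.cons (nat_lit 85) (nat_lit 68) (nat_lit 65) (nat_lit 5) wt5
(.cons (nat_lit 102) (nat_lit 119) (nat_lit 78) (nat_lit 6) wt6
(.cons (nat_lit 119) (nat_lit 102) (nat_lit 91) (nat_lit 7) wt7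
.nil))))))))
def rels : List (List ℕ) := [[0, 0, 0, 0, 0, 0, 0, 0],
[0, 3, 0, 2],
[1, 1, 1, 1, 1, 5, 0, 4],
[4, 4],
[1, 1, 1, 1, 2, 2],
[4, 2, 4, 2],
[5, 1, 7, 0, 6],
[3, 7, 2, 6],
[0, 5, 1, 7, 4, 6],
[1, 5, 1, 6, 6]]
def subs : List (List ℕ) := []
noncomputable def chk : ℕ → Bool := rowChk row jrow fget sl cols (nat_lit 64) (nat_lit 64) (nat_lit 131071) (nat_lit 127) (nat_lit 131072) (nat_lit 136) (nat_lit 153) (nat_lit 8191) (nat_lit 6) (nat_lit 63) (nat_lit 6) (nat_lit 63) cl (nat_lit 104) wt8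
theorem p0 : allB chk 6 0 = true := by decide +kernel
theorem all_chk : AllLt chk 64 := by
  have h := AllLt.zero chk
  have h := h.step 64 p0 (by decide +kernel)
  exact h
/-- column `x` of the final table -/
noncomputable def tab (x u : ℕ) : ℕ := ft fget (nat_lit 6) (nat_lit 63) (nat_lit 6) (nat_lit 63) (Nat.mul x (nat_lit 1)) u
theorem enum {G Ω : Type*} [Group G] [MulAction G Ω] (g : ℕ → G) (ω : Ω)
    (hinv : ∀ x, g (icol x) = (g x)⁻¹) (h1 : g 8 = 1)
    (hrels : ∀ R ∈ rels, ev g R = 1) (hsubs : ∀ S ∈ subs, ev g S • ω = ω) :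
    ∃ pt : ℕ → Ω, pt 0 = ω ∧ (∀ K : Subgroup G, (∀ x, g x ∈ K) → ∀ v, ∃ k ∈ K, pt v = k • ω) ∧
      ∀ x, x < 8 → ∀ u, u < 64 → tab x u < 64 ∧ g x • pt u = pt (tab x u) :=
  sound_scaled g ω row jrow fget sl inv icol cols (nat_lit 64) (nat_lit 64) (nat_lit 131071) (nat_lit 127) (nat_lit 131072) (nat_lit 136) (nat_lit 153) (nat_lit 8191) (nat_lit 6) (nat_lit 63) (nat_lit 6) (nat_lit 63) 7 cl (nat_lit 104) wt8 rels subs 17 (nat_lit 1) 8
    (fun _ => Nat.mul_div_cancel _ (by decide)) hinv h1 hrels hsubs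
    (by decide +kernel) (by decide +kernel) all_chk
end H70.FP6E

namespace H70.FP6
open H70.TM H18.TC Subgroup

noncomputable def rt : RT := ⟨nat_lit 64, nat_lit 6, nat_lit 63,
  (.node (nat_lit 31) (.node (nat_lit 15) (.node (nat_lit 7) (.node (nat_lit 3) (.node (nat_lit 1) (.node (nat_lit 0) (.leaf (nat_lit 0xffef7cefae78df6d74cf2c70beeb6caeaa689e69648e28607de75c6da6585d65544d24503ce34c2ca2481c61440c2040))
(.leaf (nat_lit 0xfa5fe3eb9ad9440ee112f6353d40f233cd9af708316c7bb8a348b758b9cea737462adb2a21f56691779c4824d0349141)))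
(.node (nat_lit 2) (.leaf (nat_lit 0x708dfa1335b28094019bf4aaf767fe6f979547c3edecb02f745938d4db07d30c69ba896b9e26230e14d969750c38a182))
(.leaf (nat_lit 0xc2beb797de39f1d65abea7bfce44dbfb2494320eee3ca3a6271d96b34d4635c168b691088e15e70a27d005855100b1c3))))
(.node (nat_lit 5) (.node (nat_lit 4) (.leaf (nat_lit 0x9f681c462e137727e5c0fce1fdf2dba2ab87b4526551ed8eb9ccadb592bb03cb0bdc153a6742896381d6d95923cc204))
(.leaf (nat_lit 0x960f9be6b327b01eae40f3bb20636f9a300bff5e185925196a11d1ce4f5fd848825c3cbc728770c69d37b492aa55e4c5)))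
(.node (nat_lit 6) (.leaf (nat_lit 0x20f73bcd66ec94210033d1d09e93bf8fa24ddeabd2d5adb25412e0c034627a691785ffb965dc7cb74178a0abab613506))
(.leaf (nat_lit 0xafbc0ff78fb510394e4731998e802a9f7774ebf99eb0193951a2bc7023214afd988936f2409160b8dc56a4bb485df547)))))
(.node (nat_lit 11) (.node (nat_lit 9) (.node (nat_lit 8) (.leaf (nat_lit 0x7d409518bba4144c7b487ac9a703c0a01df568e63fd9bf61e3e44d0e57a7a97cd98fcb6277acb49ace4a70cbd3420588))
(.leaf (nat_lit 0xddc479404cefe1ea85c3eb7cfc0a255abd1db23203ea404f893c59ed5c9287563651a80cf4739b36e2a72e91a67d7089)))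
(.node (nat_lit 10) (.leaf (nat_lit 0xe19833326c3fbd3ac6f1ca39dc9748d5617197a9df1030bd914b72418f9a06a49ed953db44b1fb380bac374a638a15ca))
(.leaf (nat_lit 0x590f3d46f72a99f207830a72e9d26bb38c451378d39420f3d95bb96576c16bf792914efe30a18f00eb75d0da2786260b))))
(.node (nat_lit 13) (.node (nat_lit 12) (.leaf (nat_lit 0x29d3464970c06204c8d027226b7e9fd8be72141a7cc65107cd69a1250b5bf8efeaf7852e791ad53fbbe4d6cc289e364c))
(.leaf (nat_lit 0xd4ce5183f66b8e29cb3fcd3e13129696fb469b8e942177f0798033ca1ec25774da0f641c6eea7d247a2a14e76c06448d)))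
(.node (nat_lit 14) (.leaf (nat_lit 0xa9bce03f7c96ea4b0df7915c9adbb523fa298ef1369e18bc4d2270f814176385157de319ec0d1128b76b187c6508368e))
(.leaf (nat_lit 0x3ae18d51a84b0739351e2e425e6bf67c0730a18c7da639f483fdc3b7e25940a5b8f2a49d57bb1e311e9322bc851256cf))))))
(.node (nat_lit 23) (.node (nat_lit 19) (.node (nat_lit 17) (.node (nat_lit 16) (.leaf (nat_lit 0x2682c560292e5517a5a41f9f4bf8c3507f19d211b076ce8ee6b11703bc4cc8dbf53f74cadbda9a81be225a7ced226710))
(.leaf (nat_lit 0x2c9d0779808e5fc7eb343c2107add390acb9c5aa20144946f78be2759bbe6c0abfcd656d48c214ecf9b6b357298e7411)))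
(.node (nat_lit 18) (.leaf (nat_lit 0x33ad48fd997b40d81fb040a76da07cf518a1e7ec34c85c6b18b5e3dc99aeb4f00e1ca5afa9e4f8515633da40dca68752))
(.leaf (nat_lit 0x838956acc9bdc85e54a887fa70254fc1b064fbb64eced1a72ee4ac131fe80101c9a4dbe3dda8b56368510de5fc774293))))
(.node (nat_lit 21) (.node (nat_lit 20) (.leaf (nat_lit 0x3ef23559b8d1f86cf6ae788465763df3b083710c87c28a6c3406a59adddd24c2cad0effae1592a49e0607d3879c45b94))
(.leaf (nat_lit 0xee6aece3e9cc6c7f642238654185f380f0c2c19e46729a35d0e044beee8975128b340ab7594dbf7926bc4df8b2171b55)))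
(.node (nat_lit 22) (.leaf (nat_lit 0x5187f62eea1eb481bd4e99f1759407d1512508986b0dcc24d7b6c55e66badd244cb0f0012b8ccefeaf8df208e2cb9bd6))
(.leaf (nat_lit 0x667e049b0d7e3ca3028f76ab45e89cef34d8839f6840d27fc460efa8e94b17cb7401d216b244ba7c1532561d9b1eea57)))))
(.node (nat_lit 27) (.node (nat_lit 25) (.node (nat_lit 24) (.leaf (nat_lit 0x4235a5bdcb1becb4439fa0483128703fd7d7f32ce967476a1470a6fc010ac60b8d389af8d767b74da57952293e1ada18))
(.leaf (nat_lit 0x7692b15c3dad50c484a1a6d37aa9c25468103621dc275dc0c8895838f151e749acefa7cb933fc1f3e5a1e23f6eaefc19)))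
(.node (nat_lit 26) (.leaf (nat_lit 0x6c4aa7df221030e3e29665eced50b9460901cdcf05f86b56a4d87ae0a8c0a3d2472eed7fad352fd984b07837d9d1dc5a))
(.leaf (nat_lit 0xbb13a96a17c948f52715766457812278dcfe182d39b4898bc358c128ca3b707deb46fd804e0598f50fc3aa5f1db3ac9b))))
(.node (nat_lit 29) (.node (nat_lit 28) (.leaf (nat_lit 0xa0625d0a45314d063ab5231edb520168547b2df3be016fee665b15360d3df291276e30c78b9be1c32ad7de63caab8cdc))
(.leaf (nat_lit 0xeb0332665f66592ff171bba0a8ea44e08349d67ac2df66bb85f1503d4e5e8ac5e4541f11cc603ed2d2e32a81ef4d80dd)))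
(.node (nat_lit 30) (.leaf (nat_lit 0x477b2ba9010f674f13d650e3f816a0ccc862c9b70de711481ca627e9dbedbbb38018be26fd27d65545fd9360b0a2925e))
(.leaf (nat_lit 0xf16138211bf3e71c95feb4f7c0353b73e6b66cf400f6e1e32ad7b5945aa939919da349a7e8186c5e488c09262024d2df)))))))
(.node (nat_lit 47) (.node (nat_lit 39) (.node (nat_lit 35) (.node (nat_lit 33) (.node (nat_lit 32) (.leaf (nat_lit 0x34a14b4d25c787989639ff01084e140eefb3b5574f1a622946ffe4c7201cec9af7c3562869b9f643d8de96a674eac320))
(.leaf (nat_lit 0xcacbe68fca9cf6e6d7eb85568139194305123f345d30e2b7b697ffac720d1b9a052719f5943684882dbe6017bb2c0d21)))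
(.node (nat_lit 34) (.leaf (nat_lit 0xe759af9e0ff0cedf98dd6538f1fd9065c55eefd3094402faba84ea206af41f2a717458ec10206584391b5da48f28e362))
(.leaf (nat_lit 0x864617a343821efb9904ae0b360cdd2435bf5067ba48f31a9b0f004eb7f5222739df2a761656f19c4f6d43ea9547bb23))))
(.node (nat_lit 37) (.node (nat_lit 36) (.leaf (nat_lit 0xcea8ffb0fdfcc28712e35dafe6278cc996134116ca80934401d52b9e95852fed2dc46ea599708805f0fb8556bdb873a4))
(.leaf (nat_lit 0xd305a1472a2d3a75b60ea801b382eb61fd648d56f50c3d7df2f4b92cd88d42e5c9b0c5fa23669127f09f90e1eed1ae5)))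
(.node (nat_lit 38) (.leaf (nat_lit 0x5e2542b693413b829c849dc72d1e68024aef4c5da3620412133c2e7aa0d695ffbcfd9194d2c31d23a3f1ef2d5af5b9e6))
(.leaf (nat_lit 0x8b65d8a4d0031a6b5068b58ad3cf49742e2a5474b77bb441bdc80e7c84ecae1c32eb9a24c44f858e5cee65bfd430fd67)))))
(.node (nat_lit 43) (.node (nat_lit 41) (.node (nat_lit 40) (.leaf (nat_lit 0x8f341972c3c4ad8bddf8c291d4d1bade52c0588a81fd449b5c3d3b813f367e70a26a1c3de45bb2a711e626d3b8795928))
(.leaf (nat_lit 0x9fd650c35ee52179896d12ccb341f7e8428ee2bfdaa957be60234ff1f8244e30e1062733cb1b79a051af76e016494da9)))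
(.node (nat_lit 42) (.leaf (nat_lit 0x79a913389c5476cd20d85968b7e6cd1928e786e0b58b2e5facc42907a626bd53fb21129703ff0be16647cfd103730dea))
(.leaf (nat_lit 0x4d50d41cab76c6514f78621da1cecea5aeac0405ea93ece259b3340844a3fd8f509e0ba1277e4dbf5c8bc1199f67ce2b))))
(.node (nat_lit 45) (.node (nat_lit 44) (.leaf (nat_lit 0x91e852d0e25fa63a0c54dd6e17944ac57beb60b6b84d0802fd93c78a7525581f3e133743b66706e88c00cbbdf66fdaac))
(.leaf (nat_lit 0x9b9edcfa783aa95e28c9027d58b163fec1eeae5d61bd360c0a4a5b45ec140c805f497ccff3429919d384031377d9a8ad)))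
(.node (nat_lit 46) (.leaf (nat_lit 0xbf23f06e3f37fd45a9e59773e0ac67ab51ad204b2299f5d10f6a3e3127150ab693798f7b80d2d01c9025385d3a90186e))
(.leaf (nat_lit 0x621503ba8d1a0162f089de8628cca93b62267f19275fc65e97d72d4bf0b81136e0a901d5375449af7ec53f9b01cfe8ef))))))
(.node (nat_lit 55) (.node (nat_lit 51) (.node (nat_lit 49) (.node (nat_lit 48) (.leaf (nat_lit 0xa477490f65457d95f7b9e45292cada07130f29301b3b8aad404d54d3c373828963fa70868729a2739218eafecbfd6f70))
(.leaf (nat_lit 0x13c6fec88463d5aded67b00fac7d26be738aaac597e1e55006218cf76cd3925843602e60c2925c16837ab9d2ff5127f1)))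
(.node (nat_lit 50) (.leaf (nat_lit 0xc74bad85f7a8d9b6a6755ed44ebb176293cc3a42d92aae09fa72121fd1a0cc58e540488d0f0dc2e5cd41bfa4405bff32))
(.leaf (nat_lit 0x18ea009146b40dc0bf2b6f588a7a9285d42025eb8c377d71efa593a702f946db26c880455d911ffbc9558f86c7beb3f3))))
(.node (nat_lit 53) (.node (nat_lit 52) (.leaf (nat_lit 0xb11c8cf2a4089e18caee035b9452f8126b87bd6dd5ad84dc4973bde623c353a7c10a4670fada33746a7fc402756b67b4))
(.leaf (nat_lit 0xd9289e340753a27a51534b2dc7230b1589885ca0567d9f03a90ec6863544e1a81b97d242bafc07deb70ee4fea4fb3ff5)))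
(.node (nat_lit 54) (.leaf (nat_lit 0xf7f9ead7bea0729c1e5ac926ca1491e505df64cf8bf1dd253895488e8e3129b36e147dc4bd80eb69308f894073b46036))
(.leaf (nat_lit 0x6827a22711982aa3b90ed9b403b7052d3b3a9287e5073f949e0c9d57887f8f643d59b3521eb3eed6f329470217f19137)))))
(.node (nat_lit 59) (.node (nat_lit 57) (.node (nat_lit 56) (.leaf (nat_lit 0x5574e42ada52bab1f37e88c52506463549440dd8880b0736b0ffb162f077e9e311d7b39a2d6f40abf6f483c9e1e729b8))
(.leaf (nat_lit 0x14db6e8934a993e06f2543d57c8d585e8ed10362902ff59d6e3ade1b31fcf719c466587409ce83cb0b1a9b730ee2a839)))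
(.node (nat_lit 58) (.leaf (nat_lit 0x434a17451d72ff0320aebcd38fc3129fd77da94c46bd6d58fce495168aa9e4673e3ed1e188eedb2646831cad881097a))
(.leaf (nat_lit 0x2d1f454188a6bddac1a1c8362f9a44cec1ca57173a278cdf2ae82b9b75064be1683f78950fd5244cddfac8e71944fbb))))
(.node (nat_lit 61) (.node (nat_lit 60) (.leaf (nat_lit 0xd0bc4a7de6068b287801381a0e55950ad6fdb9427b1efae8326ab61793b03dd23a72c5e907e8e46739d213f40ddf547c))
(.leaf (nat_lit 0x1c0a4ed9504d0b00ea2e4cd7863fde88967c752b51d3ab053f7e1fa1c2b232ed6fe6b6b16109536e01149d6f86988efd)))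
(.node (nat_lit 62) (.leaf (nat_lit 0xb450280624dd7bb563c584365169614b4f5b1c3372babbca72c9da2d1a4fc06e8832690e7fce17cd9a82fc4809d77e7e))
(.leaf (nat_lit 0x481d9f01d15527537c931129b9bfb41de9e38ad0ec879c932116686b75ef994ecfacc2d83aa80a5b8406f73942c1cebf)))))))),
  (nat_lit 0xefdfb3ff59ccbc1e86f04c65dc91c898f168e6bc1f72209991436341881a4d149e5d559ba8e7782cabacb74a720e1d80),
  (nat_lit 0xc2b9e685f79c71b6575955544d34914103cc30c2cb28a2892492081c71861851451441040c30c2082081041040000000),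
  (nat_lit 0xc30421041020440c20440841020410811040c11011030840c11011021030840c20440c11020440c20440c20440c2041),
  [nat_lit 1, nat_lit 2, nat_lit 3, nat_lit 4]⟩

theorem okA0 : rt.chkA 1 = true := by decide +kernel
theorem okA1 : rt.chkA 2 = true := by decide +kernel
theorem okA2 : rt.chkA 3 = true := by decide +kernel
theorem okA3 : rt.chkA 4 = true := by decide +kernel
theorem okB : rt.chkB = true := by decide +kernel
noncomputable def tb : GT := ⟨rt, List.forall_mem_cons.2 ⟨okA0, List.forall_mem_cons.2 ⟨okA1, List.forall_mem_cons.2 ⟨okA2, List.forall_mem_cons.2 ⟨okA3, fun _ h => absurd h List.not_mem_nil⟩⟩⟩⟩, okB⟩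

theorem hom_chk : homChk tb (nat_lit 0x5efe0d66deda482d8a807ffe8d0724e653bdf30eb7cf1135d294724eeb2ba9e9a89e285f7586d65543cc2c9206143040) 64 FP6E.tab = true := by decide +kernel

/-- the group -/
abbrev E : Type := El tb

noncomputable def r : E := El.of tb 1
noncomputable def x : E := El.of tb 2
noncomputable def y : E := El.of tb 3
noncomputable def w : E := El.of tb 4

theorem card : Nat.card E = 64 := El.card tb

theorem eq_top {K : Subgroup E} (h0 : r ∈ K) (h1 : x ∈ K) (h2 : y ∈ K) (h3 : w ∈ K) : K = ⊤ :=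
  El.eq_top (List.forall_mem_cons.2 ⟨h0, List.forall_mem_cons.2 ⟨h1, List.forall_mem_cons.2 ⟨h2, List.forall_mem_cons.2 ⟨h3, fun _ h => absurd h List.not_mem_nil⟩⟩⟩⟩)

/-- the relations -/
def Rel {G : Type*} [Group G] (r x y w : G) : Prop :=
  r * r * r * r * (r * r * r * r) = 1 ∧
  x * r * x⁻¹ = r⁻¹ ∧
  y * r * y⁻¹ = r * (r * r * r * r) ∧
  y * y = 1 ∧
  x * x = r * r * r * r ∧
  x * y * (x * y) = 1 ∧
  w * r * w⁻¹ = y * r ∧
  w * x * w⁻¹ = x ∧
  w * y * w⁻¹ = r⁻¹ * y * r ∧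
  w * w = r * y * r

instance {G : Type*} [Group G] [DecidableEq G] (r x y w : G) : Decidable (Rel r x y w) := by
  unfold Rel; infer_instance

theorem Rel.map {G G' : Type*} [Group G] [Group G'] (f : G →* G') {r x y w : G}
    (h : Rel r x y w) : Rel (f r) (f x) (f y) (f w) := by
  obtain ⟨h0, h1, h2, h3, h4, h5, h6, h7, h8, h9⟩ := h
  exact ⟨by simpa only [map_mul, map_inv, map_one] using congrArg f h0,
    by simpa only [map_mul, map_inv, map_one] using congrArg f h1,
    by simpa only [map_mul, map_inv, map_one] using congrArg f h2,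
    by simpa only [map_mul, map_inv, map_one] using congrArg f h3,
    by simpa only [map_mul, map_inv, map_one] using congrArg f h4,
    by simpa only [map_mul, map_inv, map_one] using congrArg f h5,
    by simpa only [map_mul, map_inv, map_one] using congrArg f h6,
    by simpa only [map_mul, map_inv, map_one] using congrArg f h7,
    by simpa only [map_mul, map_inv, map_one] using congrArg f h8,
    by simpa only [map_mul, map_inv, map_one] using congrArg f h9⟩

theorem Rel.of_map {G G' : Type*} [Group G] [Group G'] {f : G →* G'} (hf : Function.Injective f)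
    {r x y w : G} (h : Rel (f r) (f x) (f y) (f w)) : Rel r x y w := by
  obtain ⟨h0, h1, h2, h3, h4, h5, h6, h7, h8, h9⟩ := h
  exact ⟨hf (by simpa only [map_mul, map_inv, map_one] using h0),
    hf (by simpa only [map_mul, map_inv, map_one] using h1),
    hf (by simpa only [map_mul, map_inv, map_one] using h2),
    hf (by simpa only [map_mul, map_inv, map_one] using h3),
    hf (by simpa only [map_mul, map_inv, map_one] using h4),
    hf (by simpa only [map_mul, map_inv, map_one] using h5),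
    hf (by simpa only [map_mul, map_inv, map_one] using h6),
    hf (by simpa only [map_mul, map_inv, map_one] using h7),
    hf (by simpa only [map_mul, map_inv, map_one] using h8),
    hf (by simpa only [map_mul, map_inv, map_one] using h9)⟩

theorem Rel.prod {G G' : Type*} [Group G] [Group G'] {r x y w : G} {r' x' y' w' : G'}
    (h : Rel r x y w) (k : Rel r' x' y' w') :
    Rel (r, r') (x, x') (y, y') (w, w') := by
  obtain ⟨h0, h1, h2, h3, h4, h5, h6, h7, h8, h9⟩ := h
  obtain ⟨k0, k1, k2, k3, k4, k5, k6, k7, k8, k9⟩ := k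
  exact ⟨Prod.ext h0 k0, Prod.ext h1 k1, Prod.ext h2 k2, Prod.ext h3 k3, Prod.ext h4 k4, Prod.ext h5 k5, Prod.ext h6 k6, Prod.ext h7 k7, Prod.ext h8 k8, Prod.ext h9 k9⟩

theorem Rel.sat {G : Type*} [Group G] {r x y w : G} (h : Rel r x y w) :
    ∀ R ∈ FP6E.rels, ev (lt [r, x, y, w]) R = 1 := by
  obtain ⟨h0, h1, h2, h3, h4, h5, h6, h7, h8, h9⟩ := h
  exact List.forall_mem_cons.2 ⟨show r * (r * (r * (r * (r * (r * (r * (r * 1))))))) = 1 by
      simpa only [mul_assoc, mul_inv_rev, inv_inv, inv_one, mul_one, one_mul] using mul_inv_eq_one.2 h0,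
    List.forall_mem_cons.2 ⟨show x * (r * (x⁻¹ * (r * 1))) = 1 by
      simpa only [mul_assoc, mul_inv_rev, inv_inv, inv_one, mul_one, one_mul] using mul_inv_eq_one.2 h1,
    List.forall_mem_cons.2 ⟨show y * (r * (y⁻¹ * (r⁻¹ * (r⁻¹ * (r⁻¹ * (r⁻¹ * (r⁻¹ * 1))))))) = 1 by
      simpa only [mul_assoc, mul_inv_rev, inv_inv, inv_one, mul_one, one_mul] using mul_inv_eq_one.2 h2,
    List.forall_mem_cons.2 ⟨show y * (y * 1) = 1 by
      simpa only [mul_assoc, mul_inv_rev, inv_inv, inv_one, mul_one, one_mul] using mul_inv_eq_one.2 h3,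
    List.forall_mem_cons.2 ⟨show x * (x * (r⁻¹ * (r⁻¹ * (r⁻¹ * (r⁻¹ * 1))))) = 1 by
      simpa only [mul_assoc, mul_inv_rev, inv_inv, inv_one, mul_one, one_mul] using mul_inv_eq_one.2 h4,
    List.forall_mem_cons.2 ⟨show x * (y * (x * (y * 1))) = 1 by
      simpa only [mul_assoc, mul_inv_rev, inv_inv, inv_one, mul_one, one_mul] using mul_inv_eq_one.2 h5,
    List.forall_mem_cons.2 ⟨show w * (r * (w⁻¹ * (r⁻¹ * (y⁻¹ * 1)))) = 1 by
      simpa only [mul_assoc, mul_inv_rev, inv_inv, inv_one, mul_one, one_mul] using mul_inv_eq_one.2 h6,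
    List.forall_mem_cons.2 ⟨show w * (x * (w⁻¹ * (x⁻¹ * 1))) = 1 by
      simpa only [mul_assoc, mul_inv_rev, inv_inv, inv_one, mul_one, one_mul] using mul_inv_eq_one.2 h7,
    List.forall_mem_cons.2 ⟨show w * (y * (w⁻¹ * (r⁻¹ * (y⁻¹ * (r * 1))))) = 1 by
      simpa only [mul_assoc, mul_inv_rev, inv_inv, inv_one, mul_one, one_mul] using mul_inv_eq_one.2 h8,
    List.forall_mem_cons.2 ⟨show w * (w * (r⁻¹ * (y⁻¹ * (r⁻¹ * 1)))) = 1 by
      simpa only [mul_assoc, mul_inv_rev, inv_inv, inv_one, mul_one, one_mul] using mul_inv_eq_one.2 h9,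
    fun _ h => absurd h List.not_mem_nil⟩⟩⟩⟩⟩⟩⟩⟩⟩⟩

theorem Rel.of_sat {G : Type*} [Group G] {r x y w : G}
    (h : ∀ R ∈ FP6E.rels, ev (lt [r, x, y, w]) R = 1) : Rel r x y w := by
  obtain ⟨h0, h⟩ := List.forall_mem_cons.1 h
  obtain ⟨h1, h⟩ := List.forall_mem_cons.1 h
  obtain ⟨h2, h⟩ := List.forall_mem_cons.1 h
  obtain ⟨h3, h⟩ := List.forall_mem_cons.1 h
  obtain ⟨h4, h⟩ := List.forall_mem_cons.1 h
  obtain ⟨h5, h⟩ := List.forall_mem_cons.1 h
  obtain ⟨h6, h⟩ := List.forall_mem_cons.1 h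
  obtain ⟨h7, h⟩ := List.forall_mem_cons.1 h
  obtain ⟨h8, h⟩ := List.forall_mem_cons.1 h
  obtain ⟨h9, h⟩ := List.forall_mem_cons.1 h
  exact ⟨mul_inv_eq_one.1 (by simpa only [mul_assoc, mul_inv_rev, inv_inv, inv_one, mul_one, one_mul] using (show r * (r * (r * (r * (r * (r * (r * (r * 1))))))) = 1 from h0)),
    mul_inv_eq_one.1 (by simpa only [mul_assoc, mul_inv_rev, inv_inv, inv_one, mul_one, one_mul] using (show x * (r * (x⁻¹ * (r * 1))) = 1 from h1)),
    mul_inv_eq_one.1 (by simpa only [mul_assoc, mul_inv_rev, inv_inv, inv_one, mul_one, one_mul] using (show y * (r * (y⁻¹ * (r⁻¹ * (r⁻¹ * (r⁻¹ * (r⁻¹ * (r⁻¹ * 1))))))) = 1 from h2)),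
    mul_inv_eq_one.1 (by simpa only [mul_assoc, mul_inv_rev, inv_inv, inv_one, mul_one, one_mul] using (show y * (y * 1) = 1 from h3)),
    mul_inv_eq_one.1 (by simpa only [mul_assoc, mul_inv_rev, inv_inv, inv_one, mul_one, one_mul] using (show x * (x * (r⁻¹ * (r⁻¹ * (r⁻¹ * (r⁻¹ * 1))))) = 1 from h4)),
    mul_inv_eq_one.1 (by simpa only [mul_assoc, mul_inv_rev, inv_inv, inv_one, mul_one, one_mul] using (show x * (y * (x * (y * 1))) = 1 from h5)),
    mul_inv_eq_one.1 (by simpa only [mul_assoc, mul_inv_rev, inv_inv, inv_one, mul_one, one_mul] using (show w * (r * (w⁻¹ * (r⁻¹ * (y⁻¹ * 1)))) = 1 from h6)),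
    mul_inv_eq_one.1 (by simpa only [mul_assoc, mul_inv_rev, inv_inv, inv_one, mul_one, one_mul] using (show w * (x * (w⁻¹ * (x⁻¹ * 1))) = 1 from h7)),
    mul_inv_eq_one.1 (by simpa only [mul_assoc, mul_inv_rev, inv_inv, inv_one, mul_one, one_mul] using (show w * (y * (w⁻¹ * (r⁻¹ * (y⁻¹ * (r * 1))))) = 1 from h8)),
    mul_inv_eq_one.1 (by simpa only [mul_assoc, mul_inv_rev, inv_inv, inv_one, mul_one, one_mul] using (show w * (w * (r⁻¹ * (y⁻¹ * (r⁻¹ * 1)))) = 1 from h9))⟩

theorem rel : Rel r x y w := by decide +kernel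

theorem model {G : Type*} [Group G] {r' x' y' w' : G} (h : Rel r' x' y' w') :
    ∃ φ : E →* G, φ r = r' ∧ φ x = x' ∧ φ y = y' ∧ φ w = w' := by
  obtain ⟨pt, h0, -, hT⟩ := FP6E.enum (lt [r', x', y', w']) (1 : G)
    (lt_icol _ _ (k := 4) rfl (by decide +kernel)) (lt_ge le_rfl) h.sat
    (fun _ h => absurd h List.not_mem_nil)
  obtain ⟨φ, hφ⟩ := exists_hom tb (l := [r', x', y', w']) rfl h0 hT hom_chk
  exact ⟨φ, by simpa only [List.cons.injEq, and_true] using
    (show [φ r, φ x, φ y, φ w] = [r', x', y', w'] from hφ)⟩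

end H70.FP6
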