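import Mathlib
import Cfsg.Agent.Base
import Cfsg.Agent.Lib.M12C.Tab

/-! a group of order 64 (helper70; generated) -/

set_option autoImplicit false
set_option maxRecDepth 100000

namespace H70.FP7E
open H54 (Tr force band)
open H18.TC
noncomputable def T_0 : Tr := (.node (nat_lit 3) (.node (nat_lit 1) (.node (nat_lit 0) (.leaf (nat_lit 0x330000090ba16ff26af131788ecaaae828798afb400ee00000affa1d7d3ac0a1604b33229a4d9e46c6c002a8000188c2b76209ff853fd4ad41fe767b1b33900044000022b2a51983cce1ee7383581ffc14ea0b6f00198000152d08de9523528da805fe6e6b02bb019c00000000034360a5b4cadc646e063781dc072e201ff0008800006ce435730cba061d012ea0476007f84bdc000000000bbc059e42af4147a043d80df004fa017e)) (.leaf (nat_lit 0x880000c69aeece6e27b613c0dfa7adc02fe03d68000000004f30309847aba3edd1e2d8eb6873b238fd003300000cddc35fe7da84014070a636d6292f1b5e400ee00001a7f3418cd6d869ec2e6a2bd5d6cc45178002a8000056da55510bff063f838b0e55539290f9740044000011a996f51d2aae9d5182c823f820b409fb00198000066acae570dac0696007fc31d906ad813f0006600005bf113d790fbe88df086d0476c26fc795c)))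 (.node (nat_lit 2) (.leaf (nat_lit 0x3300001c080a8fc56a0aaf0556f0a9c676272cb5c00660000473e22f0933869ac344fcaef1d1a9a8ad6002a800014c88f6c5517e28ff14da4a4fa742aa9f300066000041a32ff1ce2a472d236fe1bfeceeb86ed900330000198c867fd35399abcd229468cd35fcb0d8400ee0000147e8abd05c902d4814e5bad3858f09ee0002a80000f892677231fe993f5b39e65cc42ef9d94800220000482509b2cc0985f4c3d2e02ff415f60e5b)) (.leaf (nat_lit 0x198000140a49df1507ca73e53786f4c54fb6a89240000000060f8b0fe9908cc6c663223130585d8c0c80011000016df4b8775ca3aeb1de48ab4c37d282d7cc0000000067f9b4721a5b8d55c6a2635d3da1bacefa002a80001f8a0cbec646cb2765ccaacad866bd3397c00ee000021e1113ec96884a44412311be08c965a5400000000127f6e2c07a22bdf157c8e95f94a6524b4c002200001120a650c3ef61dfb103d1cf4839b0dacf)))) (.node (nat_lit 5) (.node (nat_lit 4) (.leaf (nat_lit 0x2a800004a96574d0cfb06bd996c81bf420a10759c0044000018641fb2594c8c964193b0bfd4ded63a71000880001e28a214121a11070876e21177077803fd4000000004c2192511c480e140093b8efc41bde0cf6000000000efa2fed06a71b4d8cf6e079ef3c7b9dbac008800005ea391fe07ee23cf12021379007be8d163002a800009dee74d225fc133e09f824dc42a28947c800cc0000437ca0f1912ee88776fa0213099bc8866e))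 (.leaf (nat_lit 0x1980001feb8fbe47ff93ebc9f19cfccb7ee33e788000000002a7a1e170fc927fc92b26a3d29748e53de002200000eabc9fe039b59c3ace8cea76a3af71c7d000cc00006ca788bd44c9627cb17a40dfc926cc23c1002200000b8ea5e4c2da696334fa925d732cf2bd71400220000772739b29d4eae8f5727a39791c780e7ea003300000c29832f676a73c1386ee433c845b494b1000ee000056fb3593d5f94b3ca5779ac92566d0b0c3))) (.node (nat_lit 6) (.leaf (nat_lit 0x2a80001a4c6315916768b7b468ac2ed360b0afb1c00cc00003fac9efb900a27dd158eb9f35143c08146001980001ceaa8fef5a2bac15d1da290ec48e22559800cc000013b78936050a625d37ea80a9b52e8645e5003b80000bba860d62f7797fbcccdcd3e3543518908004400002b6c18bc0b2a85ad434b615744b0828ce9001980001dee0edd577eb3b359d5daf95079a2bafa000ee00006aebb634dafe0dbf06b71b69b9b6cedd40)) (.leaf (nat_lit 0x880001c6ccdfe8706db876dbbbadedf6e67b915400ee0000106d0879d58d0ace862b09417848a657cd00110000118d24465212d10b690abe3fdd30e610360000000004c73a5f6d36d29a695ab12718162ae96cb003b8000091b6a5ea24f292b949cbcc5e129ab2492800cc00007bb53c369f0ccf3e67ab03c789eca8f2ce00088000108be82eb63b0b1f8554d081e54064bf940008800006035af37576c4b8e25e34af7997e90b9d1)))))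
noncomputable def J_0 : Tr := (.node (nat_lit 3) (.node (nat_lit 1) (.node (nat_lit 0) (.leaf (nat_lit 0x200200000000000020020018002002000000000000000000080000000000004004002000001000000800000000000000010004004000000000000000200000040040000000000000000000000000000000000040040000000000000000000000400400200000000000000000000000000000)) (.leaf (nat_lit 0x2000000000800700100000000000000000004000005002c0040000018008000000000000800000000080080000000020008000000000000000000100100080000000000000000000003000000c00100100000080000000000000001001002800000200000080000040018008010000000))) (.node (nat_lit 2) (.leaf (nat_lit 0x20020000010000002000001000000000100100060020020000004000000001400400200100100000080000000004000001800801000000100000020020000008000002002000000200200400000000020000000004000000000400400200100100040000000000008000000000000e002000)) (.leaf (nat_lit 0x2001001400400200000000000040020000008000005000c0040000010000000002000800800000400000100080040000000000003001000000000b0010008000004000000000200200400000000000010000000000002001800000800000280060020000000000000003000000a002002))))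 (.node (nat_lit 5) (.node (nat_lit 4) (.leaf (nat_lit 0x100100080000040000000000002002000000000100100000000000000000000004000000400400a0000000000000000000000c0090010000008002002000000000a001800800000000100040040000000030000000001000c00400200100100000020000014004000000000000400e000)) (.leaf (nat_lit 0x200100140040080030008000004000000001000000000040040000000008002002000000000400c00000040040000040000004000003000000000000080080000000020018000000003000000c00400380080140000008008000000000000800000200080080000020030008000000004))) (.node (nat_lit 6) (.leaf (nat_lit 0x100100080000040000008000001001000001000200100100000000000008000001001002000c00000000040040000040000000000003000400400a00100080000060000000000002005000000400100100000040000000008004005001000000000200080080100020030008000000000)) (.leaf (nat_lit 0x6003001800800700100000020020040000004000000000000800000000000000020008008004004000001800800000000000000010010004004006001000800000600000000000010010000010000001000000c0000000018000002000001c00400000000000040010010000010000006)))))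
noncomputable def F_0 : Tr := (.node (nat_lit 3) (.node (nat_lit 1) (.node (nat_lit 0) (.leaf (nat_lit 0xab29f4d71beee3965af565ff7612fee95efc60e28951c351db730582bb30a29ce679fb649421878840e34936d03c0201)) (.leaf (nat_lit 0xc2cce8a6bdb779fefc57ee98e784596bf597f543d020bb9b493be2174d67c72aa31878040e685db6590130d70a24e002))) (.node (nat_lit 2) (.leaf (nat_lit 0x82189f79d699b2b4d272ebd1d3554d31bdf62ca20e43fefdebef309c71ade78144cb1cc28e5a68a819a45d660050f243)) (.leaf (nat_lit 0x89e81d85f5d6a68baf45349cc72637d8b34c6c93883fdfbff3beb3ab9e051c6b43d74c230a4b2b9e6065699554010284)))) (.node (nat_lit 5) (.node (nat_lit 4) (.leaf (nat_lit 0x91795669979d4aea2c42ba4f376534c8ac7525bf7f70e1c81b9e239bbe84fbc0ed3370b3c22bd306a9e085f0185512c5)) (.leaf (nat_lit 0x91795669979d4aea2c42ba4f376534c8ac7525bf7f70e1c81b9e239bbe84fbc0ed3370b3c22bd306a9e085f0185512c5))) (.node (nat_lit 6) (.leaf (nat_lit 0x5d86a4565522991427a4faac6e37cacf5270cb6fbbbc7b793852374c4ffc0fdeb808b374c5e05cbaba21020759592306))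 (.leaf (nat_lit 0x665598915814726a90ae73e88cb8702b1cc9d37ebcbb8206b4e14cbfd13efc3ef96c2db5c9f4414aca5d88079a5d3347)))))
noncomputable def T : Tr := T_0
noncomputable def J : Tr := J_0
noncomputable def F : Tr := F_0
noncomputable def row (u : ℕ) : ℕ := Nat.land (Nat.shiftRight (force (Nat.shiftRight u (nat_lit 3)) T.get) (Nat.mul (Nat.land u (nat_lit 7)) (nat_lit 170))) (nat_lit 0x3ffffffffffffffffffffffffffffffffffffffffff)
noncomputable def jrow (u : ℕ) : ℕ := Nat.land (Nat.shiftRight (force (Nat.shiftRight u (nat_lit 3)) J.get) (Nat.mul (Nat.land u (nat_lit 7)) (nat_lit 117))) (nat_lit 0x1fffffffffffffffffffffffffffff)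
noncomputable def fget (k fx : ℕ) : ℕ := F.get (Nat.add k fx)
noncomputable def wt0 : LT := (.node (nat_lit 1) (.node (nat_lit 0) (.leaf 3 0 [nat_lit 51, nat_lit 17, nat_lit 34])
(.leaf 3 2 [nat_lit 34, nat_lit 17, nat_lit 51]))
(.node (nat_lit 4) (.node (nat_lit 2) (.leaf 13 2 [nat_lit 102, nat_lit 0, nat_lit 68, nat_lit 119])
(.node (nat_lit 3) (.leaf 17 0 [nat_lit 119, nat_lit 85, nat_lit 102, nat_lit 0, nat_lit 68])
(.leaf 1 0 [nat_lit 17, nat_lit 17, nat_lit 17, nat_lit 17, nat_lit 17, nat_lit 17, nat_lit 17])))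
(.node (nat_lit 5) (.leaf 5 2 [nat_lit 68, nat_lit 0, nat_lit 0, nat_lit 0, nat_lit 0, nat_lit 0, nat_lit 85])
(.leaf 0 0 []))))
noncomputable def wt1 : LT := (.node (nat_lit 2) (.node (nat_lit 0) (.leaf 19 3 [nat_lit 0, nat_lit 68, nat_lit 119, nat_lit 119])
(.node (nat_lit 1) (.leaf 13 4 [nat_lit 68, nat_lit 119, nat_lit 17, nat_lit 102])
(.leaf 9 0 [nat_lit 51, nat_lit 51, nat_lit 0, nat_lit 0, nat_lit 0])))
(.node (nat_lit 6) (.node (nat_lit 4) (.node (nat_lit 3) (.leaf 9 5 [nat_lit 0, nat_lit 51, nat_lit 51, nat_lit 0, nat_lit 0])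
(.leaf 9 3 [nat_lit 0, nat_lit 0, nat_lit 0, nat_lit 51, nat_lit 51]))
(.node (nat_lit 5) (.leaf 17 4 [nat_lit 68, nat_lit 17, nat_lit 119, nat_lit 85, nat_lit 102])
(.leaf 5 4 [nat_lit 0, nat_lit 0, nat_lit 0, nat_lit 0, nat_lit 85, nat_lit 17, nat_lit 68])))
(.leaf 0 0 [])))
noncomputable def wt2 : LT := (.node (nat_lit 1) (.node (nat_lit 0) (.leaf 15 2 [nat_lit 102, nat_lit 34, nat_lit 119])
(.leaf 11 3 [nat_lit 85, nat_lit 51, nat_lit 85]))
(.node (nat_lit 3) (.node (nat_lit 2) (.leaf 3 1 [nat_lit 17, nat_lit 34, nat_lit 17])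
(.leaf 9 1 [nat_lit 51, nat_lit 0, nat_lit 0, nat_lit 0, nat_lit 0]))
(.node (nat_lit 4) (.leaf 9 2 [nat_lit 0, nat_lit 0, nat_lit 0, nat_lit 0, nat_lit 51])
(.leaf 0 0 []))))
noncomputable def wt3 : LT := (.node (nat_lit 1) (.node (nat_lit 0) (.leaf 15 0 [nat_lit 119, nat_lit 51, nat_lit 102])
(.leaf 3 3 [nat_lit 17, nat_lit 51, nat_lit 17]))
(.leaf 0 0 []))
noncomputable def wt4 : LT := (.node (nat_lit 0) (.leaf 7 0 [nat_lit 85])
(.node (nat_lit 2) (.node (nat_lit 1) (.leaf 11 0 [nat_lit 51, nat_lit 85, nat_lit 51])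
(.leaf 5 1 [nat_lit 17, nat_lit 68, nat_lit 0, nat_lit 0, nat_lit 0, nat_lit 0, nat_lit 0]))
(.node (nat_lit 3) (.leaf 17 2 [nat_lit 102, nat_lit 0, nat_lit 68, nat_lit 17, nat_lit 119])
(.leaf 0 0 []))))
noncomputable def wt5 : LT := (.node (nat_lit 1) (.node (nat_lit 0) (.leaf 13 0 [nat_lit 119, nat_lit 17, nat_lit 102, nat_lit 0])
(.leaf 5 3 [nat_lit 0, nat_lit 0, nat_lit 0, nat_lit 0, nat_lit 0, nat_lit 85, nat_lit 17]))
(.node (nat_lit 2) (.leaf 17 5 [nat_lit 17, nat_lit 119, nat_lit 85, nat_lit 102, nat_lit 0])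
(.leaf 0 0 [])))
noncomputable def wt6 : LT := (.node (nat_lit 1) (.node (nat_lit 0) (.leaf 15 1 [nat_lit 51, nat_lit 102, nat_lit 34])
(.leaf 19 2 [nat_lit 0, nat_lit 0, nat_lit 68, nat_lit 119]))
(.node (nat_lit 4) (.node (nat_lit 2) (.leaf 13 1 [nat_lit 17, nat_lit 102, nat_lit 0, nat_lit 68])
(.node (nat_lit 3) (.leaf 19 1 [nat_lit 119, nat_lit 0, nat_lit 0, nat_lit 68])
(.leaf 17 1 [nat_lit 85, nat_lit 102, nat_lit 0, nat_lit 68, nat_lit 17])))
(.leaf 0 0 [])))
noncomputable def wt7 : LT := (.node (nat_lit 1) (.node (nat_lit 0) (.leaf 15 3 [nat_lit 34, nat_lit 119, nat_lit 51])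
(.leaf 13 3 [nat_lit 0, nat_lit 68, nat_lit 119, nat_lit 17]))
(.node (nat_lit 2) (.leaf 17 3 [nat_lit 0, nat_lit 68, nat_lit 17, nat_lit 119, nat_lit 85])
(.leaf 0 0 [])))
noncomputable def wt8 : LT := (.leaf 0 0 [])
noncomputable def sl : List (ℕ × ℕ × List ℕ × List ℕ) := []
/-- the inverse column -/
noncomputable def icol (x : ℕ) : ℕ := List.getD [nat_lit 1, nat_lit 0, nat_lit 3, nat_lit 2, nat_lit 5, nat_lit 4, nat_lit 7, nat_lit 6] x x
noncomputable def inv (x : ℕ) : ℕ := Nat.mul (icol (Nat.div x (nat_lit 17))) (nat_lit 17)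
def cols : List ℕ := [nat_lit 136, nat_lit 0, nat_lit 17, nat_lit 34, nat_lit 51, nat_lit 68, nat_lit 85, nat_lit 102, nat_lit 119]
noncomputable def cl : CL := (.cons (nat_lit 0) (nat_lit 17) (nat_lit 0) (nat_lit 0) wt0
(.cons (nat_lit 17) (nat_lit 0) (nat_lit 13) (nat_lit 1) wt1
(.cons (nat_lit 34) (nat_lit 51) (nat_lit 26) (nat_lit 2) wt2
(.cons (nat_lit 51) (nat_lit 34) (nat_lit 39) (nat_lit 3) wt3
(.cons (nat_lit 68) (nat_lit 85) (nat_lit 52) (nat_lit 4) wt4
(.cons (nat_lit 85) (nat_lit 68) (nat_lit 65) (nat_lit 5) wt5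
(.cons (nat_lit 102) (nat_lit 119) (nat_lit 78) (nat_lit 6) wt6
(.cons (nat_lit 119) (nat_lit 102) (nat_lit 91) (nat_lit 7) wt7
.nil))))))))
def rels : List (List ℕ) := [[0, 0, 0, 0, 0, 0, 0, 0],
[0, 3, 0, 2],
[1, 1, 1, 1, 1, 5, 0, 4],
[4, 4],
[1, 1, 1, 1, 2, 2],
[4, 2, 4, 2],
[5, 1, 7, 0, 6],
[3, 7, 2, 6],
[0, 5, 1, 7, 4, 6],
[5, 1, 1, 6, 6]]
def subs : List (List ℕ) := []
noncomputable def chk : ℕ → Bool := rowChk row jrow fget sl cols (nat_lit 64) (nat_lit 64) (nat_lit 131071) (nat_lit 127) (nat_lit 131072) (nat_lit 136) (nat_lit 153) (nat_lit 8191) (nat_lit 6) (nat_lit 63) (nat_lit 6) (nat_lit 63) cl (nat_lit 104) wt8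
theorem p0 : allB chk 6 0 = true := by decide +kernel
theorem all_chk : AllLt chk 64 := by
  have h := AllLt.zero chk
  have h := h.step 64 p0 (by decide +kernel)
  exact h
/-- column `x` of the final table -/
noncomputable def tab (x u : ℕ) : ℕ := ft fget (nat_lit 6) (nat_lit 63) (nat_lit 6) (nat_lit 63) (Nat.mul x (nat_lit 1)) u
theorem enum {G Ω : Type*} [Group G] [MulAction G Ω] (g : ℕ → G) (ω : Ω)
    (hinv : ∀ x, g (icol x) = (g x)⁻¹) (h1 : g 8 = 1)
    (hrels : ∀ R ∈ rels, ev g R = 1) (hsubs : ∀ S ∈ subs, ev g S • ω = ω) :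
    ∃ pt : ℕ → Ω, pt 0 = ω ∧ (∀ K : Subgroup G, (∀ x, g x ∈ K) → ∀ v, ∃ k ∈ K, pt v = k • ω) ∧
      ∀ x, x < 8 → ∀ u, u < 64 → tab x u < 64 ∧ g x • pt u = pt (tab x u) :=
  sound_scaled g ω row jrow fget sl inv icol cols (nat_lit 64) (nat_lit 64) (nat_lit 131071) (nat_lit 127) (nat_lit 131072) (nat_lit 136) (nat_lit 153) (nat_lit 8191) (nat_lit 6) (nat_lit 63) (nat_lit 6) (nat_lit 63) 7 cl (nat_lit 104) wt8 rels subs 17 (nat_lit 1) 8
    (fun _ => Nat.mul_div_cancel _ (by decide)) hinv h1 hrels hsubs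
    (by decide +kernel) (by decide +kernel) all_chk
end H70.FP7E

namespace H70.FP7
open H70.TM H18.TC Subgroup

noncomputable def rt : RT := ⟨nat_lit 64, nat_lit 6, nat_lit 63,
  (.node (nat_lit 31) (.node (nat_lit 15) (.node (nat_lit 7) (.node (nat_lit 3) (.node (nat_lit 1) (.node (nat_lit 0) (.leaf (nat_lit 0xffef7cefae78df6d74cf2c70beeb6caeaa689e69648e28607de75c6da6585d65544d24503ce34c2ca2481c61440c2040))
(.leaf (nat_lit 0x97ffbbeaa8d847c844d9a3d4c62aef00ce57f738286c7c38cb50f754b7673add062aeb2921f4a691679c6424d0349141)))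
(.node (nat_lit 2) (.leaf (nat_lit 0x21cdc4d15eef810066a52f6bfa47bf25be994793ddf0b031b857f8d8dcac1f5cedc2896a9e25e30e14d869650c38a182))
(.leaf (nat_lit 0xab3ee5f78dfae586b1f94d24a6b65bbbfbde320f303ca3a62684d5b35b7618d7327451088e15a70a27d005749100b1c3))))
(.node (nat_lit 5) (.node (nat_lit 4) (.leaf (nat_lit 0x9215f2d4e5821f0fc12f837d2b4a6edc90fe5067a6651f1aefae404f671faac8b3c6fb6b16742896381d6d85523cc204))
(.leaf (nat_lit 0x825ffaa8c6e7b3bc10f0b2063c70310668cefb6e175595186a1351d240fd7eb1025a2bf9732bb3a2dd777492a949e4c5)))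
(.node (nat_lit 6) (.leaf (nat_lit 0x3c873455bf2c94400c40d9edf4b27e0a3ec7de9c59d9aaef4813a0cc37d189e996864ffa62ea39775178c8ac2a5d3506))
(.leaf (nat_lit 0xf2acfde3f3f61253916358f2d0aba90e7dc6efe99eb0193a51a0397024cc859c578ab6ef409160c0da15b4b74859f487)))))
(.node (nat_lit 11) (.node (nat_lit 9) (.node (nat_lit 8) (.leaf (nat_lit 0x7a487538965fb72f12c36173351dca1285aa5cb6be4dbf42e3f3c78a5e549e90588f4b8377bbc69ace8070cc6b420548))
(.leaf (nat_lit 0x737450134eb1e29173e6ef80fe8d65795a9db23203ee404f893c98f126af661dab51780cf4739b3702a72ed1a67d6089)))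
(.node (nat_lit 10) (.leaf (nat_lit 0x63880c9b3d3ec6a1b9ea8dc971d1484f657297b9df1030bd914baf4174bf681a5ead93db44b1fc380c2c375b638a158a))
(.leaf (nat_lit 0x415e51c5cf699881e0bc5eeecf0a2a7ece2d1378d39420f4ad227a61651b05af9991ef3f30a18f00e776d4dca78625cb))))
(.node (nat_lit 13) (.node (nat_lit 12) (.leaf (nat_lit 0x7401d2062d4a6ab2060ef5f7866ea481339cb56179ca510dd15ec2c10e2e6ff2e9f7e789511a993fcc5fdacce89e360c))
(.leaf (nat_lit 0x336ea0f9846a8e72cffc6128e407558a5c759b8ed42167f37972b4be1afc092dda0d341c6f0b7d247ca914ebac06464d)))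
(.node (nat_lit 14) (.leaf (nat_lit 0x6e9d0fdef815eec37d72d99de89cb6908f858f112b9e18b94d9c33fc1790597e127d4318f00d5128bbaa187a2508368e))
(.leaf (nat_lit 0x24bd5e5c21ce59fd8d8730660f7713d242baa1acbd1639c683ec62bbfa70610038e5549d67cb14311eeb22abed1256cf))))))
(.node (nat_lit 23) (.node (nat_lit 19) (.node (nat_lit 17) (.node (nat_lit 16) (.leaf (nat_lit 0xa3039a85fb496549459184be584e6245e37f182d7376cecbeaa8c12bcdf232f1f63f1ac04fda5781be03567d2e226710))
(.leaf (nat_lit 0xc0e1946a134b064a870ba5bb8b1bebe5f033c97a20b44975f78dc3758549fdb2bed2966e48c21ef0f993b367058e7411)))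
(.node (nat_lit 18) (.leaf (nat_lit 0x9bcab8fe7b0c6fd9089424178c10f41e03e1cd8e8672dcb6d4e584c7003b26e44b34aa77554afe7996b94df8af168752))
(.leaf (nat_lit 0xe2096a32657dbfa529ee470221904f1736dfffc60ed1d1a72f04ac12837ec80409b47c63dda8b65eb8510de5b9bb5293))))
(.node (nat_lit 21) (.node (nat_lit 20) (.leaf (nat_lit 0xc4f2156e3d91ff4aea1036169da0bd1b9f22710bc7cf2b6c3405e599d3b7b8930ad4bfbbe1292965e0607d387aa05c14))
(.leaf (nat_lit 0x69e90e2684d4bb5f6bca575815b10d2066678700aa89ccdfdbc42d0663d7ef748cb11296038d0bfa9fc7e608c3bfac55)))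
(.node (nat_lit 22) (.leaf (nat_lit 0x9d8e26cf613f3cc0a3a9745edc34dc2bcd1a83af7240d27ea068b1a4eba52c5e7501d215b2467b7c152f4a1adb1f0b56))
(.leaf (nat_lit 0x8d057172c95bf110e7216319ec27f32cff41e6fd2d635ba9147866f802442a880d3b0ab8dab7b74da4ba52293f19dc97)))))
(.node (nat_lit 27) (.node (nat_lit 25) (.node (nat_lit 24) (.leaf (nat_lit 0x15d001893cae792128ad05295e5821319d5b1c335cc36dcabc89da2cfeed47a1acf2690e7f4f96e7f542e23f49ab1cd8))
(.leaf (nat_lit 0xeccdbe62523c4207ec9e16da1168b937d442ebfcf5bc5a2a18b063dc92a6c1d3ce1c0571a5e4f85125f4ae40dcb72b99)))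
(.node (nat_lit 26) (.leaf (nat_lit 0x11ba77bc89d030f8a5b01f129a193a391816d1ce45fc6755b4d0bbe0ac23032f472c9dbea93531ad76737837d8d6ea1a))
(.leaf (nat_lit 0xc892d70a417049e9ed7ff678063d033d41d8d611bab8898ecf611600cc68f1c36a4774caae055af50fa2a65e5db3bbdb))))
(.node (nat_lit 29) (.node (nat_lit 28) (.leaf (nat_lit 0xd68c217de772adaeee53c4f64ac456417b4c3a42ff295f896252191e08c6f791676c488d0fac42cefa81de63c0a78d1c))
(.leaf (nat_lit 0xea6f3f9e073ba78caff7054b42d1e34beb09aa5da1c535cc0a415b45e5b350321f641d0fe752981ae384028377ada89d)))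
(.node (nat_lit 30) (.leaf (nat_lit 0xdd1b29404a8f6394f68e2fc1957860d74303bdb70dea81481ca6a7eee2f1770f0018ee26f997d54945bd92b0b3cad25e))
(.leaf (nat_lit 0x579108471e34eaf4bedebcc3a9e6bca1cfd36cf400f701e329d536945d69b4e62ec869a7ec186c5a488c0995e024d2df)))))))
(.node (nat_lit 47) (.node (nat_lit 39) (.node (nat_lit 35) (.node (nat_lit 33) (.node (nat_lit 32) (.leaf (nat_lit 0x7b6b48138d08354b5b484493efdeea2279b9974fd66205471e1fcafd8a73cc37cea6a85db9d343d8d4969606eec320))
(.leaf (nat_lit 0xb2fc63e6999cf5b5bb559813e1f518c10cd23f446e30e2b776d93ea87a08346e852729f6943684882aff5c17bc2c0d61)))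
(.node (nat_lit 34) (.leaf (nat_lit 0xdba9a783ec73d3f5f7e1ee5f553490758714f3d3094402fbc32ae920616ad47be8bad8ec10206584391b59a64f28e362))
(.leaf (nat_lit 0x7c26a818b0613496163be1e003955dc708b87b553b48f3179b3d0aaeabe4d880faddc153b656f29c4f6e43fa5947cb23))))
(.node (nat_lit 37) (.node (nat_lit 36) (.leaf (nat_lit 0xa748ec3f7fb9cdc678c53ea2d945cccaf62b4116ca80934402e7aa9ed19514bfdda35ee599608805f0fc8526bdc073a4))
(.leaf (nat_lit 0xae25ad3405c319d6da295d742fdf89eee0a948767178c3c1def80e7eccd323685c9baca4a23605127e70fd0e14f11aa5)))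
(.node (nat_lit 38) (.leaf (nat_lit 0xc166e1478562c0702371391c33aa8e0a7f7aed4e36a0412134e89529622565939fbfd5e1ac31d23b3f2f2fd97f5b9e6))
(.leaf (nat_lit 0x4c30451ca6a2d6e4170291b93a0e3099d85564d4b753c456c5cf4b908eabb2a0afef3a1fc84fed8e5d0961bf9e30fda7)))))
(.node (nat_lit 43) (.node (nat_lit 41) (.node (nat_lit 40) (.leaf (nat_lit 0xe446ef211fe3db77583caa87f063a66b19c0a6c556e1e490062d4cf6b0b44e49435e1ea0ced25c17237bc2e2fe5197e8))
(.leaf (nat_lit 0x5d47cbc32ade746813a27bbfb508c7b354a50898760efea4a8c6c55bb45a9b167c20f0012bee4ee1560dd3d122733de9)))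
(.node (nat_lit 42) (.leaf (nat_lit 0x66b88d02e793cad3d476ca1cd4cecb9455c858a0697ffd0355bf068448128fe6909fd242c37e87c76bcecd19a4639e2a))
(.leaf (nat_lit 0xfbd9f6f3ba6073379599fbe1b12591b7a42460cfcbe6ed653896488f21f8a0a6f014ddc4c570ea69308f89407474602b))))
(.node (nat_lit 45) (.node (nat_lit 44) (.leaf (nat_lit 0x51f0862f04a416831926ab7a1cfc408f207668e5f8ad0821f9844d0e7d1e9555bf139762ba6735ec8ccabfcdd36fda6c))
(.leaf (nat_lit 0xf67633dbc42522625b30eb3544d2b75bb10be2af9aa527bf5c21cfe5f8a09138e1043734be877ac851b1bb0015654aed)))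
(.node (nat_lit 46) (.leaf (nat_lit 0xcfb31897dbe657ea1c809a4e6c5344678230da7a82deb6bc85fb503d407a7a2b24496e51d0603fd5d2e32b21f14d70ee))
(.leaf (nat_lit 0x1b2242914ba84d799d78caea6483c16da17c2df398029e30fe7b1237d135834b654230c78b3de1e9cd96c7b44a57ee6f))))))
(.node (nat_lit 55) (.node (nat_lit 51) (.node (nat_lit 49) (.node (nat_lit 48) (.leaf (nat_lit 0xbf13db8f9cf7f95b7ad1de0a6321a7529dae204b2299f5910eba3f3195dc482a9379af7c80d2d01c9025385d7b901870))
(.leaf (nat_lit 0x9a789a0689728ecc3d6600c75c20554b4fb9327e707961497dbee4be421e04ae0a5b3591f6470ab7f2d3fab16d3f8f1)))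
(.node (nat_lit 50) (.leaf (nat_lit 0xd2341cb0f604ab1bbf440d8d3352fb5f794a548a41f9465b5831bc813879adf9e2682cfde85c2fb681e625d3b8792932))
(.leaf (nat_lit 0x3457624d9c2d901dc948f7ec536317616c9102b29b2f8a6e404a9e1b99c7d20a23fe58750af98373a21aef1f0ef95f73))))
(.node (nat_lit 53) (.node (nat_lit 52) (.leaf (nat_lit 0x2f5a1f7972868a1f806a00e74d541270277dc1424c1f7db2f3ba6b17320ee91ba6bec5ad058124ff99598f86cdc6a3f4))
(.leaf (nat_lit 0x46cbf9a503089e32bc6c794580ec3884498dc55dd2a974dc6562fdea290f0d4ec109f633fddcb4b86b7ea002766ab7b5)))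
(.node (nat_lit 54) (.leaf (nat_lit 0x4930c729d52ba0545eb88caf1bc98e9ed6ac040595918e62a503350a3f591385db960c21271ccddea70be8fedfff4fb6))
(.leaf (nat_lit 0x857530cb50da00bea21bb2bcbafb2da4eae67e89255b4fde9e071d6786c2fa34fd5501d236a3c9db1305473201e58137)))))
(.node (nat_lit 59) (.node (nat_lit 57) (.node (nat_lit 56) (.leaf (nat_lit 0x59ac0b857d224dd24b44c10a3f975a877a389d0c8873713b0f6326b1f16dfb511d8c2d7395f4aa7e6c68399c2eaf9b8))
(.leaf (nat_lit 0x386ca451a0350c2e0a5fd8a5ae96d9be1ba025ec3c371aa8326553b7ab0bccf77b7080455bf8df6349d213e407df6479)))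
(.node (nat_lit 58) (.leaf (nat_lit 0x1edb83ad22457d6c706519087aaf1afc1a0f2930103be55d6e3d94d7494de7dc8462708685cee2bf3b179b730be2983a))
(.leaf (nat_lit 0x89649db4d08138abe11f72cf27adb2f809314c5ac45fd6d98f9cf0795fc3a677f4e18194d48f2eb2646831ca9a81097b))))
(.node (nat_lit 61) (.node (nat_lit 60) (.leaf (nat_lit 0xb8a3595831805d3b3589c6b10bbcdff6b2ef141b74a278c7e699a125bf9d41839583853078fd9244cde4a88eb2944ffc))
(.leaf (nat_lit 0x28d1536562c7862a4e0790a37f8614cc3c34752b911bbb2d3f7fa4a1ca80bcc271eb65f269096b6e011e9d5ff5988f3d)))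
(.node (nat_lit 62) (.leaf (nat_lit 0x5924ca76d919c07e5f16325bc989c6d8d5040ee8ac0babeb211fe85f7301c6678fabc39a2e9800578435f74961cdcefe))
(.leaf (nat_lit 0xb6e2960eba1d5198f24db7956a7f42f121903621ef26ac4072c9573919853f3d4833b7cb939e01d18a61f84830db7ebf)))))))),
  (nat_lit 0x80c638aa5e7cde61b49f2c498cd16c07b468cf6e9fbe20bf9141c46d74bd6933de599a5054ebbe2cac08775b5c0e1ac0),
  (nat_lit 0xaa89e17de75c7185955144d349245141040c30c2cb28a2892492081c71c61861451441040c30c2082081041040000000),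
  (nat_lit 0xc40441041020430811031021011011020440c11011030840c11011020440c21020440c11020440c20440c20440c2041),
  [nat_lit 1, nat_lit 2, nat_lit 3, nat_lit 4]⟩

theorem okA0 : rt.chkA 1 = true := by decide +kernel
theorem okA1 : rt.chkA 2 = true := by decide +kernel
theorem okA2 : rt.chkA 3 = true := by decide +kernel
theorem okA3 : rt.chkA 4 = true := by decide +kernel
theorem okB : rt.chkB = true := by decide +kernel
noncomputable def tb : GT := ⟨rt, List.forall_mem_cons.2 ⟨okA0, List.forall_mem_cons.2 ⟨okA1, List.forall_mem_cons.2 ⟨okA2, List.forall_mem_cons.2 ⟨okA3, fun _ h => absurd h List.not_mem_nil⟩⟩⟩⟩, okB⟩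

theorem hom_chk : homChk tb (nat_lit 0xadad19b3edd74b528deffbd0e513b60b27bdf29eb3e2d131c25707baa8a89e68648e07d37586d65543cc2c9206143040) 64 FP7E.tab = true := by decide +kernel

/-- the group -/
abbrev E : Type := El tb

noncomputable def r : E := El.of tb 1
noncomputable def x : E := El.of tb 2
noncomputable def y : E := El.of tb 3
noncomputable def w : E := El.of tb 4

theorem card : Nat.card E = 64 := El.card tb

theorem eq_top {K : Subgroup E} (h0 : r ∈ K) (h1 : x ∈ K) (h2 : y ∈ K) (h3 : w ∈ K) : K = ⊤ :=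
  El.eq_top (List.forall_mem_cons.2 ⟨h0, List.forall_mem_cons.2 ⟨h1, List.forall_mem_cons.2 ⟨h2, List.forall_mem_cons.2 ⟨h3, fun _ h => absurd h List.not_mem_nil⟩⟩⟩⟩)

/-- the relations -/
def Rel {G : Type*} [Group G] (r x y w : G) : Prop :=
  r * r * r * r * (r * r * r * r) = 1 ∧
  x * r * x⁻¹ = r⁻¹ ∧
  y * r * y⁻¹ = r * (r * r * r * r) ∧
  y * y = 1 ∧
  x * x = r * r * r * r ∧
  x * y * (x * y) = 1 ∧
  w * r * w⁻¹ = y * r ∧
  w * x * w⁻¹ = x ∧
  w * y * w⁻¹ = r⁻¹ * y * r ∧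
  w * w = y * r * r

instance {G : Type*} [Group G] [DecidableEq G] (r x y w : G) : Decidable (Rel r x y w) := by
  unfold Rel; infer_instance

theorem Rel.map {G G' : Type*} [Group G] [Group G'] (f : G →* G') {r x y w : G}
    (h : Rel r x y w) : Rel (f r) (f x) (f y) (f w) := by
  obtain ⟨h0, h1, h2, h3, h4, h5, h6, h7, h8, h9⟩ := h
  exact ⟨by simpa only [map_mul, map_inv, map_one] using congrArg f h0,
    by simpa only [map_mul, map_inv, map_one] using congrArg f h1,
    by simpa only [map_mul, map_inv, map_one] using congrArg f h2,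
    by simpa only [map_mul, map_inv, map_one] using congrArg f h3,
    by simpa only [map_mul, map_inv, map_one] using congrArg f h4,
    by simpa only [map_mul, map_inv, map_one] using congrArg f h5,
    by simpa only [map_mul, map_inv, map_one] using congrArg f h6,
    by simpa only [map_mul, map_inv, map_one] using congrArg f h7,
    by simpa only [map_mul, map_inv, map_one] using congrArg f h8,
    by simpa only [map_mul, map_inv, map_one] using congrArg f h9⟩

theorem Rel.of_map {G G' : Type*} [Group G] [Group G'] {f : G →* G'} (hf : Function.Injective f)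
    {r x y w : G} (h : Rel (f r) (f x) (f y) (f w)) : Rel r x y w := by
  obtain ⟨h0, h1, h2, h3, h4, h5, h6, h7, h8, h9⟩ := h
  exact ⟨hf (by simpa only [map_mul, map_inv, map_one] using h0),
    hf (by simpa only [map_mul, map_inv, map_one] using h1),
    hf (by simpa only [map_mul, map_inv, map_one] using h2),
    hf (by simpa only [map_mul, map_inv, map_one] using h3),
    hf (by simpa only [map_mul, map_inv, map_one] using h4),
    hf (by simpa only [map_mul, map_inv, map_one] using h5),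
    hf (by simpa only [map_mul, map_inv, map_one] using h6),
    hf (by simpa only [map_mul, map_inv, map_one] using h7),
    hf (by simpa only [map_mul, map_inv, map_one] using h8),
    hf (by simpa only [map_mul, map_inv, map_one] using h9)⟩

theorem Rel.prod {G G' : Type*} [Group G] [Group G'] {r x y w : G} {r' x' y' w' : G'}
    (h : Rel r x y w) (k : Rel r' x' y' w') :
    Rel (r, r') (x, x') (y, y') (w, w') := by
  obtain ⟨h0, h1, h2, h3, h4, h5, h6, h7, h8, h9⟩ := h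
  obtain ⟨k0, k1, k2, k3, k4, k5, k6, k7, k8, k9⟩ := k
  exact ⟨Prod.ext h0 k0, Prod.ext h1 k1, Prod.ext h2 k2, Prod.ext h3 k3, Prod.ext h4 k4, Prod.ext h5 k5, Prod.ext h6 k6, Prod.ext h7 k7, Prod.ext h8 k8, Prod.ext h9 k9⟩

theorem Rel.sat {G : Type*} [Group G] {r x y w : G} (h : Rel r x y w) :
    ∀ R ∈ FP7E.rels, ev (lt [r, x, y, w]) R = 1 := by
  obtain ⟨h0, h1, h2, h3, h4, h5, h6, h7, h8, h9⟩ := h
  exact List.forall_mem_cons.2 ⟨show r * (r * (r * (r * (r * (r * (r * (r * 1))))))) = 1 by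
      simpa only [mul_assoc, mul_inv_rev, inv_inv, inv_one, mul_one, one_mul] using mul_inv_eq_one.2 h0,
    List.forall_mem_cons.2 ⟨show x * (r * (x⁻¹ * (r * 1))) = 1 by
      simpa only [mul_assoc, mul_inv_rev, inv_inv, inv_one, mul_one, one_mul] using mul_inv_eq_one.2 h1,
    List.forall_mem_cons.2 ⟨show y * (r * (y⁻¹ * (r⁻¹ * (r⁻¹ * (r⁻¹ * (r⁻¹ * (r⁻¹ * 1))))))) = 1 by
      simpa only [mul_assoc, mul_inv_rev, inv_inv, inv_one, mul_one, one_mul] using mul_inv_eq_one.2 h2,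
    List.forall_mem_cons.2 ⟨show y * (y * 1) = 1 by
      simpa only [mul_assoc, mul_inv_rev, inv_inv, inv_one, mul_one, one_mul] using mul_inv_eq_one.2 h3,
    List.forall_mem_cons.2 ⟨show x * (x * (r⁻¹ * (r⁻¹ * (r⁻¹ * (r⁻¹ * 1))))) = 1 by
      simpa only [mul_assoc, mul_inv_rev, inv_inv, inv_one, mul_one, one_mul] using mul_inv_eq_one.2 h4,
    List.forall_mem_cons.2 ⟨show x * (y * (x * (y * 1))) = 1 by
      simpa only [mul_assoc, mul_inv_rev, inv_inv, inv_one, mul_one, one_mul] using mul_inv_eq_one.2 h5,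
    List.forall_mem_cons.2 ⟨show w * (r * (w⁻¹ * (r⁻¹ * (y⁻¹ * 1)))) = 1 by
      simpa only [mul_assoc, mul_inv_rev, inv_inv, inv_one, mul_one, one_mul] using mul_inv_eq_one.2 h6,
    List.forall_mem_cons.2 ⟨show w * (x * (w⁻¹ * (x⁻¹ * 1))) = 1 by
      simpa only [mul_assoc, mul_inv_rev, inv_inv, inv_one, mul_one, one_mul] using mul_inv_eq_one.2 h7,
    List.forall_mem_cons.2 ⟨show w * (y * (w⁻¹ * (r⁻¹ * (y⁻¹ * (r * 1))))) = 1 by
      simpa only [mul_assoc, mul_inv_rev, inv_inv, inv_one, mul_one, one_mul] using mul_inv_eq_one.2 h8,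
    List.forall_mem_cons.2 ⟨show w * (w * (r⁻¹ * (r⁻¹ * (y⁻¹ * 1)))) = 1 by
      simpa only [mul_assoc, mul_inv_rev, inv_inv, inv_one, mul_one, one_mul] using mul_inv_eq_one.2 h9,
    fun _ h => absurd h List.not_mem_nil⟩⟩⟩⟩⟩⟩⟩⟩⟩⟩

theorem Rel.of_sat {G : Type*} [Group G] {r x y w : G}
    (h : ∀ R ∈ FP7E.rels, ev (lt [r, x, y, w]) R = 1) : Rel r x y w := by
  obtain ⟨h0, h⟩ := List.forall_mem_cons.1 h
  obtain ⟨h1, h⟩ := List.forall_mem_cons.1 h
  obtain ⟨h2, h⟩ := List.forall_mem_cons.1 h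
  obtain ⟨h3, h⟩ := List.forall_mem_cons.1 h
  obtain ⟨h4, h⟩ := List.forall_mem_cons.1 h
  obtain ⟨h5, h⟩ := List.forall_mem_cons.1 h
  obtain ⟨h6, h⟩ := List.forall_mem_cons.1 h
  obtain ⟨h7, h⟩ := List.forall_mem_cons.1 h
  obtain ⟨h8, h⟩ := List.forall_mem_cons.1 h
  obtain ⟨h9, h⟩ := List.forall_mem_cons.1 h
  exact ⟨mul_inv_eq_one.1 (by simpa only [mul_assoc, mul_inv_rev, inv_inv, inv_one, mul_one, one_mul] using (show r * (r * (r * (r * (r * (r * (r * (r * 1))))))) = 1 from h0)),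
    mul_inv_eq_one.1 (by simpa only [mul_assoc, mul_inv_rev, inv_inv, inv_one, mul_one, one_mul] using (show x * (r * (x⁻¹ * (r * 1))) = 1 from h1)),
    mul_inv_eq_one.1 (by simpa only [mul_assoc, mul_inv_rev, inv_inv, inv_one, mul_one, one_mul] using (show y * (r * (y⁻¹ * (r⁻¹ * (r⁻¹ * (r⁻¹ * (r⁻¹ * (r⁻¹ * 1))))))) = 1 from h2)),
    mul_inv_eq_one.1 (by simpa only [mul_assoc, mul_inv_rev, inv_inv, inv_one, mul_one, one_mul] using (show y * (y * 1) = 1 from h3)),
    mul_inv_eq_one.1 (by simpa only [mul_assoc, mul_inv_rev, inv_inv, inv_one, mul_one, one_mul] using (show x * (x * (r⁻¹ * (r⁻¹ * (r⁻¹ * (r⁻¹ * 1))))) = 1 from h4)),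
    mul_inv_eq_one.1 (by simpa only [mul_assoc, mul_inv_rev, inv_inv, inv_one, mul_one, one_mul] using (show x * (y * (x * (y * 1))) = 1 from h5)),
    mul_inv_eq_one.1 (by simpa only [mul_assoc, mul_inv_rev, inv_inv, inv_one, mul_one, one_mul] using (show w * (r * (w⁻¹ * (r⁻¹ * (y⁻¹ * 1)))) = 1 from h6)),
    mul_inv_eq_one.1 (by simpa only [mul_assoc, mul_inv_rev, inv_inv, inv_one, mul_one, one_mul] using (show w * (x * (w⁻¹ * (x⁻¹ * 1))) = 1 from h7)),
    mul_inv_eq_one.1 (by simpa only [mul_assoc, mul_inv_rev, inv_inv, inv_one, mul_one, one_mul] using (show w * (y * (w⁻¹ * (r⁻¹ * (y⁻¹ * (r * 1))))) = 1 from h8)),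
    mul_inv_eq_one.1 (by simpa only [mul_assoc, mul_inv_rev, inv_inv, inv_one, mul_one, one_mul] using (show w * (w * (r⁻¹ * (r⁻¹ * (y⁻¹ * 1)))) = 1 from h9))⟩

theorem rel : Rel r x y w := by decide +kernel

theorem model {G : Type*} [Group G] {r' x' y' w' : G} (h : Rel r' x' y' w') :
    ∃ φ : E →* G, φ r = r' ∧ φ x = x' ∧ φ y = y' ∧ φ w = w' := by
  obtain ⟨pt, h0, -, hT⟩ := FP7E.enum (lt [r', x', y', w']) (1 : G)
    (lt_icol _ _ (k := 4) rfl (by decide +kernel)) (lt_ge le_rfl) h.sat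
    (fun _ h => absurd h List.not_mem_nil)
  obtain ⟨φ, hφ⟩ := exists_hom tb (l := [r', x', y', w']) rfl h0 hT hom_chk
  exact ⟨φ, by simpa only [List.cons.injEq, and_true] using
    (show [φ r, φ x, φ y, φ w] = [r', x', y', w'] from hφ)⟩

end H70.FP7
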